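import Cfsg.Agent.Lib.BaumannBlock.Block

/-!
Consequences of the shape of the image, and elements centralizing a block.
-/

set_option autoImplicit false

namespace Cfsg.Agent.BaumannBlock

open Subgroup
open scoped commutatorElement

section Shape

variable {M : Type} [CommGroup M] {R : Subgroup (MulAut M)}

/-- An automorphism moving a perfect group only by central factors centralizes it. -/
theorem mem_centralizer_of_central (hperf : ⁅R, R⁆ = R) {β : MulAut M}
    (h : ∀ r ∈ R, β * r * β⁻¹ * r⁻¹ ∈ centralizer (R : Set (MulAut M)) ⊓ R) :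
    β ∈ centralizer (R : Set (MulAut M)) := by
  suffices key : R ≤ centralizer ({β} : Set (MulAut M)) from
    fun r hr => ((key hr) β rfl).symm
  rw [← hperf, commutator_le]
  intro a ha b hb x hx
  rw [Set.mem_singleton_iff] at hx
  subst hx
  set z := x * a * x⁻¹ * a⁻¹ with hzd
  set w := x * b * x⁻¹ * b⁻¹ with hwd
  have ea : x * a * x⁻¹ = z * a := by rw [hzd]; group
  have eb : x * b * x⁻¹ = w * b := by rw [hwd]; group
  have hz := h a ha
  have hw := h b hb
  have za : a * z = z * a := hz.1 a ha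
  have zb : b * z = z * b := hz.1 b hb
  have wa : a * w = w * a := hw.1 a ha
  have wb : b * w = w * b := hw.1 b hb
  have zw : w * z = z * w := hz.1 w hw.2
  have : x * ⁅a, b⁆ * x⁻¹ = ⁅a, b⁆ := by
    rw [commutatorElement_def, show x * (a * b * a⁻¹ * b⁻¹) * x⁻¹ =
      (x * a * x⁻¹) * (x * b * x⁻¹) * (x * a * x⁻¹)⁻¹ * (x * b * x⁻¹)⁻¹ by group, ea, eb]
    calc z * a * (w * b) * (z * a)⁻¹ * (w * b)⁻¹
        = z * (a * w) * b * a⁻¹ * z⁻¹ * b⁻¹ * w⁻¹ := by group
      _ = z * (w * a) * b * a⁻¹ * z⁻¹ * b⁻¹ * w⁻¹ := by rw [wa]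
      _ = (z * w) * (a * b * a⁻¹) * (z⁻¹ * b⁻¹) * w⁻¹ := by group
      _ = (z * w) * (a * b * a⁻¹) * (b * z)⁻¹ * w⁻¹ := by group
      _ = (z * w) * (a * b * a⁻¹) * (z * b)⁻¹ * w⁻¹ := by rw [zb]
      _ = (z * w) * (a * b * a⁻¹ * b⁻¹) * (w * z)⁻¹ := by group
      _ = (z * w) * (a * b * a⁻¹ * b⁻¹) * (z * w)⁻¹ := by rw [zw]
      _ = a * b * a⁻¹ * b⁻¹ := by
          have c1 : Commute (z * w) a := Commute.mul_left za.symm wa.symm
          have c2 : Commute (z * w) b := Commute.mul_left zb.symm wb.symm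
          rw [mul_inv_eq_iff_eq_mul]
          exact ((c1.mul_right c2).mul_right c1.inv_right).mul_right c2.inv_right
  rwa [mul_inv_eq_iff_eq_mul] at this

theorem commutator_ne_bot_of_noncomm {g h : MulAut M} (hg : g ∈ R) (hh : h ∈ R) (hne : g * h ≠ h * g) :
    ⁅R, R⁆ ≠ ⊥ := fun e => hne (commutatorElement_eq_one_iff_mul_comm.mp
  (mem_bot.mp (e ▸ commutator_mem_commutator hg hh)))

end Shape

namespace Coord

variable {G : Type*} [Group G] {p : ℕ} {E U U₀ : Subgroup G} (c : Coord p E U U₀)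

theorem four_le_card : 4 ≤ Nat.card c.M := by
  rcases c.shape with ⟨-, h⟩ | ⟨-, h, -⟩ | ⟨-, h, -⟩ <;> omega

theorem noncomm_of_ne_two (hp : p ≠ 2) : ⁅c.ρ.range, c.ρ.range⁆ ≠ ⊥ := by
  rcases c.shape with ⟨⟨h1, h2, -⟩, -⟩ | ⟨hp2, -⟩ | ⟨-, -, -, -, ⟨g, hg, h, hh, hne⟩, -⟩
  · rw [h1]; exact h2
  · exact absurd hp2 hp
  · exact commutator_ne_bot_of_noncomm hg hh hne

theorem range_ne_bot : c.ρ.range ≠ ⊥ := by
  rcases c.shape with ⟨⟨-, h2, -⟩, -⟩ | ⟨-, -, h, -⟩ | ⟨-, -, -, -, ⟨g, hg, h, hh, hne⟩, -⟩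
  · exact h2
  · intro e; rw [e, Subgroup.card_bot] at h; omega
  · intro e
    rw [e, mem_bot] at hg
    exact hne (by rw [hg, one_mul, mul_one])

theorem big_of_card (h : 16 ≤ Nat.card c.M) : BigShape c.ρ.range := by
  rcases c.shape with ⟨h1, -⟩ | ⟨-, h1, -⟩ | ⟨-, h1, -⟩
  · exact h1
  all_goals omega

theorem small_cases (h : Nat.card c.M < 16) :
    (p = 2 ∧ CyclicShape c.ρ.range) ∨ (p = 3 ∧ QuatShape c.ρ.range) := by
  rcases c.shape with ⟨-, h1⟩ | h1 | h1
  · omega
  · exact Or.inl h1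
  · exact Or.inr h1

/-- The element of the induced action attached to an element normalizing the section. -/
theorem aut_mul_eq {g h k : ↥(normalizer (U : Set G) ⊓ normalizer (U₀ : Set G))} (e : (k : G) = g * h) :
    c.aut k = c.aut g * c.aut h := by
  rw [← map_mul]; congr 1; exact Subtype.ext e

theorem mem_normalizers (c : Coord p E U U₀) (hE : E ≤ normalizer (U₀ : Set G)) (e : ↥E) :
    (e : G) ∈ normalizer (U : Set G) ⊓ normalizer (U₀ : Set G) :=
  ⟨c.le e.2, hE e.2⟩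

end Coord

variable {G : Type*} [Group G] [Finite G] {p : ℕ} [Fact p.Prime] {T : Sylow p G} {E : Subgroup G}

/-- The image of an element centralizing `W_E` commutes with the block modulo `O_p(E)`. -/
theorem comm_mem_pCoreOf_of_centralizes (hG : centralizer (pCore p G : Set G) ≤ pCore p G)
    (hE : IsBaumannBlock p (T : Subgroup G) E) {x : G} (hx : x ∈ normalizer (E : Set G))
    (hc : x ∈ centralizer (bWE p E : Set G)) {e : G} (he : e ∈ E) :
    x * e * x⁻¹ * e⁻¹ ∈ pCoreOf p E := by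
  obtain ⟨c, hcQ⟩ := exists_coord hG hE
  have hN : ∀ g ∈ normalizer (E : Set G), g ∈ normalizer (bW p E : Set G) ⊓ normalizer (bZ p E : Set G) :=
    fun g hg => ⟨normalizer_le_normalizer_bW E hg, normalizer_le_normalizer_bZ E hg⟩
  have h1 : c.aut ⟨x, hN x hx⟩ = 1 := (c.aut_eq_one_iff _).mpr fun u hu =>
    trivial_of_centralizes hG hE (normalizer_le_normalizer_bZ E hx) hc hu
  have hmem : x * e * x⁻¹ * e⁻¹ ∈ E := mul_mem ((mem_normalizer_iff.mp hx e).mp he) (inv_mem he)
  refine mem_pCoreOf_of_trivial hG hE hmem ((c.aut_eq_one_iff ⟨_, hN _ (le_normalizer hmem)⟩).mp ?_)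
  rw [show (⟨_, hN _ (le_normalizer hmem)⟩ : ↥(normalizer (bW p E : Set G) ⊓ normalizer (bZ p E : Set G))) =
    ⟨x, hN x hx⟩ * ⟨e, hN e (le_normalizer he)⟩ * ⟨x, hN x hx⟩⁻¹ * ⟨e, hN e (le_normalizer he)⟩⁻¹ from rfl]
  simp only [map_mul, map_inv, h1, inv_one, one_mul, mul_one, mul_inv_cancel]

/-- An element of order prime to `p` centralizing `W_E`, and trivial on `O_p(E) / W` if the block is
exceptional, centralizes the block. -/
theorem centralizes_of_trivial (hG : centralizer (pCore p G : Set G) ≤ pCore p G)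
    (hE : IsBaumannBlock p (T : Subgroup G) E) {x : G} (hx : x ∈ normalizer (E : Set G))
    (hxp : (orderOf x).Coprime p) (hc : x ∈ centralizer (bWE p E : Set G))
    (hexc : IsExceptional p E → ∀ q ∈ pCoreOf p E, x * q * x⁻¹ * q⁻¹ ∈ bW p E) :
    x ∈ centralizer (E : Set G) := by
  have hQp := LocalStructure.isPGroup_pCoreOf p E
  have hQ : ∀ q ∈ pCoreOf p E, x * q = q * x := by
    by_cases he : IsExceptional p E
    · obtain ⟨-, hQQ, -⟩ := exceptional_facts hE he
      have hcW : ∀ q ∈ pCoreOf p E, ∀ w ∈ bW p E, q * w = w * q := fun q hq w hw =>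
        (pCoreOf_centralizes_bW E hq w hw).symm
      have hZ : bZ p E ≤ centralizer ({x} : Set G) := by
        rw [← hQQ, commutator_le]
        intro a ha b hb y hy
        rw [Set.mem_singleton_iff] at hy
        rw [hy]
        set u := x * a * x⁻¹ * a⁻¹ with hu
        set v := x * b * x⁻¹ * b⁻¹ with hv
        have hau : u ∈ bW p E := hexc he a ha
        have hbv : v ∈ bW p E := hexc he b hb
        have e : x * ⁅a, b⁆ * x⁻¹ = ⁅a, b⁆ := by
          rw [commutatorElement_def, show x * (a * b * a⁻¹ * b⁻¹) * x⁻¹ =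
            (x * a * x⁻¹) * (x * b * x⁻¹) * (x * a * x⁻¹)⁻¹ * (x * b * x⁻¹)⁻¹ by group,
            show x * a * x⁻¹ = u * a by rw [hu]; group, show x * b * x⁻¹ = v * b by rw [hv]; group]
          have h1 : a * v = v * a := hcW a ha v hbv
          have h2 : b * u⁻¹ = u⁻¹ * b := hcW b hb _ (inv_mem hau)
          calc u * a * (v * b) * (u * a)⁻¹ * (v * b)⁻¹
              = u * (a * v) * b * a⁻¹ * u⁻¹ * b⁻¹ * v⁻¹ := by group
            _ = u * (v * a) * b * a⁻¹ * u⁻¹ * b⁻¹ * v⁻¹ := by rw [h1]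
            _ = (u * v) * (a * b * a⁻¹ * b⁻¹) * (b * u⁻¹) * b⁻¹ * v⁻¹ := by group
            _ = (u * v) * (a * b * a⁻¹ * b⁻¹) * (u⁻¹ * b) * b⁻¹ * v⁻¹ := by rw [h2]
            _ = (u * v) * ((a * b * a⁻¹ * b⁻¹) * (u⁻¹ * v⁻¹)) := by group
            _ = (u * v) * ((u⁻¹ * v⁻¹) * (a * b * a⁻¹ * b⁻¹)) := by
                rw [hcW _ (mul_mem (mul_mem (mul_mem ha hb) (inv_mem ha)) (inv_mem hb)) _
                  (mul_mem (inv_mem hau) (inv_mem hbv))]
            _ = u * (v * u⁻¹) * v⁻¹ * (a * b * a⁻¹ * b⁻¹) := by group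
            _ = u * (u⁻¹ * v) * v⁻¹ * (a * b * a⁻¹ * b⁻¹) := by
                rw [hcW _ (bW_le_pCoreOf E hbv) _ (inv_mem hau)]
            _ = _ := by group
        rwa [mul_inv_eq_iff_eq_mul] at e
      have hW : ∀ w ∈ bW p E, x * w = w * x := by
        intro w hw
        obtain ⟨z, hz, v, hv, rfl⟩ := exists_mul_of_mem_bW hG hE hw
        exact (Commute.mul_right (hZ hz x rfl) (hc v hv).symm).eq
      exact fun q hq => commute_of_coprime hQp hxp (bW_le_pCoreOf E (hexc he q hq))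
        (hW _ (hexc he q hq))
    · rw [IsExceptional, not_not] at he
      intro q hq
      exact (hc q (pCoreOf_eq_bWE hE he ▸ hq)).symm
  intro e he
  have h := comm_mem_pCoreOf_of_centralizes hG hE hx hc he
  exact (commute_of_coprime hQp hxp h (hQ _ h)).symm

end Cfsg.Agent.BaumannBlock
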