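import Cfsg.Prelude.Def_BaumannBlocks
import Cfsg.Agent.Lib.PGroup.Thompson
import Cfsg.Agent.Lib.LocalStructure.Basic
import Cfsg.Agent.Lib.Transfer.Residual
import Cfsg.Agent.Lib.PCore.Basic

/-!
`B(T)`-blocks: weak closure of the Baumann subgroup; a `p`-subgroup normalized by a block `E` and by
`B(T)` normalizes `E` and `[P, E] ≤ P ∩ E`.
-/

set_option autoImplicit false

namespace Cfsg.Agent.BaumannBlock

open Subgroup

variable {G : Type*} [Group G] {p : ℕ}

theorem centerThompsonOf_map_equiv (e : G ≃* G) (P : Subgroup G) :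
    (centerThompsonOf p P).map e.toMonoidHom = centerThompsonOf p (P.map e.toMonoidHom) := by
  rw [centerThompsonOf, centerThompsonOf, Subgroup.map_inf _ _ _ e.injective,
    ← PGroup.thompsonSubgroupOf_map_equiv e P]
  congr 1
  ext x
  constructor
  · rintro ⟨c, hc, rfl⟩ _ ⟨q, hq, rfl⟩
    rw [← map_mul, ← map_mul, hc q hq]
  · intro hx
    refine ⟨e.symm x, fun q hq => ?_, e.apply_symm_apply x⟩
    have := congrArg e.symm (hx (e q) ⟨q, hq, rfl⟩)
    rwa [map_mul, map_mul, e.symm_apply_apply] at this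

theorem baumannSubgroupOf_map_equiv (e : G ≃* G) (P : Subgroup G) :
    (baumannSubgroupOf p P).map e.toMonoidHom = baumannSubgroupOf p (P.map e.toMonoidHom) := by
  rw [baumannSubgroupOf, baumannSubgroupOf, Subgroup.map_inf _ _ _ e.injective,
    ← centerThompsonOf_map_equiv, ← PGroup.map_omegaOne_of_injective e.injective]
  congr 1
  ext x
  constructor
  · rintro ⟨c, hc, rfl⟩ _ ⟨q, hq, rfl⟩
    rw [← map_mul, ← map_mul, hc q hq]
  · intro hx
    refine ⟨e.symm x, fun q hq => ?_, e.apply_symm_apply x⟩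
    have := congrArg e.symm (hx (e q) ⟨q, hq, rfl⟩)
    rwa [map_mul, map_mul, e.symm_apply_apply] at this

theorem normalizer_le_normalizer_baumann (P : Subgroup G) :
    normalizer (P : Set G) ≤ normalizer (baumannSubgroupOf p P : Set G) := fun _ hg =>
  PGroup.mem_normalizer_of_map_conj_eq
    (by rw [baumannSubgroupOf_map_equiv, PGroup.map_conj_eq_of_mem_normalizer hg])

theorem thompsonSubgroupOf_le_baumann (P : Subgroup G) :
    thompsonSubgroupOf p P ≤ baumannSubgroupOf p P := by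
  refine le_inf (PGroup.thompsonSubgroupOf_le P) ?_
  rw [le_centralizer_iff]
  exact (PGroup.omegaOne_le _).trans inf_le_right

/-- The Baumann subgroup is weakly closed. -/
theorem baumann_eq_of_le [Finite G] [Fact p.Prime] {T T' : Sylow p G}
    (h : baumannSubgroupOf p (T : Subgroup G) ≤ T') :
    baumannSubgroupOf p (T' : Subgroup G) = baumannSubgroupOf p (T : Subgroup G) := by
  obtain ⟨g, hg⟩ := MulAction.exists_smul_eq G T T'
  have hT' : (T' : Subgroup G) = (T : Subgroup G).map (MulAut.conj g).toMonoidHom := by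
    rw [← hg]; rfl
  have hcard : ∀ K : Subgroup G, Nat.card ↥(K.map (MulAut.conj g).toMonoidHom) = Nat.card ↥K :=
    fun K => card_map_of_injective (MulAut.conj g).injective
  have hJ : thompsonSubgroupOf p (T' : Subgroup G) = thompsonSubgroupOf p (T : Subgroup G) := by
    refine (eq_of_le_of_card_ge ?_ ?_).symm
    · rw [PGroup.thompsonSubgroupOf_eq]
      refine sSup_le fun A hA => PGroup.le_thompsonSubgroupOf ?_
      refine ⟨((PGroup.le_thompsonSubgroupOf hA).trans (thompsonSubgroupOf_le_baumann _)).trans h, hA.2.1,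
        fun C hC hCe => ?_⟩
      have hC' : C.map (MulAut.conj g⁻¹).toMonoidHom ≤ T := by
        rintro _ ⟨c, hc, rfl⟩
        obtain ⟨t, ht, htc⟩ := (hT' ▸ hC hc : c ∈ (T : Subgroup G).map (MulAut.conj g).toMonoidHom)
        rw [← htc]
        show g⁻¹ * (g * t * g⁻¹) * g⁻¹⁻¹ ∈ (T : Subgroup G)
        rwa [show g⁻¹ * (g * t * g⁻¹) * g⁻¹⁻¹ = t by group]
      have := hA.2.2 _ hC' (PGroup.isElementaryAbelian_map hCe _)
      rwa [card_map_of_injective (MulAut.conj g⁻¹).injective] at this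
    · rw [hT', ← PGroup.thompsonSubgroupOf_map_equiv, hcard]
  have hle : baumannSubgroupOf p (T : Subgroup G) ≤ baumannSubgroupOf p (T' : Subgroup G) := by
    refine le_inf h ?_
    rw [centerThompsonOf, hJ]
    exact inf_le_right
  refine (eq_of_le_of_card_ge hle ?_).symm
  rw [hT', ← baumannSubgroupOf_map_equiv, hcard]

theorem le_normalizer_baumann [Finite G] [Fact p.Prime] (T : Sylow p G) {P : Subgroup G} (hP : IsPGroup p P)
    (hBP : baumannSubgroupOf p (T : Subgroup G) ≤ normalizer (P : Set G)) :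
    P ≤ normalizer (baumannSubgroupOf p (T : Subgroup G) : Set G) := by
  have hB : IsPGroup p ↥(baumannSubgroupOf p (T : Subgroup G)) := T.2.to_le inf_le_left
  obtain ⟨T', hT'⟩ := (hB.to_sup_of_normal_right' hP hBP).exists_le_sylow
  rw [← baumann_eq_of_le (le_sup_left.trans hT' : _ ≤ (T' : Subgroup G))]
  exact (le_sup_right.trans hT').trans (le_normalizer.trans (normalizer_le_normalizer_baumann _))

/-- If `x` of order prime to `p` moves `q` by a `p`-element `c` which it centralizes modulo `N`, then `c ∈ N`. -/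
theorem mem_of_coprime_action [Finite G] [Fact p.Prime] {N : Subgroup G} {x q : G}
    (hx : (orderOf x).Coprime p) (hxN : x ∈ normalizer (N : Set G))
    (hcN : x * q * x⁻¹ * q⁻¹ ∈ normalizer (N : Set G)) (hcp : ∃ k, orderOf (x * q * x⁻¹ * q⁻¹) = p ^ k)
    (hc : x * (x * q * x⁻¹ * q⁻¹) * x⁻¹ * (x * q * x⁻¹ * q⁻¹)⁻¹ ∈ N) :
    x * q * x⁻¹ * q⁻¹ ∈ N := by
  set c := x * q * x⁻¹ * q⁻¹ with hcdef
  have hxq : x * q * x⁻¹ = c * q := by rw [hcdef]; group
  have hx_pow : ∀ i : ℕ, (x * c * x⁻¹) ^ i * (c ^ i)⁻¹ ∈ N := by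
    intro i
    induction i with
    | zero => simp
    | succ i ih =>
      have h1 := (mem_normalizer_iff.mp hcN _).mp ih
      have h2 := N.mul_mem hc h1
      rw [pow_succ', pow_succ' c]
      rw [show x * c * x⁻¹ * c⁻¹ * (c * ((x * c * x⁻¹) ^ i * (c ^ i)⁻¹) * c⁻¹) =
        x * c * x⁻¹ * (x * c * x⁻¹) ^ i * (c * c ^ i)⁻¹ by group] at h2
      exact h2
  have key : ∀ i : ℕ, x ^ i * q * (x ^ i)⁻¹ * (c ^ i * q)⁻¹ ∈ N := by
    intro i
    induction i with
    | zero => simp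
    | succ i ih =>
      have h1 := (mem_normalizer_iff.mp hxN _).mp ih
      have h2 : x * (c ^ i * q) * x⁻¹ * (c ^ (i + 1) * q)⁻¹ ∈ N := by
        have := hx_pow i
        rw [show x * (c ^ i * q) * x⁻¹ = (x * c ^ i * x⁻¹) * (x * q * x⁻¹) by group, ← conj_pow, hxq,
          show (x * c * x⁻¹) ^ i * (c * q) * (c ^ (i + 1) * q)⁻¹ = (x * c * x⁻¹) ^ i * (c ^ i)⁻¹ by
            rw [pow_succ]; group]
        exact this
      have := N.mul_mem h1 h2
      rw [show x * (x ^ i * q * (x ^ i)⁻¹ * (c ^ i * q)⁻¹) * x⁻¹ * (x * (c ^ i * q) * x⁻¹ * (c ^ (i + 1) * q)⁻¹) =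
        x * x ^ i * q * (x * x ^ i)⁻¹ * (c ^ (i + 1) * q)⁻¹ by group, ← pow_succ'] at this
      exact this
  have hn := key (orderOf x)
  rw [pow_orderOf_eq_one, one_mul, inv_one, mul_one, mul_inv_rev, ← mul_assoc, mul_inv_cancel, one_mul] at hn
  have hn' : c ^ orderOf x ∈ N := by simpa using N.inv_mem hn
  obtain ⟨k, hk⟩ := hcp
  obtain ⟨m, hm⟩ := exists_pow_eq_self_of_coprime (x := c) (n := orderOf x) (by rw [hk]; exact hx.pow_right k)
  rw [← hm]
  exact N.pow_mem hn' m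

theorem isPGroup_exists_orderOf [Fact p.Prime] {P : Subgroup G} (hP : IsPGroup p P) {x : G} (hx : x ∈ P) :
    ∃ k, orderOf x = p ^ k := by
  obtain ⟨k, hk⟩ := IsPGroup.iff_orderOf.mp hP ⟨x, hx⟩
  exact ⟨k, by rwa [Subgroup.orderOf_mk] at hk⟩

section Block

variable [Finite G] [Fact p.Prime] {T : Sylow p G} {E : Subgroup G}

theorem baumann_le_normalizer (hE : ⁅E, baumannSubgroupOf p (T : Subgroup G)⁆ = E) :
    baumannSubgroupOf p (T : Subgroup G) ≤ normalizer (E : Set G) := by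
  intro b hb
  have key : ∀ b ∈ baumannSubgroupOf p (T : Subgroup G), ∀ e ∈ E, b * e * b⁻¹ ∈ E := fun b hb e he => by
    have h1 : e * b * e⁻¹ * b⁻¹ ∈ E := hE ▸ commutator_mem_commutator he hb
    have h2 := E.mul_mem (E.inv_mem h1) he
    rwa [show (e * b * e⁻¹ * b⁻¹)⁻¹ * e = b * e * b⁻¹ by group] at h2
  refine mem_normalizer_iff.mpr fun e => ⟨key b hb e, fun h => ?_⟩
  have := key b⁻¹ (inv_mem hb) _ h
  rwa [show b⁻¹ * (b * e * b⁻¹) * b⁻¹⁻¹ = e by group] at this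

/-- Every element of a `p`-residual-perfect subgroup lies in a subgroup containing its elements of order prime to `p`. -/
theorem le_of_coprime_mem (hE : pResidualOf p E = E) {K : Subgroup G}
    (h : ∀ x ∈ E, (orderOf x).Coprime p → x ∈ K) : E ≤ K := by
  rw [← hE, pResidualOf, map_le_iff_le_comap, Transfer.pResidual_eq_residual, Transfer.residual, closure_le]
  exact fun x hx => h x x.2 (by rwa [Subgroup.orderOf_coe])

/-- A `p`-subgroup normalized by `E` and `B(T)`. -/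
theorem comm_mem (hE1 : pResidualOf p E = E) (hE2 : ⁅E, baumannSubgroupOf p (T : Subgroup G)⁆ = E)
    {P : Subgroup G} (hP : IsPGroup p P) (hBP : baumannSubgroupOf p (T : Subgroup G) ≤ normalizer (P : Set G))
    (hEP : E ≤ normalizer (P : Set G)) : ∀ e ∈ E, ∀ q ∈ P, e * q * e⁻¹ * q⁻¹ ∈ P ⊓ E := by
  set B := baumannSubgroupOf p (T : Subgroup G)
  have hBE := baumann_le_normalizer hE2
  have hPB := le_normalizer_baumann T hP hBP
  set X := E ⊔ B with hX
  set M := P ⊓ X with hM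
  have hXP : X ≤ normalizer (P : Set G) := sup_le hEP hBP
  have hXM : X ≤ normalizer (M : Set G) := LocalStructure.le_normalizer_inf hXP le_normalizer
  let K : Subgroup G :=
    { carrier := {x | x ∈ X ∧ ∀ q ∈ P, x * q * x⁻¹ * q⁻¹ ∈ M}
      one_mem' := ⟨one_mem X, fun q _ => by simp⟩
      mul_mem' := fun {x y} hx hy => ⟨mul_mem hx.1 hy.1, fun q hq => by
        have h1 := (mem_normalizer_iff.mp (hXM hx.1) _).mp (hy.2 q hq)
        have h2 := M.mul_mem h1 (hx.2 q hq)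
        rwa [show x * (y * q * y⁻¹ * q⁻¹) * x⁻¹ * (x * q * x⁻¹ * q⁻¹) = x * y * q * (x * y)⁻¹ * q⁻¹ by group] at h2⟩
      inv_mem' := fun {x} hx => ⟨inv_mem hx.1, fun q hq => by
        have h1 := (mem_normalizer_iff.mp (hXM (inv_mem hx.1)) _).mp (M.inv_mem (hx.2 q hq))
        rwa [show x⁻¹ * (x * q * x⁻¹ * q⁻¹)⁻¹ * x⁻¹⁻¹ = x⁻¹ * q * x⁻¹⁻¹ * q⁻¹ by group] at h1⟩ }
  have hKn : ∀ g ∈ X, ∀ x ∈ K, g * x * g⁻¹ ∈ K := fun g hg x hx => ⟨mul_mem (mul_mem hg hx.1) (inv_mem hg), fun q hq => by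
    have h1 := (mem_normalizer_iff.mp (hXM hg) _).mp
      (hx.2 (g⁻¹ * q * g⁻¹⁻¹) ((mem_normalizer_iff.mp (hXP (inv_mem hg)) q).mp hq))
    rwa [show g * (x * (g⁻¹ * q * g⁻¹⁻¹) * x⁻¹ * (g⁻¹ * q * g⁻¹⁻¹)⁻¹) * g⁻¹ =
      g * x * g⁻¹ * q * (g * x * g⁻¹)⁻¹ * q⁻¹ by group] at h1⟩
  have hBK : B ≤ K := fun b hb => ⟨mem_sup_right hb, fun q hq => by
    refine ⟨P.mul_mem ((mem_normalizer_iff.mp (hBP hb) q).mp hq) (P.inv_mem hq), mem_sup_right ?_⟩
    have := B.mul_mem hb ((mem_normalizer_iff.mp (hPB hq) b⁻¹).mp (B.inv_mem hb))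
    rwa [show b * (q * b⁻¹ * q⁻¹) = b * q * b⁻¹ * q⁻¹ by group] at this⟩
  have hEK : E ≤ K := by
    rw [← hE2, commutator_le]
    intro e he b hb
    rw [commutatorElement_def]
    exact K.mul_mem (hKn e (mem_sup_left he) b (hBK hb)) (K.inv_mem (hBK hb))
  have hXE : X ≤ normalizer (E : Set G) := sup_le le_normalizer hBE
  set N := P ⊓ E with hN
  have hXN : X ≤ normalizer (N : Set G) := LocalStructure.le_normalizer_inf hXP hXE
  let K2 : Subgroup G :=
    { carrier := {x | x ∈ X ∧ ∀ q ∈ P, x * q * x⁻¹ * q⁻¹ ∈ N}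
      one_mem' := ⟨one_mem X, fun q _ => by simp⟩
      mul_mem' := fun {x y} hx hy => ⟨mul_mem hx.1 hy.1, fun q hq => by
        have h1 := (mem_normalizer_iff.mp (hXN hx.1) _).mp (hy.2 q hq)
        have h2 := N.mul_mem h1 (hx.2 q hq)
        rwa [show x * (y * q * y⁻¹ * q⁻¹) * x⁻¹ * (x * q * x⁻¹ * q⁻¹) = x * y * q * (x * y)⁻¹ * q⁻¹ by group] at h2⟩
      inv_mem' := fun {x} hx => ⟨inv_mem hx.1, fun q hq => by
        have h1 := (mem_normalizer_iff.mp (hXN (inv_mem hx.1)) _).mp (N.inv_mem (hx.2 q hq))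
        rwa [show x⁻¹ * (x * q * x⁻¹ * q⁻¹)⁻¹ * x⁻¹⁻¹ = x⁻¹ * q * x⁻¹⁻¹ * q⁻¹ by group] at h1⟩ }
  have hEK2 : E ≤ K2 := le_of_coprime_mem hE1 fun x hxE hxp => ⟨mem_sup_left hxE, fun q hq => by
    have hcM := (hEK hxE).2 q hq
    refine mem_of_coprime_action hxp (hXN (mem_sup_left hxE)) (hXN hcM.2)
      (isPGroup_exists_orderOf hP hcM.1) ⟨?_, ?_⟩
    · exact P.mul_mem ((mem_normalizer_iff.mp (hEP hxE) _).mp hcM.1) (P.inv_mem hcM.1)
    · have := E.mul_mem hxE ((mem_normalizer_iff.mp (hXE hcM.2) x⁻¹).mp (E.inv_mem hxE))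
      simpa [mul_assoc] using this⟩
  exact fun e he q hq => (hEK2 he).2 q hq

theorem le_normalizer_block (hE1 : pResidualOf p E = E) (hE2 : ⁅E, baumannSubgroupOf p (T : Subgroup G)⁆ = E)
    {P : Subgroup G} (hP : IsPGroup p P) (hBP : baumannSubgroupOf p (T : Subgroup G) ≤ normalizer (P : Set G))
    (hEP : E ≤ normalizer (P : Set G)) : P ≤ normalizer (E : Set G) := by
  have key : ∀ q ∈ P, ∀ e ∈ E, q * e * q⁻¹ ∈ E := fun q hq e he => by
    have := E.mul_mem (E.inv_mem (comm_mem hE1 hE2 hP hBP hEP e he q hq).2) he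
    rwa [show (e * q * e⁻¹ * q⁻¹)⁻¹ * e = q * e * q⁻¹ by group] at this
  intro q hq
  refine mem_normalizer_iff.mpr fun e => ⟨key q hq e, fun h => ?_⟩
  have := key q⁻¹ (inv_mem hq) _ h
  rwa [show q⁻¹ * (q * e * q⁻¹) * q⁻¹⁻¹ = e by group] at this

theorem inf_le_pCoreOf {P : Subgroup G} (hP : IsPGroup p P) (hEP : E ≤ normalizer (P : Set G)) :
    P ⊓ E ≤ pCoreOf p E :=
  LocalStructure.le_pCoreOf inf_le_right (LocalStructure.le_normalizer_inf hEP le_normalizer) (hP.to_le inf_le_left)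

end Block

end Cfsg.Agent.BaumannBlock
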