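import Cfsg.Agent.Lib.BaumannBlock.PermNormalizer
import Cfsg.Prelude.Def_BaumannBlocks

/-!
Coordinates for the natural module of a block on a section, with the shape of the image and the
induced action of the normalizer of the section.
-/

set_option autoImplicit false

namespace Cfsg.Agent.BaumannBlock

open Subgroup Matrix

variable {G : Type*} [Group G]

/-- Coordinates of a section `U / U₀` as a natural module of `E`. -/
structure Coord (p : ℕ) (E U U₀ : Subgroup G) where
  /-- The module. -/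
  M : Type
  [instGroup : CommGroup M]
  [instFinite : Finite M]
  /-- The coordinate map. -/
  ψ : ↥U →* M
  /-- The action. -/
  ρ : ↥E →* MulAut M
  le : E ≤ normalizer (U : Set G)
  le₀ : U₀ ≤ U
  surj : Function.Surjective ψ
  ker : ∀ u : ↥U, ψ u = 1 ↔ (u : G) ∈ U₀
  act : ∀ (e : ↥E) (u w : ↥U), (w : G) = (e : G) * u * (e : G)⁻¹ → ψ w = ρ e (ψ u)
  pow_eq : ∀ m : M, m ^ p = 1
  commutant : CommCommutant ρ.range
  shape : (BigShape ρ.range ∧ 16 ≤ Nat.card M) ∨ (p = 2 ∧ CyclicShape ρ.range) ∨ (p = 3 ∧ QuatShape ρ.range)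
  neg : p ≠ 2 → ∃ e : ↥E, ∀ m, ρ e m = m⁻¹
  outer : 16 ≤ Nat.card M → Outer p ρ.range

attribute [instance] Coord.instGroup Coord.instFinite

/-! ### Construction from the linear clause -/

section Linear

variable {F K : Type} [Field F] [Field K]

/-- Coordinatewise transport of the plane. -/
def planeEquiv (φ : F ≃+* K) : Multiplicative (Fin 2 → F) ≃* Multiplicative (Fin 2 → K) :=
  AddEquiv.toMultiplicative
    { toFun := fun v i => φ (v i)
      invFun := fun v i => φ.symm (v i)
      left_inv := fun v => funext fun i => φ.symm_apply_apply _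
      right_inv := fun v => funext fun i => φ.apply_symm_apply _
      map_add' := fun v w => funext fun i => map_add φ _ _ }

theorem actsAsSL2_transport (φ : F ≃+* K) {E U U₀ : Subgroup G}
    (h : ActsAsSL2OnSection F (commutator _) E U U₀) : ActsAsSL2OnSection K (commutator _) E U U₀ := by
  obtain ⟨h1, h2, ρ, ψ, hρ, hψ, hker, hact⟩ := h
  set f := Matrix.SpecialLinearGroup.map (n := Fin 2) φ.toRingHom with hf
  have hsurj : Function.Surjective f := fun g => by
    refine ⟨Matrix.SpecialLinearGroup.map φ.symm.toRingHom g, Matrix.SpecialLinearGroup.ext _ _ fun i j => ?_⟩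
    simp [f]
  refine ⟨h1, h2, f.comp ρ, (planeEquiv φ).toMonoidHom.comp ψ, ?_, (planeEquiv φ).surjective.comp hψ,
    fun u => ?_, fun e u => ?_⟩
  · rw [MonoidHom.range_comp, hρ, _root_.commutator_def, Subgroup.map_commutator,
      ← MonoidHom.range_eq_map, MonoidHom.range_eq_top.mpr hsurj]
    rfl
  · rw [← hker u]
    exact (planeEquiv φ).map_eq_one_iff
  · obtain ⟨w, hw, hw'⟩ := hact e u
    refine ⟨w, hw, funext fun i => ?_⟩
    show φ (Multiplicative.toAdd (ψ w) i) = _
    rw [hw']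
    exact RingHom.map_mulVec φ.toRingHom _ _ i

theorem card_commutator_transport (φ : F ≃+* K) :
    Nat.card ↥(commutator (SpecialLinearGroup (Fin 2) K)) =
      Nat.card ↥(commutator (SpecialLinearGroup (Fin 2) F)) := by
  set f := Matrix.SpecialLinearGroup.map (n := Fin 2) φ.toRingHom with hf
  have hsurj : Function.Surjective f := fun g => by
    refine ⟨Matrix.SpecialLinearGroup.map φ.symm.toRingHom g, Matrix.SpecialLinearGroup.ext _ _ fun i j => ?_⟩
    simp [f]
  have hinj : Function.Injective f := fun g h e => by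
    refine Matrix.SpecialLinearGroup.ext _ _ fun i j => φ.injective ?_
    exact congrArg (fun g : SpecialLinearGroup (Fin 2) K => (g : Matrix (Fin 2) (Fin 2) K) i j) e
  have : (commutator (SpecialLinearGroup (Fin 2) F)).map f = commutator _ := by
    rw [_root_.commutator_def, Subgroup.map_commutator, ← MonoidHom.range_eq_map, MonoidHom.range_eq_top.mpr hsurj]
    rfl
  rw [← this, card_map_of_injective hinj]

theorem coord_of_sl2_aux [Fintype F] {p : ℕ} {E U U₀ : Subgroup G}
    (h : ActsAsSL2OnSection F (commutator _) E U U₀) (hp : (p : F) = 0)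
    (hshape : CommCommutant ((commutator (SpecialLinearGroup (Fin 2) F)).map slAct) ∧
      ((BigShape ((commutator (SpecialLinearGroup (Fin 2) F)).map slAct) ∧ 16 ≤ Nat.card (Fin 2 → F)) ∨
        (p = 2 ∧ CyclicShape ((commutator (SpecialLinearGroup (Fin 2) F)).map slAct)) ∨
        (p = 3 ∧ QuatShape ((commutator (SpecialLinearGroup (Fin 2) F)).map slAct))))
    (hneg : p ≠ 2 → ∃ g ∈ commutator (SpecialLinearGroup (Fin 2) F),
      (g : Matrix (Fin 2) (Fin 2) F) = -1)
    (houter : 16 ≤ Nat.card (Fin 2 → F) →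
      Outer p ((commutator (SpecialLinearGroup (Fin 2) F)).map slAct)) :
    ∃ c : Coord p E U U₀, Nat.card c.ρ.range = Nat.card ↥(commutator (SpecialLinearGroup (Fin 2) F)) := by
  obtain ⟨h1, h2, ρ, ψ, hρ, hψ, hker, hact⟩ := h
  have hR : (slAct.comp ρ).range = (commutator _).map slAct := by rw [MonoidHom.range_comp, hρ]
  refine ⟨{
    M := Multiplicative (Fin 2 → F)
    ψ := ψ, ρ := slAct.comp ρ, le := h1, le₀ := h2, surj := hψ, ker := hker
    act := fun e u w hw => ?_
    pow_eq := fun m => Multiplicative.toAdd.injective (funext fun i => ?_)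
    commutant := hR ▸ hshape.1
    shape := hR ▸ ?_
    neg := fun hp2 => ?_
    outer := fun h16 => hR ▸ houter (by simpa only [Nat.card_congr Multiplicative.toAdd] using h16) }, ?_⟩
  · obtain ⟨w', hw', hw''⟩ := hact e u
    rw [show w = w' from Subtype.ext (hw.trans hw'.symm)]
    exact Multiplicative.toAdd.injective hw''
  · simp [hp]
  · simpa only [Nat.card_congr Multiplicative.toAdd] using hshape.2
  · obtain ⟨g, hg, hg'⟩ := hneg hp2
    obtain ⟨e, rfl⟩ : g ∈ ρ.range := hρ ▸ hg
    refine ⟨e, fun m => Multiplicative.toAdd.injective ?_⟩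
    rw [MonoidHom.comp_apply, slAct_apply, toAdd_ofAdd, hg', Matrix.neg_mulVec, Matrix.one_mulVec]
    rfl
  · show Nat.card ↥(slAct.comp ρ).range = _
    rw [hR, card_map_of_injective slAct_injective]

theorem coord_of_sl2 [Fintype F] {p n : ℕ} [Fact p.Prime] (hcard : Fintype.card F = p ^ n) {E U U₀ : Subgroup G}
    (h : ActsAsSL2OnSection F (commutator _) E U U₀) :
    ∃ c : Coord p E U U₀, Nat.card c.ρ.range = Nat.card ↥(commutator (SpecialLinearGroup (Fin 2) F)) := by
  have hp : p.Prime := Fact.out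
  have h1 : 1 < Fintype.card F := Fintype.one_lt_card
  have hn : n ≠ 0 := fun h0 => by rw [hcard, h0, pow_zero] at h1; exact lt_irrefl 1 h1
  have hpF : (p : F) = 0 := by
    have := Nat.cast_card_eq_zero F
    rw [hcard, Nat.cast_pow] at this
    exact pow_eq_zero_iff hn |>.mp this
  by_cases h4 : 4 ≤ Fintype.card F
  · have h4' : 4 ≤ Nat.card F := by rwa [Nat.card_eq_fintype_card]
    have hperf : commutator (SpecialLinearGroup (Fin 2) F) = ⊤ :=
      GL.SL_commutator_eq_top 2 le_rfl fun _ => GL.exists_sq_ne_one_of_four_le_card h4'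
    have hR : (commutator (SpecialLinearGroup (Fin 2) F)).map slAct = slAct.range := by
      rw [hperf, MonoidHom.range_eq_map]
    have : CharP F p := (CharP.charP_iff_prime_eq_zero hp).mpr hpF
    refine coord_of_sl2_aux h hpF ⟨hR ▸ (sl2_big h4').1, Or.inl ⟨hR ▸ (sl2_big h4').2, ?_⟩⟩ (fun _ =>
      ⟨⟨-1, by simp [Matrix.det_fin_two]⟩, hperf ▸ mem_top _, rfl⟩) fun _ => hR ▸ outer_linear h4'
    rw [Nat.card_fun, Nat.card_fin]
    nlinarith
  · obtain hq | hq : Fintype.card F = 2 ∨ Fintype.card F = 3 := by omega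
    · have hp2 : p = 2 := by
        rw [hcard] at hq
        exact (Nat.prime_dvd_prime_iff_eq hp Nat.prime_two).mp (hq ▸ dvd_pow_self p hn)
      let φ : F ≃+* ZMod 2 := (ZMod.ringEquivOfPrime F Nat.prime_two hq).symm
      obtain ⟨c, hc⟩ := coord_of_sl2_aux (p := p) (F := ZMod 2) (actsAsSL2_transport φ h)
        (by rw [hp2]; rfl) ⟨shape_two.1, Or.inr (Or.inl ⟨hp2, shape_two.2⟩)⟩ (fun h => absurd hp2 h)
        (fun h16 => absurd h16 (by simp))
      exact ⟨c, hc.trans (card_commutator_transport φ)⟩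
    · have hp3 : p = 3 := by
        rw [hcard] at hq
        exact (Nat.prime_dvd_prime_iff_eq hp Nat.prime_three).mp (hq ▸ dvd_pow_self p hn)
      let φ : F ≃+* ZMod 3 := (ZMod.ringEquivOfPrime F Nat.prime_three hq).symm
      obtain ⟨c, hc⟩ := coord_of_sl2_aux (p := p) (F := ZMod 3) (actsAsSL2_transport φ h)
        (by rw [hp3]; rfl) ⟨shape_three.1, Or.inr (Or.inr ⟨hp3, shape_three.2⟩)⟩ (fun _ =>
        ⟨i3 * j3 * i3⁻¹ * j3⁻¹, by
          rw [_root_.commutator_def]
          exact commutator_mem_commutator (mem_top i3) (mem_top j3), by decide +kernel⟩)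
        (fun h16 => absurd h16 (by simp))
      exact ⟨c, hc.trans (card_commutator_transport φ)⟩

end Linear

/-! ### Construction from the symmetric clause -/

theorem coord_of_perm {m : ℕ} {E U U₀ : Subgroup G} (hm : 1 ≤ m)
    (h : ActsAsOddPermModuleOnSection (2 * m + 1) (alternatingGroup (Fin (2 * m + 1))) E U U₀) :
    ∃ c : Coord 2 E U U₀, Nat.card c.ρ.range = Nat.card ↥(alternatingGroup (Fin (2 * m + 1))) := by
  obtain ⟨h1, h2, ρ, ψ, hρ, hev, hψ, hker, hact⟩ := h
  let ψ' : ↥U →* Multiplicative ↥(evenWeight (2 * m + 1)) :=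
    { toFun := fun u => Multiplicative.ofAdd ⟨Multiplicative.toAdd (ψ u), hev u⟩
      map_one' := by simp
      map_mul' := fun u v => by simp; rfl }
  have hR : ((permAct (2 * m + 1)).comp ρ).range = (alternatingGroup _).map (permAct _) := by
    rw [MonoidHom.range_comp, hρ]
  have hsh : CommCommutant ((alternatingGroup (Fin (2 * m + 1))).map (permAct _)) ∧
      ((BigShape ((alternatingGroup (Fin (2 * m + 1))).map (permAct _)) ∧
          16 ≤ Nat.card (Multiplicative ↥(evenWeight (2 * m + 1)))) ∨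
        ((2 : ℕ) = 2 ∧ CyclicShape ((alternatingGroup (Fin (2 * m + 1))).map (permAct _))) ∨
        ((2 : ℕ) = 3 ∧ QuatShape ((alternatingGroup (Fin (2 * m + 1))).map (permAct _)))) := by
    by_cases h3 : m = 1
    · subst h3
      exact ⟨alt_three.1, Or.inr (Or.inl ⟨rfl, alt_three.2⟩)⟩
    · have hb := alt_big (n := 2 * m + 1) (by omega) ⟨m, rfl⟩
      refine ⟨hb.1, Or.inl ⟨hb.2, ?_⟩⟩
      rw [Nat.card_congr Multiplicative.toAdd, card_evenWeight]
      calc 16 = 2 ^ 4 := by norm_num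
        _ ≤ _ := Nat.pow_le_pow_right (by norm_num) (by omega)
  refine ⟨{
    M := Multiplicative ↥(evenWeight (2 * m + 1))
    ψ := ψ', ρ := (permAct _).comp ρ, le := h1, le₀ := h2
    surj := fun v => ?_
    ker := fun u => ?_
    act := fun e u w hw => ?_
    pow_eq := fun v => Multiplicative.toAdd.injective (Subtype.ext (funext fun i => ?_))
    commutant := hR ▸ hsh.1
    shape := hR ▸ hsh.2
    neg := fun h => absurd rfl h
    outer := fun h16 => hR ▸ outer_alt (by
      by_contra h5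
      have hm1 : m = 1 := by omega
      subst hm1
      rw [Nat.card_congr Multiplicative.toAdd, card_evenWeight] at h16
      norm_num at h16) ⟨m, rfl⟩ }, ?_⟩
  · obtain ⟨u, hu⟩ := hψ (Multiplicative.toAdd v).1 (Multiplicative.toAdd v).2
    exact ⟨u, Multiplicative.toAdd.injective (Subtype.ext hu)⟩
  · rw [← hker u]
    constructor
    · intro h
      exact Multiplicative.toAdd.injective (congrArg (fun v => (Multiplicative.toAdd v).1) h)
    · intro h
      exact Multiplicative.toAdd.injective (Subtype.ext (congrArg Multiplicative.toAdd h))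
  · obtain ⟨w', hw', hw''⟩ := hact e u
    rw [show w = w' from Subtype.ext (hw.trans hw'.symm)]
    exact Multiplicative.toAdd.injective (Subtype.ext (funext hw''))
  · simp [pow_two, CharTwo.add_self_eq_zero]
  · show Nat.card ↥((permAct _).comp ρ).range = _
    rw [hR, card_map_of_injective (permAct_injective (by omega))]

/-! ### The induced action of the normalizer of the section -/

namespace Coord

variable {p : ℕ} {E U U₀ : Subgroup G} (c : Coord p E U U₀)

theorem ψ_congr {g : G} (hg : g ∈ normalizer (U₀ : Set G)) {u u' w w' : ↥U} (h : c.ψ u = c.ψ u')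
    (hw : (w : G) = g * u * g⁻¹) (hw' : (w' : G) = g * u' * g⁻¹) : c.ψ w = c.ψ w' := by
  have h1 : c.ψ (u⁻¹ * u') = 1 := by rw [map_mul, map_inv, h, inv_mul_cancel]
  have h2 : c.ψ (w⁻¹ * w') = 1 := by
    refine (c.ker _).mpr ?_
    have := (mem_normalizer_iff.mp hg _).mp ((c.ker _).mp h1)
    simp only [Subgroup.coe_mul, InvMemClass.coe_inv, hw, hw'] at this ⊢
    rwa [show (g * u * g⁻¹)⁻¹ * (g * u' * g⁻¹) = g * ((u : G)⁻¹ * u') * g⁻¹ by group]
  rw [map_mul, map_inv] at h2
  exact inv_mul_eq_one.mp h2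

/-- A section of the coordinate map. -/
noncomputable def sec : c.M → ↥U := Function.surjInv c.surj

theorem ψ_sec (m : c.M) : c.ψ (c.sec m) = m := Function.surjInv_eq c.surj m

/-- Conjugation on the section. -/
noncomputable def autFun (g : ↥(normalizer (U : Set G) ⊓ normalizer (U₀ : Set G))) (m : c.M) : c.M :=
  c.ψ ⟨(g : G) * (c.sec m : G) * (g : G)⁻¹,
    (mem_normalizer_iff.mp g.2.1 _).mp (c.sec m).2⟩

theorem autFun_eq (g : ↥(normalizer (U : Set G) ⊓ normalizer (U₀ : Set G))) (u w : ↥U)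
    (hw : (w : G) = (g : G) * u * (g : G)⁻¹) : c.ψ w = c.autFun g (c.ψ u) :=
  c.ψ_congr g.2.2 (c.ψ_sec _).symm hw rfl

theorem autFun_mul (g h : ↥(normalizer (U : Set G) ⊓ normalizer (U₀ : Set G))) (m : c.M) :
    c.autFun (g * h) m = c.autFun g (c.autFun h m) := by
  obtain ⟨u, rfl⟩ := c.surj m
  have h1 : (h : G) * u * (h : G)⁻¹ ∈ U := (mem_normalizer_iff.mp h.2.1 _).mp u.2
  have h2 : (g : G) * ((h : G) * u * (h : G)⁻¹) * (g : G)⁻¹ ∈ U := (mem_normalizer_iff.mp g.2.1 _).mp h1
  rw [← c.autFun_eq h u ⟨_, h1⟩ rfl, ← c.autFun_eq g ⟨_, h1⟩ ⟨_, h2⟩ rfl,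
    ← c.autFun_eq (g * h) u ⟨_, h2⟩ (by simp [mul_assoc])]

theorem autFun_map_mul (g : ↥(normalizer (U : Set G) ⊓ normalizer (U₀ : Set G))) (m m' : c.M) :
    c.autFun g (m * m') = c.autFun g m * c.autFun g m' := by
  obtain ⟨u, rfl⟩ := c.surj m
  obtain ⟨v, rfl⟩ := c.surj m'
  have h1 : (g : G) * u * (g : G)⁻¹ ∈ U := (mem_normalizer_iff.mp g.2.1 _).mp u.2
  have h2 : (g : G) * v * (g : G)⁻¹ ∈ U := (mem_normalizer_iff.mp g.2.1 _).mp v.2
  rw [← c.autFun_eq g u ⟨_, h1⟩ rfl, ← c.autFun_eq g v ⟨_, h2⟩ rfl, ← map_mul c.ψ, ← map_mul c.ψ]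
  exact (c.autFun_eq g (u * v) _ (by simp [mul_assoc])).symm

theorem autFun_one (m : c.M) : c.autFun 1 m = m := by
  obtain ⟨u, rfl⟩ := c.surj m
  exact (c.autFun_eq 1 u u (by simp)).symm

/-- The induced automorphisms of the coordinates. -/
noncomputable def aut : ↥(normalizer (U : Set G) ⊓ normalizer (U₀ : Set G)) →* MulAut c.M where
  toFun g :=
    { toFun := c.autFun g
      invFun := c.autFun g⁻¹
      left_inv := fun m => by rw [← c.autFun_mul, inv_mul_cancel, c.autFun_one]
      right_inv := fun m => by rw [← c.autFun_mul, mul_inv_cancel, c.autFun_one]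
      map_mul' := c.autFun_map_mul g }
  map_one' := MulEquiv.ext c.autFun_one
  map_mul' g h := MulEquiv.ext (c.autFun_mul g h)

theorem aut_eq (g : ↥(normalizer (U : Set G) ⊓ normalizer (U₀ : Set G))) (u w : ↥U)
    (hw : (w : G) = (g : G) * u * (g : G)⁻¹) : c.ψ w = c.aut g (c.ψ u) :=
  c.autFun_eq g u w hw

theorem aut_eq_ρ (e : ↥E) (g : ↥(normalizer (U : Set G) ⊓ normalizer (U₀ : Set G))) (h : (g : G) = e) :
    c.aut g = c.ρ e := by
  ext m
  obtain ⟨u, rfl⟩ := c.surj m
  have h1 : (g : G) * u * (g : G)⁻¹ ∈ U := (mem_normalizer_iff.mp g.2.1 _).mp u.2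
  rw [← c.aut_eq g u ⟨_, h1⟩ rfl]
  exact c.act e u ⟨_, h1⟩ (by rw [← h])

theorem aut_eq_one_iff (g : ↥(normalizer (U : Set G) ⊓ normalizer (U₀ : Set G))) :
    c.aut g = 1 ↔ ∀ u ∈ U, (g : G) * u * (g : G)⁻¹ * u⁻¹ ∈ U₀ := by
  constructor
  · intro h u hu
    have h1 : (g : G) * u * (g : G)⁻¹ ∈ U := (mem_normalizer_iff.mp g.2.1 _).mp hu
    have h2 := c.aut_eq g ⟨u, hu⟩ ⟨_, h1⟩ rfl
    rw [h, MulAut.one_apply] at h2
    have := (c.ker (⟨_, h1⟩ * (⟨u, hu⟩ : ↥U)⁻¹)).mp (by rw [map_mul, map_inv, h2, mul_inv_cancel])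
    simpa using this
  · intro h
    ext m
    obtain ⟨u, rfl⟩ := c.surj m
    have h1 : (g : G) * u * (g : G)⁻¹ ∈ U := (mem_normalizer_iff.mp g.2.1 _).mp u.2
    rw [← c.aut_eq g u ⟨_, h1⟩ rfl, MulAut.one_apply, ← mul_inv_eq_one, ← map_inv, ← map_mul, c.ker]
    simpa using h u u.2

theorem card_eq : Nat.card c.M = U₀.relIndex U := by
  have hk : c.ψ.ker = U₀.subgroupOf U := by
    ext u
    rw [MonoidHom.mem_ker, c.ker, mem_subgroupOf]
  rw [Subgroup.relIndex, ← hk, Subgroup.index_ker, MonoidHom.range_eq_top.mpr c.surj, Subgroup.card_top]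

end Coord

end Cfsg.Agent.BaumannBlock
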