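import Cfsg.Agent.Lib.BaumannBlock.Conj
import Cfsg.Agent.Lib.BaumannBlock.Coord
import Cfsg.Agent.Lib.LocalStructure.PClosed

/-!
The modules `W = Ω₁Z(O_p(E))`, `Z = C_W(E)` and `W_E = [W, E]` of a block `E`, and coordinates whose
kernel is `O_p(E)`.
-/

set_option autoImplicit false

namespace Cfsg.Agent.BaumannBlock

open Subgroup
open scoped commutatorElement

variable {G : Type*} [Group G] {p : ℕ}

/-- `W = Ω₁Z(O_p(E))`. -/
abbrev bW (p : ℕ) (E : Subgroup G) : Subgroup G := omegaOneCenter p (pCoreOf p E)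

/-- `Z = C_W(E)`. -/
abbrev bZ (p : ℕ) (E : Subgroup G) : Subgroup G := bW p E ⊓ centralizer (E : Set G)

/-- `W_E = [W, E]`. -/
abbrev bWE (p : ℕ) (E : Subgroup G) : Subgroup G := ⁅bW p E, E⁆

/-! ### Invariance -/

theorem map_bW (e : G ≃* G) (E : Subgroup G) : (bW p E).map e.toMonoidHom = bW p (E.map e.toMonoidHom) := by
  rw [bW, map_omegaOneCenter_equiv, map_pCoreOf_equiv]

theorem map_bZ (e : G ≃* G) (E : Subgroup G) : (bZ p E).map e.toMonoidHom = bZ p (E.map e.toMonoidHom) := by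
  rw [bZ, Subgroup.map_inf _ _ _ e.injective, map_bW, map_centralizer_equiv]

theorem map_bWE (e : G ≃* G) (E : Subgroup G) : (bWE p E).map e.toMonoidHom = bWE p (E.map e.toMonoidHom) := by
  rw [bWE, map_commutator, map_bW]

theorem normalizer_le_normalizer_bW (E : Subgroup G) :
    normalizer (E : Set G) ≤ normalizer (bW p E : Set G) := fun g hg =>
  LocalStructure.mem_normalizer_of_map_conj (by rw [map_bW, LocalStructure.map_conj_eq_self hg])

theorem normalizer_le_normalizer_bZ (E : Subgroup G) :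
    normalizer (E : Set G) ≤ normalizer (bZ p E : Set G) := fun g hg =>
  LocalStructure.mem_normalizer_of_map_conj (by rw [map_bZ, LocalStructure.map_conj_eq_self hg])

theorem normalizer_le_normalizer_bWE (E : Subgroup G) :
    normalizer (E : Set G) ≤ normalizer (bWE p E : Set G) := fun g hg =>
  LocalStructure.mem_normalizer_of_map_conj (by rw [map_bWE, LocalStructure.map_conj_eq_self hg])

theorem le_normalizer_bW (E : Subgroup G) : E ≤ normalizer (bW p E : Set G) :=
  le_normalizer.trans (normalizer_le_normalizer_bW E)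

theorem le_normalizer_bZ (E : Subgroup G) : E ≤ normalizer (bZ p E : Set G) :=
  le_normalizer.trans (normalizer_le_normalizer_bZ E)

theorem le_normalizer_bWE (E : Subgroup G) : E ≤ normalizer (bWE p E : Set G) :=
  le_normalizer.trans (normalizer_le_normalizer_bWE E)

theorem bW_le_pCoreOf (E : Subgroup G) : bW p E ≤ pCoreOf p E := omegaOneCenter_le _

theorem bW_le (E : Subgroup G) : bW p E ≤ E :=
  (bW_le_pCoreOf E).trans (LocalStructure.pCoreOf_le p E)

theorem bW_comm (E : Subgroup G) : bW p E ≤ centralizer (bW p E : Set G) := omegaOneCenter_abelian _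

theorem bZ_le (E : Subgroup G) : bZ p E ≤ bW p E := inf_le_left

theorem bWE_le (E : Subgroup G) : bWE p E ≤ bW p E := by
  refine commutator_le.mpr fun w hw e he => ?_
  rw [commutatorElement_def, mul_assoc, mul_assoc, ← mul_assoc e]
  exact mul_mem hw ((mem_normalizer_iff.mp (le_normalizer_bW E he) _).mp (inv_mem hw))

theorem pCoreOf_centralizes_bW (E : Subgroup G) : pCoreOf p E ≤ centralizer (bW p E : Set G) :=
  le_centralizer_iff.mp (omegaOneCenter_le_centralizer _)

theorem commutator_pCoreOf_bW (E : Subgroup G) {q w : G} (hq : q ∈ pCoreOf p E) (hw : w ∈ bW p E) :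
    q * w * q⁻¹ = w := by
  rw [mul_inv_eq_iff_eq_mul]
  exact (pCoreOf_centralizes_bW E hq w hw).symm

/-! ### Coprime lemmas -/

/-- An element of order prime to `p` centralizing its commutator with `q`, a `p`-element, centralizes `q`. -/
theorem commute_of_coprime [Finite G] [Fact p.Prime] {P : Subgroup G} (hP : IsPGroup p P) {x q : G}
    (hx : (orderOf x).Coprime p) (hc : x * q * x⁻¹ * q⁻¹ ∈ P)
    (hxc : x * (x * q * x⁻¹ * q⁻¹) = x * q * x⁻¹ * q⁻¹ * x) : x * q = q * x := by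
  have h1 : x * q * x⁻¹ * q⁻¹ ∈ (⊥ : Subgroup G) := by
    refine mem_of_coprime_action hx (by rw [normalizer_eq_top]; trivial) (by rw [normalizer_eq_top]; trivial)
      (isPGroup_exists_orderOf hP hc) ?_
    rw [mem_bot, mul_inv_eq_one, mul_inv_eq_iff_eq_mul]
    exact hxc
  rwa [mem_bot, mul_inv_eq_one, mul_inv_eq_iff_eq_mul] at h1

/-- A residual-perfect group lying in `K P` for a `p`-group `P` normalizing `K` lies in `K`. -/
theorem le_of_le_sup_isPGroup [Finite G] [Fact p.Prime] {E K P : Subgroup G} (hE : pResidualOf p E = E)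
    (hP : IsPGroup p P) (hn : P ≤ normalizer (K : Set G)) (h : E ≤ K ⊔ P) : E ≤ K := by
  refine le_of_coprime_mem hE fun x hx hxp => ?_
  obtain ⟨q, hq, k, hk, rfl⟩ := LocalStructure.exists_mul_of_mem_sup hn (sup_comm K P ▸ h hx)
  obtain ⟨j, hj⟩ := isPGroup_exists_orderOf hP hq
  have key : ∀ n : ℕ, (q ^ n)⁻¹ * (q * k) ^ n ∈ K := by
    intro n
    induction n with
    | zero => simp
    | succ n ih =>
      have := K.mul_mem ((mem_normalizer_iff.mp (hn (inv_mem hq)) _).mp ih) hk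
      rwa [show q⁻¹ * ((q ^ n)⁻¹ * (q * k) ^ n) * q⁻¹⁻¹ * k = (q ^ (n + 1))⁻¹ * (q * k) ^ (n + 1) by
        rw [pow_succ, pow_succ]; group] at this
  have h1 := key (p ^ j)
  rw [← hj, pow_orderOf_eq_one, inv_one, one_mul, hj] at h1
  exact LocalStructure.mem_of_pow_mem hxp h1

/-! ### The modules -/

variable [Finite G] [Fact p.Prime] {T : Sylow p G} {E : Subgroup G}

theorem residual_of_block {T' : Subgroup G} (hE : IsBaumannBlock p T' E) : pResidualOf p E = E := hE.1

theorem not_bW_le_centralizer (hG : centralizer (pCore p G : Set G) ≤ pCore p G)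
    (hE : IsBaumannBlock p (T : Subgroup G) E) : ¬ bW p E ≤ centralizer (E : Set G) := fun h =>
  inf_omega_not_centralized hG hE ((omega_eq_sup hG hE).1.trans h)

theorem not_bWE_le_centralizer (hG : centralizer (pCore p G : Set G) ≤ pCore p G)
    (hE : IsBaumannBlock p (T : Subgroup G) E) : ¬ bWE p E ≤ centralizer (E : Set G) := fun h => by
  refine not_bW_le_centralizer hG hE (le_centralizer_iff.mp (le_of_coprime_mem hE.1 fun x hx hxp => ?_))
  intro w hw
  have hc : x * w * x⁻¹ * w⁻¹ ∈ bWE p E := by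
    have := inv_mem (commutator_mem_commutator hw hx : ⁅w, x⁆ ∈ bWE p E)
    rwa [commutatorElement_def, show (w * x * w⁻¹ * x⁻¹)⁻¹ = x * w * x⁻¹ * w⁻¹ by group] at this
  exact (commute_of_coprime (LocalStructure.isPGroup_pCoreOf p E) hxp
    (bW_le_pCoreOf E (bWE_le E hc)) (h hc x hx)).symm

theorem bWE_not_le_bZ (hG : centralizer (pCore p G : Set G) ≤ pCore p G)
    (hE : IsBaumannBlock p (T : Subgroup G) E) : ¬ bWE p E ≤ bZ p E := fun h =>
  not_bWE_le_centralizer hG hE (h.trans inf_le_right)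

theorem bW_eq_sup (hG : centralizer (pCore p G : Set G) ≤ pCore p G)
    (hE : IsBaumannBlock p (T : Subgroup G) E) : bZ p E ⊔ bWE p E = bW p E :=
  (module_irreducible hE le_sup_left (sup_le (bZ_le E) (bWE_le E))
    (LocalStructure.le_normalizer_sup (le_normalizer_bZ E) (le_normalizer_bWE E))).resolve_left fun h =>
      bWE_not_le_bZ hG hE (le_sup_right.trans h.le)

theorem exists_mul_of_mem_bW (hG : centralizer (pCore p G : Set G) ≤ pCore p G)
    (hE : IsBaumannBlock p (T : Subgroup G) E) {w : G} (hw : w ∈ bW p E) :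
    ∃ z ∈ bZ p E, ∃ v ∈ bWE p E, z * v = w := by
  rw [← bW_eq_sup hG hE] at hw
  refine LocalStructure.exists_mul_of_mem_sup ?_ hw
  exact ((bZ_le E).trans (bW_comm E)).trans
    ((centralizer_le (SetLike.coe_subset_coe.mpr (bWE_le E))).trans (centralizer_le_normalizer _))

/-- `[W_E, E] = W_E`. -/
theorem commutator_bWE (hG : centralizer (pCore p G : Set G) ≤ pCore p G)
    (hE : IsBaumannBlock p (T : Subgroup G) E) : ⁅bWE p E, E⁆ = bWE p E := by
  refine le_antisymm (commutator_mono (bWE_le E) le_rfl) (commutator_le.mpr fun w hw e he => ?_)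
  obtain ⟨z, hz, v, hv, rfl⟩ := exists_mul_of_mem_bW hG hE hw
  have hzv : v * z = z * v := bW_comm E (bZ_le E hz) v (bWE_le E hv)
  have hze : e * z = z * e := hz.2 e he
  rw [show ⁅z * v, e⁆ = ⁅v, e⁆ by
    rw [commutatorElement_def, commutatorElement_def, ← hzv]
    calc v * z * e * (v * z)⁻¹ * e⁻¹ = v * (z * e) * z⁻¹ * v⁻¹ * e⁻¹ := by group
      _ = v * (e * z) * z⁻¹ * v⁻¹ * e⁻¹ := by rw [hze]
      _ = _ := by group]
  exact commutator_mem_commutator hv he

/-- Outside the exceptional case `O_p(E) = W_E`. -/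
theorem pCoreOf_eq_bWE {T' : Subgroup G} (hE : IsBaumannBlock p T' E) (hQ : pCoreOf p E = bW p E) :
    pCoreOf p E = bWE p E :=
  hE.2.2.1.symm.trans (by rw [bWE, ← hQ])

theorem bWE_le_omega (hG : centralizer (pCore p G : Set G) ≤ pCore p G)
    (hE : IsBaumannBlock p (T : Subgroup G) E) : bWE p E ≤ omegaOneCenter p (pCore p G) :=
  commutator_le_omega hG hE

theorem bWE_le_pCore (hG : centralizer (pCore p G : Set G) ≤ pCore p G)
    (hE : IsBaumannBlock p (T : Subgroup G) E) : bWE p E ≤ pCore p G :=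
  (bWE_le_omega hG hE).trans (omegaOneCenter_le _)

/-- `[R, E] ≤ O_p(E)` for a normal `p`-subgroup `R`. -/
theorem comm_mem_pCoreOf (hE : IsBaumannBlock p (T : Subgroup G) E) {r e : G} (hr : r ∈ pCore p G)
    (he : e ∈ E) : e * r * e⁻¹ * r⁻¹ ∈ pCore p G ⊓ pCoreOf p E := by
  have := LocalStructure.pCore_normal p G
  have hn : ∀ K : Subgroup G, K ≤ normalizer (pCore p G : Set G) := fun K => by
    rw [normalizer_eq_top]; exact le_top
  have h := comm_mem hE.1 hE.2.1 (LocalStructure.isPGroup_pCore p) (hn _) (hn _) e he r hr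
  exact ⟨h.1, inf_le_pCoreOf (LocalStructure.isPGroup_pCore p) (hn _) h⟩

theorem pCoreOf_le_pCore (hs : E.IsSubnormal) : pCoreOf p E ≤ pCore p G :=
  LocalStructure.pCoreOf_le_of_isSubnormal hs

/-! ### Coordinates -/

omit [Fact p.Prime] in
theorem Coord.ρ_eq_one_iff {U U₀ : Subgroup G} (c : Coord p E U U₀)
    (hQ : ∀ q ∈ pCoreOf p E, ∀ u ∈ U, q * u * q⁻¹ * u⁻¹ ∈ U₀)
    (hcard : Nat.card c.ρ.range = Nat.card (↥E ⧸ pCore p ↥E)) (e : ↥E) :
    c.ρ e = 1 ↔ (e : G) ∈ pCoreOf p E := by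
  have hle : pCore p ↥E ≤ c.ρ.ker := by
    intro q hq
    rw [MonoidHom.mem_ker]
    ext m
    obtain ⟨u, rfl⟩ := c.surj m
    have h1 : (q : G) * u * (q : G)⁻¹ ∈ U := (mem_normalizer_iff.mp (c.le q.2) _).mp u.2
    rw [← c.act q u ⟨_, h1⟩ rfl, MulAut.one_apply, ← mul_inv_eq_one, ← map_inv, ← map_mul, c.ker]
    simpa using hQ q (mem_map_of_mem _ hq) u u.2
  have heq : pCore p ↥E = c.ρ.ker := by
    have h2 : c.ρ.ker.index = (pCore p ↥E).index := by rw [Subgroup.index_ker, hcard]; rfl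
    refine eq_of_le_of_card_ge hle (le_of_eq ?_)
    have a := c.ρ.ker.card_mul_index
    rw [← (pCore p ↥E).card_mul_index, h2] at a
    exact Nat.eq_of_mul_eq_mul_right (Nat.pos_of_ne_zero Subgroup.index_ne_zero_of_finite) a
  rw [← MonoidHom.mem_ker, ← heq, ← LocalStructure.subgroupOf_pCoreOf, mem_subgroupOf]

/-- The faithful coordinates of `W / Z`. -/
theorem exists_coord (hG : centralizer (pCore p G : Set G) ≤ pCore p G)
    (hE : IsBaumannBlock p (T : Subgroup G) E) :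
    ∃ c : Coord p E (bW p E) (bZ p E), ∀ e, c.ρ e = 1 ↔ (e : G) ∈ pCoreOf p E := by
  have hQ : ∀ q ∈ pCoreOf p E, ∀ u ∈ bW p E, q * u * q⁻¹ * u⁻¹ ∈ bZ p E := fun q hq u hu => by
    rw [commutator_pCoreOf_bW E hq hu, mul_inv_cancel]
    exact one_mem _
  rcases hE.2.2.2.2 with ⟨F, iF, iFF, n, hcard, ⟨iso⟩, hact, -⟩ | ⟨hp2, m, ⟨iso⟩, hact, -⟩
  · obtain ⟨c, hc⟩ := coord_of_sl2 hcard hact
    exact ⟨c, c.ρ_eq_one_iff hQ (hc.trans (Nat.card_congr iso.toEquiv).symm)⟩
  · subst hp2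
    have hm : 1 ≤ m := by
      by_contra hm
      obtain rfl : m = 0 := by omega
      obtain ⟨-, -, ρ, ψ, -, hev, -, hker, -⟩ := hact
      refine not_bW_le_centralizer hG hE fun w hw => ((hker ⟨w, hw⟩).mp ?_).2
      refine Multiplicative.toAdd.injective (funext fun i => ?_)
      have := hev ⟨w, hw⟩
      rw [Fin.sum_univ_one] at this
      rw [Fin.fin_one_eq_zero i]
      exact this
    obtain ⟨c, hc⟩ := coord_of_perm hm hact
    exact ⟨c, c.ρ_eq_one_iff hQ (hc.trans (Nat.card_congr iso.toEquiv).symm)⟩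

/-- The exceptional clause. -/
def IsExceptional (p : ℕ) (E : Subgroup G) : Prop := pCoreOf p E ≠ bW p E

theorem exceptional_facts {T' : Subgroup G} (hE : IsBaumannBlock p T' E) (h : IsExceptional p E) :
    p = 3 ∧ ⁅pCoreOf p E, pCoreOf p E⁆ = bZ p E ∧ E ⊓ centralizer (E : Set G) = bZ p E ∧
      (∀ b ∈ baumannSubgroupOf p T', b ∉ centralizer (bW p E : Set G) →
        ¬ ⁅⁅pCoreOf p E, zpowers b⁆, zpowers b⁆ ≤ bZ p E) ∧
      ¬ pCoreOf p E ≤ centralizer (pCoreOf p E : Set G) ∧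
      (∀ U₁, bW p E ≤ U₁ → U₁ ≤ pCoreOf p E → E ≤ normalizer (U₁ : Set G) →
        U₁ = bW p E ∨ U₁ = pCoreOf p E) ∧
      ∃ c : Coord p E (pCoreOf p E) (bW p E), ∀ e, c.ρ e = 1 ↔ (e : G) ∈ pCoreOf p E := by
  have hab : ¬ pCoreOf p E ≤ centralizer (pCoreOf p E : Set G) := fun hab =>
    h (le_antisymm (abelian_le_omega hE le_rfl hab (LocalStructure.le_normalizer_pCoreOf p E))
      (bW_le_pCoreOf E))
  rcases hE.2.2.2.2 with ⟨F, iF, iFF, n, hcard, ⟨iso⟩, -, hQ | ⟨hp, hact, hQQ, -, hEC, -, hq⟩⟩ | ⟨-, -, -, -, hQ⟩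
  · exact absurd hQ h
  · obtain ⟨c, hc⟩ := coord_of_sl2 hcard hact
    refine ⟨hp, hQQ, hEC, fun b hb hbc => ?_, hab, fun U₁ h0 h1 hn => eq_or_eq_of_actsAsSL2 hact h0 h1 hn, c,
      c.ρ_eq_one_iff (fun q hq u hu => ?_) (hc.trans (Nat.card_congr iso.toEquiv).symm)⟩
    · exact fun hle => hq b hb hbc (hle.trans hEC.ge)
    · have := commutator_mem_commutator hq hu
      rw [hQQ] at this
      exact bZ_le E this
  · exact absurd hQ h

/-- An element of `E` trivial on `W` modulo `Z` lies in `O_p(E)`. -/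
theorem mem_pCoreOf_of_trivial (hG : centralizer (pCore p G : Set G) ≤ pCore p G)
    (hE : IsBaumannBlock p (T : Subgroup G) E) {e : G} (he : e ∈ E)
    (h : ∀ u ∈ bW p E, e * u * e⁻¹ * u⁻¹ ∈ bZ p E) : e ∈ pCoreOf p E := by
  obtain ⟨c, hc⟩ := exists_coord hG hE
  refine (hc ⟨e, he⟩).mp ?_
  ext m
  obtain ⟨u, rfl⟩ := c.surj m
  have h1 : e * u * e⁻¹ ∈ bW p E := (mem_normalizer_iff.mp (c.le he) _).mp u.2
  rw [← c.act ⟨e, he⟩ u ⟨_, h1⟩ rfl, MulAut.one_apply, ← mul_inv_eq_one, ← map_inv, ← map_mul, c.ker]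
  simpa using h u u.2

/-- An element centralizing `W_E` is trivial on `W` modulo `Z`. -/
theorem trivial_of_centralizes (hG : centralizer (pCore p G : Set G) ≤ pCore p G)
    (hE : IsBaumannBlock p (T : Subgroup G) E) {g : G} (hg : g ∈ normalizer (bZ p E : Set G))
    (hc : g ∈ centralizer (bWE p E : Set G)) {u : G} (hu : u ∈ bW p E) : g * u * g⁻¹ * u⁻¹ ∈ bZ p E := by
  obtain ⟨z, hz, v, hv, rfl⟩ := exists_mul_of_mem_bW hG hE hu
  have hv' : g * v * g⁻¹ = v := by rw [mul_inv_eq_iff_eq_mul]; exact (hc v hv).symm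
  rw [show g * (z * v) * g⁻¹ * (z * v)⁻¹ = g * z * g⁻¹ * (g * v * g⁻¹) * v⁻¹ * z⁻¹ by group, hv',
    mul_inv_cancel_right]
  exact mul_mem ((mem_normalizer_iff.mp hg _).mp hz) (inv_mem hz)

theorem inf_centralizer_bWE_le (hG : centralizer (pCore p G : Set G) ≤ pCore p G)
    (hE : IsBaumannBlock p (T : Subgroup G) E) : E ⊓ centralizer (bWE p E : Set G) ≤ pCoreOf p E :=
  fun _ he => mem_pCoreOf_of_trivial hG hE he.1 fun _ hu =>
    trivial_of_centralizes hG hE (le_normalizer_bZ E he.1) he.2 hu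

end Cfsg.Agent.BaumannBlock
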