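import Cfsg.Agent.Lib.BaumannBlock.Facts
import Cfsg.Agent.Lib.PGroup.Frattini

/-!
Automorphisms carry blocks to blocks.
-/

set_option autoImplicit false

namespace Cfsg.Agent.BaumannBlock

open Subgroup
open scoped commutatorElement

variable {G : Type*} [Group G] {p : ℕ} (e : G ≃* G)

theorem map_centralizer_equiv (K : Subgroup G) :
    (centralizer (K : Set G)).map e.toMonoidHom = centralizer (K.map e.toMonoidHom : Set G) := by
  ext x
  constructor
  · rintro ⟨c, hc, rfl⟩ _ ⟨q, hq, rfl⟩
    rw [← map_mul, ← map_mul, hc q hq]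
  · intro hx
    refine ⟨e.symm x, fun q hq => ?_, e.apply_symm_apply x⟩
    have := congrArg e.symm (hx (e q) ⟨q, hq, rfl⟩)
    rwa [map_mul, map_mul, e.symm_apply_apply] at this

theorem map_omegaOneCenter_equiv (X : Subgroup G) :
    (omegaOneCenter p X).map e.toMonoidHom = omegaOneCenter p (X.map e.toMonoidHom) := by
  rw [omegaOneCenter, omegaOneCenter, PGroup.map_omegaOne_of_injective e.injective,
    Subgroup.map_inf _ _ _ e.injective, map_centralizer_equiv]

/-- A subgroup and its image. -/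
noncomputable def imgEquiv (L : Subgroup G) : ↥L ≃* ↥(L.map e.toMonoidHom) :=
  L.equivMapOfInjective e.toMonoidHom e.injective

theorem map_pCoreOf_equiv (L : Subgroup G) :
    (pCoreOf p L).map e.toMonoidHom = pCoreOf p (L.map e.toMonoidHom) := by
  rw [pCoreOf, pCoreOf, ← PCore.map_pCore_mulEquiv (imgEquiv e L), Subgroup.map_map, Subgroup.map_map]
  rfl

theorem pResidual_equiv {H K : Type*} [Group H] [Group K] (f : H ≃* K) :
    (pResidual p H).map f.toMonoidHom = pResidual p K := by
  rw [Transfer.pResidual_eq_residual, Transfer.pResidual_eq_residual, Transfer.residual, Transfer.residual,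
    MonoidHom.map_closure]
  congr 1
  ext k
  constructor
  · rintro ⟨h, hh, rfl⟩
    show (orderOf (f h)).Coprime p
    rwa [MulEquiv.orderOf_eq]
  · intro hk
    refine ⟨f.symm k, ?_, f.apply_symm_apply k⟩
    show (orderOf (f.symm k)).Coprime p
    rwa [MulEquiv.orderOf_eq]

theorem map_pResidualOf_equiv (L : Subgroup G) :
    (pResidualOf p L).map e.toMonoidHom = pResidualOf p (L.map e.toMonoidHom) := by
  rw [pResidualOf, pResidualOf, ← pResidual_equiv (imgEquiv e L), Subgroup.map_map, Subgroup.map_map]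
  rfl

/-- The quotient by the `p`-core of an image. -/
noncomputable def quotEquiv (L : Subgroup G) :
    ↥L ⧸ pCore p ↥L ≃* ↥(L.map e.toMonoidHom) ⧸ pCore p ↥(L.map e.toMonoidHom) :=
  have : (pCore p ↥L).Normal := LocalStructure.pCore_normal p _
  have : (pCore p ↥(L.map e.toMonoidHom)).Normal := LocalStructure.pCore_normal p _
  QuotientGroup.congr _ _ (imgEquiv e L) (PCore.map_pCore_mulEquiv (imgEquiv e L))

theorem actsAsSL2_map {F : Type} [Field F] {R : Subgroup (Matrix.SpecialLinearGroup (Fin 2) F)}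
    {E U U₀ : Subgroup G} (h : ActsAsSL2OnSection F R E U U₀) :
    ActsAsSL2OnSection F R (E.map e.toMonoidHom) (U.map e.toMonoidHom) (U₀.map e.toMonoidHom) := by
  obtain ⟨h1, h2, ρ, ψ, hρ, hψ, hker, hact⟩ := h
  refine ⟨(Subgroup.map_mono h1).trans (le_normalizer_map _), Subgroup.map_mono h2,
    ρ.comp (imgEquiv e E).symm.toMonoidHom, ψ.comp (imgEquiv e U).symm.toMonoidHom, ?_, ?_, ?_, ?_⟩
  · rw [MonoidHom.range_comp, MonoidHom.range_eq_top.mpr (MulEquiv.surjective _), ← MonoidHom.range_eq_map, hρ]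
  · exact hψ.comp (MulEquiv.surjective _)
  · intro u
    obtain ⟨v, rfl⟩ := (imgEquiv e U).surjective u
    simp only [MonoidHom.comp_apply, MulEquiv.coe_toMonoidHom, MulEquiv.symm_apply_apply]
    rw [hker]
    show _ ↔ e (v : G) ∈ U₀.map e.toMonoidHom
    exact (Subgroup.mem_map_iff_mem e.injective).symm
  · intro x u
    obtain ⟨a, rfl⟩ := (imgEquiv e E).surjective x
    obtain ⟨v, rfl⟩ := (imgEquiv e U).surjective u
    obtain ⟨w, hw, hw'⟩ := hact a v
    refine ⟨imgEquiv e U w, ?_, ?_⟩
    · show e (w : G) = e (a : G) * e (v : G) * (e (a : G))⁻¹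
      rw [hw, map_mul, map_mul, map_inv]
    · simpa only [MonoidHom.comp_apply, MulEquiv.coe_toMonoidHom, MulEquiv.symm_apply_apply] using hw'

theorem actsAsPerm_map {n : ℕ} {R : Subgroup (Equiv.Perm (Fin n))} {E U U₀ : Subgroup G}
    (h : ActsAsOddPermModuleOnSection n R E U U₀) :
    ActsAsOddPermModuleOnSection n R (E.map e.toMonoidHom) (U.map e.toMonoidHom) (U₀.map e.toMonoidHom) := by
  obtain ⟨h1, h2, ρ, ψ, hρ, hev, hψ, hker, hact⟩ := h
  refine ⟨(Subgroup.map_mono h1).trans (le_normalizer_map _), Subgroup.map_mono h2,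
    ρ.comp (imgEquiv e E).symm.toMonoidHom, ψ.comp (imgEquiv e U).symm.toMonoidHom, ?_, fun u => hev _,
    fun v hv => ?_, ?_, ?_⟩
  · rw [MonoidHom.range_comp, MonoidHom.range_eq_top.mpr (MulEquiv.surjective _), ← MonoidHom.range_eq_map, hρ]
  · obtain ⟨u, hu⟩ := hψ v hv
    refine ⟨imgEquiv e U u, ?_⟩
    show Multiplicative.toAdd (ψ ((imgEquiv e U).symm (imgEquiv e U u))) = v
    rw [MulEquiv.symm_apply_apply, hu]
  · intro u
    obtain ⟨v, rfl⟩ := (imgEquiv e U).surjective u
    simp only [MonoidHom.comp_apply, MulEquiv.coe_toMonoidHom, MulEquiv.symm_apply_apply]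
    rw [hker]
    show _ ↔ e (v : G) ∈ U₀.map e.toMonoidHom
    exact (Subgroup.mem_map_iff_mem e.injective).symm
  · intro x u
    obtain ⟨a, rfl⟩ := (imgEquiv e E).surjective x
    obtain ⟨v, rfl⟩ := (imgEquiv e U).surjective u
    obtain ⟨w, hw, hw'⟩ := hact a v
    refine ⟨imgEquiv e U w, ?_, ?_⟩
    · show e (w : G) = e (a : G) * e (v : G) * (e (a : G))⁻¹
      rw [hw, map_mul, map_mul, map_inv]
    · simpa only [MonoidHom.comp_apply, MulEquiv.coe_toMonoidHom, MulEquiv.symm_apply_apply] using hw'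

theorem map_zpowers_equiv (b : G) : (zpowers b).map e.toMonoidHom = zpowers (e b) :=
  MonoidHom.map_zpowers _ _

variable [Finite G] [Fact p.Prime]

theorem map_frattiniOf_equiv {Q : Subgroup G} (hQ : IsPGroup p Q) :
    ((frattini ↥Q).map Q.subtype).map e.toMonoidHom =
      (frattini ↥(Q.map e.toMonoidHom)).map (Q.map e.toMonoidHom).subtype := by
  rw [← PGroup.map_frattini hQ (imgEquiv e Q).toMonoidHom (MulEquiv.surjective _), Subgroup.map_map,
    Subgroup.map_map]
  rfl

/-- Automorphisms carry blocks to blocks. -/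
theorem isBaumannBlock_map {T E : Subgroup G} (hE : IsBaumannBlock p T E) :
    IsBaumannBlock p (T.map e.toMonoidHom) (E.map e.toMonoidHom) := by
  obtain ⟨h1, h2, h3, h4, h5⟩ := hE
  refine ⟨?_, ?_, ?_, ?_, ?_⟩
  · rw [← map_pResidualOf_equiv, h1]
  · rw [← baumannSubgroupOf_map_equiv, ← map_commutator, h2]
  · rw [← map_pCoreOf_equiv, ← map_commutator, h3]
  · rw [← map_omegaOneCenter_equiv, ← map_commutator, Ne,
      Subgroup.map_eq_bot_iff_of_injective _ e.injective]
    exact h4
  simp only [← map_pCoreOf_equiv, ← map_omegaOneCenter_equiv, ← map_centralizer_equiv,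
    ← Subgroup.map_inf _ _ e.toMonoidHom e.injective]
  rcases h5 with ⟨F, iF, iFF, n, hcard, hiso, hW, hcase⟩ | ⟨hp2, m, hiso, hW, hQ⟩
  · refine Or.inl ⟨F, iF, iFF, n, hcard, hiso.map fun f => (quotEquiv e E).symm.trans f, actsAsSL2_map e hW, ?_⟩
    rcases hcase with hQ | ⟨hp3, hQa, hQQ, hfr, hEC, hcardZ, hquad⟩
    · exact Or.inl (by rw [← hQ])
    refine Or.inr ⟨hp3, actsAsSL2_map e hQa, ?_, ?_, ?_, ?_, fun b hb hbc hle => ?_⟩
    · rw [← map_commutator, hQQ]
    · have hcg : ∀ A B : Subgroup G, A = B → (frattini ↥A).map A.subtype = (frattini ↥B).map B.subtype := by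
        rintro A B rfl; rfl
      rw [hcg _ _ (map_pCoreOf_equiv e E).symm,
        ← map_frattiniOf_equiv e (LocalStructure.isPGroup_pCoreOf p E), hfr]
    · rw [hEC]
    · rw [← hcardZ]; exact card_map_of_injective e.injective
    · obtain ⟨b', rfl⟩ := e.surjective b
      rw [← baumannSubgroupOf_map_equiv] at hb
      refine hquad b' ((Subgroup.mem_map_iff_mem e.injective).mp hb)
        (fun h => hbc (mem_map_of_mem e.toMonoidHom h)) ?_
      rw [← map_zpowers_equiv, ← map_commutator, ← map_commutator] at hle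
      exact (Subgroup.map_le_map_iff_of_injective e.injective).mp hle
  · exact Or.inr ⟨hp2, m, hiso.map fun f => (quotEquiv e E).symm.trans f, actsAsPerm_map e hW, by rw [← hQ]⟩

theorem isBaumannBlock_conj {T : Sylow p G} {E : Subgroup G} (hE : IsBaumannBlock p (T : Subgroup G) E) (g : G) :
    IsBaumannBlock p ((g • T : Sylow p G) : Subgroup G) (E.map (MulAut.conj g).toMonoidHom) := by
  have : ((g • T : Sylow p G) : Subgroup G) = (T : Subgroup G).map (MulAut.conj g).toMonoidHom := rfl
  rw [this]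
  exact isBaumannBlock_map _ hE

end Cfsg.Agent.BaumannBlock
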