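import Cfsg.Prelude.Def_BaumannBlocks
import Cfsg.Agent.Lib.GL.Simple
import Mathlib.GroupTheory.Perm.Cycle.Type

/-!
The natural module of `SL₂(F)'` and the even-weight module of an alternating group of odd degree have no
proper nonzero invariant additive subgroup; consequences for `ActsAsSL2OnSection`, `ActsAsOddPermModuleOnSection`.
-/

set_option autoImplicit false

namespace Cfsg.Agent.BaumannBlock

open Matrix

variable {F : Type} [Field F] [Fintype F]

theorem sl2_commutator_invariant (U : AddSubgroup (Fin 2 → F))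
    (h : ∀ g ∈ commutator (SpecialLinearGroup (Fin 2) F), ∀ v ∈ U, (g : Matrix (Fin 2) (Fin 2) F).mulVec v ∈ U) :
    U = ⊥ ∨ U = ⊤ := by
  rcases U.bot_or_exists_ne_zero with hU | ⟨v, hv, hv0⟩
  · exact Or.inl hU
  refine Or.inr (eq_top_iff.mpr fun x _ => ?_)
  have h01 : (0 : Fin 2) ≠ 1 := by decide
  by_cases h4 : 4 ≤ Nat.card F
  · have htop := GL.SL_commutator_eq_top (F := F) 2 le_rfl fun _ => GL.exists_sq_ne_one_of_four_le_card h4
    have mU : ∀ w ∈ U, ∀ t : F, ![t * w 1, 0] ∈ U := fun w hw t => by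
      have h1 := U.sub_mem (h (SpecialLinearGroup.transvection h01 t) (htop ▸ Subgroup.mem_top _) w hw) hw
      refine (?_ : _ = ![t * w 1, 0]) ▸ h1
      funext i
      fin_cases i <;> simp [SpecialLinearGroup.transvection_coe, Matrix.add_mulVec, Matrix.single_mulVec, Pi.single_apply]
    have mL : ∀ w ∈ U, ∀ t : F, ![0, t * w 0] ∈ U := fun w hw t => by
      have h1 := U.sub_mem (h (SpecialLinearGroup.transvection h01.symm t) (htop ▸ Subgroup.mem_top _) w hw) hw
      refine (?_ : _ = ![0, t * w 0]) ▸ h1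
      funext i
      fin_cases i <;> simp [SpecialLinearGroup.transvection_coe, Matrix.add_mulVec, Matrix.single_mulVec, Pi.single_apply]
    have e1 : ∀ s : F, ![s, 0] ∈ U := by
      intro s
      by_cases hv1 : v 1 = 0
      · have hv00 : v 0 ≠ 0 := fun h0 => hv0 (funext fun i => by fin_cases i <;> simp [h0, hv1])
        have := mU _ (mL v hv (v 0)⁻¹) s
        simpa [hv00] using this
      · have := mU v hv (s * (v 1)⁻¹)
        simpa [hv1] using this
    have e2 : ∀ s : F, ![0, s] ∈ U := fun s => by simpa using mL _ (e1 1) s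
    have := U.add_mem (e1 (x 0)) (e2 (x 1))
    refine (?_ : _ = x) ▸ this
    funext i; fin_cases i <;> simp
  · -- prime field
    have hcard : Nat.card F = 2 ∨ Nat.card F = 3 := by
      have : 1 < Nat.card F := Finite.one_lt_card
      omega
    have hp : (Nat.card F).Prime := by rcases hcard with h | h <;> rw [h] <;> norm_num
    have hgen : ∀ s : F, ∃ n : ℤ, s = n := fun s => by
      have := Fact.mk hp
      obtain ⟨n, hn⟩ := AddSubgroup.mem_zmultiples_iff.mp
        (mem_zmultiples_of_prime_card (rfl : Nat.card F = Nat.card F) (one_ne_zero : (1 : F) ≠ 0) (g' := s))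
      exact ⟨n, by rw [← hn]; simp⟩
    set g : SpecialLinearGroup (Fin 2) F :=
      SpecialLinearGroup.transvection h01 1 * SpecialLinearGroup.transvection h01.symm 1 with hg
    have hgc : g ∈ commutator (SpecialLinearGroup (Fin 2) F) := by
      let w : SpecialLinearGroup (Fin 2) F := SpecialLinearGroup.transvection h01 1 *
        SpecialLinearGroup.transvection h01.symm (-1) * SpecialLinearGroup.transvection h01 1
      have e : g = SpecialLinearGroup.transvection h01 1 * w * (SpecialLinearGroup.transvection h01 1)⁻¹ * w⁻¹ := by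
        rw [eq_mul_inv_iff_mul_eq, eq_mul_inv_iff_mul_eq, hg]
        refine Matrix.SpecialLinearGroup.ext _ _ (fun i j => ?_)
        fin_cases i <;> fin_cases j <;>
          simp [w, SpecialLinearGroup.coe_mul, SpecialLinearGroup.transvection_coe, Matrix.mul_apply,
            Fin.sum_univ_two, Matrix.single_apply]
      rw [e]
      exact Subgroup.commutator_mem_commutator (Subgroup.mem_top _) (Subgroup.mem_top w)
    have hu : ![v 0 + v 1, v 0] ∈ U := by
      have h1 := U.sub_mem (h g hgc v hv) hv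
      refine (?_ : _ = ![v 0 + v 1, v 0]) ▸ h1
      funext i
      fin_cases i <;>
        simp [g, Matrix.mulVec, dotProduct, SpecialLinearGroup.coe_mul, SpecialLinearGroup.transvection_coe,
          Matrix.mul_apply, Fin.sum_univ_two, Matrix.single_apply] <;> ring
    set D := v 0 * v 0 - (v 0 + v 1) * v 1 with hD
    have hD0 : D ≠ 0 := by
      intro hD0
      by_cases hv1 : v 1 = 0
      · rw [hD, hv1] at hD0
        have : v 0 = 0 := by simpa using hD0
        exact hv0 (funext fun i => by fin_cases i <;> simp [this, hv1])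
      · have hr : (v 0 / v 1) ^ 2 - v 0 / v 1 - 1 = 0 := by
          field_simp
          rw [hD] at hD0
          linear_combination hD0
        obtain ⟨n, hn⟩ := hgen (v 0 / v 1)
        rw [hn] at hr
        have hz : ((n ^ 2 - n - 1 : ℤ) : F) = 0 := by push_cast; exact hr
        obtain ⟨c, _⟩ := CharP.exists F
        have hc : c = Nat.card F := by
          have := (CharP.char_is_prime F c)
          have hd : c ∣ Nat.card F := by
            rw [Nat.card_eq_fintype_card, ← CharP.cast_eq_zero_iff F c]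
            exact Nat.cast_card_eq_zero F
          exact (Nat.prime_dvd_prime_iff_eq this hp).mp hd
        rw [CharP.intCast_eq_zero_iff F c, hc] at hz
        have key : ∀ k : ℕ, k = 2 ∨ k = 3 → ∀ a : ZMod k, a ^ 2 - a - 1 ≠ 0 := by
          rintro k (rfl | rfl) <;> decide
        refine key _ hcard (n : ZMod (Nat.card F)) ?_
        have := (ZMod.intCast_zmod_eq_zero_iff_dvd _ _).mpr hz
        push_cast at this
        exact this
    obtain ⟨a, ha⟩ := hgen ((x 0 * v 0 - x 1 * (v 0 + v 1)) / D)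
    obtain ⟨b, hb⟩ := hgen ((v 0 * x 1 - v 1 * x 0) / D)
    have := U.add_mem (U.zsmul_mem hv a) (U.zsmul_mem hu b)
    refine (?_ : _ = x) ▸ this
    have e0 : (a : F) * v 0 + (b : F) * (v 0 + v 1) = x 0 := by
      rw [← ha, ← hb]; field_simp; rw [hD]; ring
    have e1 : (a : F) * v 1 + (b : F) * v 0 = x 1 := by
      rw [← ha, ← hb]; field_simp; rw [hD]; ring
    funext i
    fin_cases i
    · simp [zsmul_eq_mul]; linear_combination e0
    · simp [zsmul_eq_mul]; linear_combination e1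

theorem altperm_invariant {n : ℕ} (hn : Odd n) (U : AddSubgroup (Fin n → ZMod 2))
    (heven : ∀ v ∈ U, ∑ i, v i = 0)
    (h : ∀ σ ∈ alternatingGroup (Fin n), ∀ v ∈ U, (fun i => v (σ⁻¹ i)) ∈ U) :
    U = ⊥ ∨ ∀ v : Fin n → ZMod 2, ∑ i, v i = 0 → v ∈ U := by
  classical
  rcases U.bot_or_exists_ne_zero with hU | ⟨v, hv, hv0⟩
  · exact Or.inl hU
  right
  have z2 : ∀ a : ZMod 2, a = 0 ∨ a = 1 := by decide
  obtain ⟨i, hi⟩ : ∃ i, v i = 1 := by
    by_contra hc
    push Not at hc
    exact hv0 (funext fun i => ((z2 _).resolve_right (hc i)))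
  obtain ⟨j, hj⟩ : ∃ j, v j = 0 := by
    by_contra hc
    push Not at hc
    have : ∑ k, v k = (n : ZMod 2) := by
      rw [Finset.sum_congr rfl fun k _ => (z2 _).resolve_left (hc k)]
      simp
    rw [heven v hv, ZMod.natCast_eq_one_iff_odd.mpr hn] at this
    exact zero_ne_one this
  have hij : i ≠ j := fun e => zero_ne_one (hj.symm.trans (e ▸ hi))
  let e : Fin n → Fin n → (Fin n → ZMod 2) := fun a b => Pi.single a 1 + Pi.single b 1
  have move : ∀ a b c : Fin n, a ≠ b → a ≠ c → b ≠ c → ∀ w ∈ U,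
      ∃ u ∈ U, u a = w a + w c ∧ u b = w b + w a ∧ u c = w c + w b ∧
        ∀ k, k ≠ a → k ≠ b → k ≠ c → u k = 0 := by
    intro a b c hab hac hbc w hw
    -- the three-cycle `a ↦ b ↦ c ↦ a`
    have hσ : Equiv.swap b a * Equiv.swap b c ∈ alternatingGroup (Fin n) :=
      (Equiv.Perm.isThreeCycle_swap_mul_swap_same hab.symm hbc hac).mem_alternatingGroup
    refine ⟨_, U.add_mem hw (h _ hσ w hw), ?_, ?_, ?_, fun k hka hkb hkc => ?_⟩
    · simp [Equiv.swap_apply_of_ne_of_ne, hab, hab.symm, hac, hac.symm, hbc, hbc.symm]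
    · simp [Equiv.swap_apply_of_ne_of_ne, hab, hab.symm, hac, hac.symm, hbc, hbc.symm]
    · simp [Equiv.swap_apply_of_ne_of_ne, hab, hab.symm, hac, hac.symm, hbc, hbc.symm]
    · simp [Equiv.swap_apply_of_ne_of_ne, hka, hkb, hkc]
      exact CharTwo.add_self_eq_zero _
  have pair : ∀ a b c : Fin n, a ≠ b → a ≠ c → b ≠ c → e a b ∈ U → e a c ∈ U := by
    intro a b c hab hac hbc he
    obtain ⟨u, hu, h1, h2, h3, h4⟩ := move a b c hab hac hbc _ he
    refine (?_ : u = e a c) ▸ hu
    funext k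
    by_cases hka : k = a
    · subst hka; rw [h1]; simp [e, hac, hac.symm, hab, hab.symm, hbc, hbc.symm]
    by_cases hkb : k = b
    · subst hkb; rw [h2]; simp [e, hac, hac.symm, hab, hab.symm, hbc, hbc.symm]; decide
    by_cases hkc : k = c
    · subst hkc; rw [h3]; simp [e, hac, hac.symm, hab, hab.symm, hbc, hbc.symm]
    rw [h4 k hka hkb hkc]; simp [e, hka, hkc]
  obtain ⟨a, b, hab, hU2⟩ : ∃ a b, a ≠ b ∧ e a b ∈ U := by
    have : 3 ≤ n := by
      have h1 : i.val < n := i.2
      have h2 : j.val < n := j.2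
      have h3 : i.val ≠ j.val := fun e => hij (Fin.ext e)
      obtain ⟨m, rfl⟩ := hn
      omega
    obtain ⟨k, hk⟩ : ∃ k : Fin n, k ∉ ({i, j} : Finset (Fin n)) := by
      by_contra hc
      push Not at hc
      have := Finset.card_le_card (fun x _ => hc x : (Finset.univ : Finset (Fin n)) ⊆ {i, j})
      rw [Finset.card_univ, Fintype.card_fin, Finset.card_pair hij] at this
      omega
    simp only [Finset.mem_insert, Finset.mem_singleton, not_or] at hk
    obtain ⟨hki, hkj⟩ := hk
    obtain ⟨u, hu, h1, h2, h3, h4⟩ := move i j k hij (Ne.symm hki) (Ne.symm hkj) v hv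
    rcases z2 (v k) with hvk | hvk
    · refine ⟨i, j, hij, (?_ : u = e i j) ▸ hu⟩
      funext l
      by_cases hli : l = i
      · subst hli; rw [h1, hi, hvk]; simp [e, hij]
      by_cases hlj : l = j
      · subst hlj; rw [h2, hi, hj]; simp [e, hij.symm]
      by_cases hlk : l = k
      · subst hlk; rw [h3, hvk, hj]; simp [e, hki, hkj]
      rw [h4 l hli hlj hlk]; simp [e, hli, hlj]
    · refine ⟨j, k, Ne.symm hkj, (?_ : u = e j k) ▸ hu⟩
      funext l
      by_cases hli : l = i
      · subst hli; rw [h1, hi, hvk]; simp [e, hij, Ne.symm hki]; decide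
      by_cases hlj : l = j
      · subst hlj; rw [h2, hi, hj]; simp [e, Ne.symm hkj]
      by_cases hlk : l = k
      · subst hlk; rw [h3, hvk, hj]; simp [e, hkj]
      rw [h4 l hli hlj hlk]; simp [e, hlj, hlk]
  have hall : ∀ c, c ≠ a → e a c ∈ U := by
    intro c hca
    by_cases hcb : c = b
    · rw [hcb]; exact hU2
    · exact pair a b c hab (Ne.symm hca) (Ne.symm hcb) hU2
  intro w hw
  have key : w = ∑ c ∈ Finset.univ.filter (fun c => c ≠ a ∧ w c = 1), e a c := by
    funext l
    rw [Finset.sum_apply]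
    simp only [e, Pi.add_apply, Finset.sum_add_distrib, Pi.single_apply, Finset.sum_ite_eq,
      Finset.mem_filter, Finset.mem_univ, true_and, Finset.sum_const, smul_eq_mul]
    by_cases hla : l = a
    · subst hla
      simp only [ne_eq, not_true, false_and, if_false, add_zero, if_true, nsmul_eq_mul, mul_one]
      have h0 := hw
      rw [← Finset.add_sum_erase _ _ (Finset.mem_univ l)] at h0
      have hs : ∑ c ∈ Finset.univ.erase l, w c =
          ((Finset.univ.filter fun c => ¬c = l ∧ w c = 1).card : ZMod 2) := by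
        rw [Finset.card_filter, Nat.cast_sum, ← Finset.sum_erase_add _ _ (Finset.mem_univ l)]
        simp only [not_true, false_and, if_false, Nat.cast_zero, add_zero]
        refine Finset.sum_congr rfl fun c hc => ?_
        rcases z2 (w c) with h | h <;> simp [h, (Finset.mem_erase.mp hc).1]
      rw [← hs]
      exact CharTwo.add_eq_zero.mp h0
    · simp only [hla, if_false, nsmul_eq_mul, mul_zero, zero_add, ne_eq, not_false_eq_true, true_and]
      rcases z2 (w l) with h | h <;> simp [h]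
  rw [key]
  exact U.sum_mem fun c hc => hall c (Finset.mem_filter.mp hc).2.1

section Section

variable {G : Type*} [Group G] {E U U₀ U₁ : Subgroup G}

/-- The image of an invariant subgroup, as an additive subgroup. -/
def imageAdd {M : Type*} [AddCommGroup M] (ψ : ↥U →* Multiplicative M) (U₁ : Subgroup G) : AddSubgroup M :=
  Subgroup.toAddSubgroup' ((U₁.subgroupOf U).map ψ)

theorem mem_imageAdd {M : Type*} [AddCommGroup M] {ψ : ↥U →* Multiplicative M} {v : M} :
    v ∈ imageAdd ψ U₁ ↔ ∃ u : ↥U, (u : G) ∈ U₁ ∧ Multiplicative.toAdd (ψ u) = v := by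
  constructor
  · rintro ⟨u, hu, he⟩
    exact ⟨u, hu, by rw [he]; rfl⟩
  · rintro ⟨u, hu, rfl⟩
    exact ⟨u, hu, rfl⟩

theorem eq_or_eq_of_imageAdd {M : Type*} [AddCommGroup M] {ψ : ↥U →* Multiplicative M}
    (hker : ∀ u : ↥U, ψ u = 1 ↔ (u : G) ∈ U₀) (h0 : U₀ ≤ U₁) (h1 : U₁ ≤ U)
    (h : imageAdd ψ U₁ = ⊥ ∨ ∀ u : ↥U, Multiplicative.toAdd (ψ u) ∈ imageAdd ψ U₁) : U₁ = U₀ ∨ U₁ = U := by
  rcases h with hb | ht
  · refine Or.inl (le_antisymm (fun x hx => (hker ⟨x, h1 hx⟩).mp ?_) h0)
    have : Multiplicative.toAdd (ψ ⟨x, h1 hx⟩) ∈ imageAdd ψ U₁ := mem_imageAdd.mpr ⟨_, hx, rfl⟩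
    rw [hb, AddSubgroup.mem_bot] at this
    exact toAdd_eq_zero.mp this
  · refine Or.inr (le_antisymm h1 fun x hx => ?_)
    obtain ⟨u, hu, he⟩ := mem_imageAdd.mp (ht ⟨x, hx⟩)
    have hk : ((u⁻¹ * ⟨x, hx⟩ : ↥U) : G) ∈ U₀ := (hker _).mp (by
      rw [map_mul, map_inv, Multiplicative.toAdd.injective he, inv_mul_cancel])
    have := U₁.mul_mem hu (h0 hk)
    simpa using this

theorem eq_or_eq_of_actsAsSL2 (hact : Cfsg.ActsAsSL2OnSection F (commutator _) E U U₀)
    (h0 : U₀ ≤ U₁) (h1 : U₁ ≤ U) (hn : E ≤ Subgroup.normalizer (U₁ : Set G)) : U₁ = U₀ ∨ U₁ = U := by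
  obtain ⟨-, -, ρ, ψ, hρ, -, hker, heq⟩ := hact
  refine eq_or_eq_of_imageAdd hker h0 h1 ((sl2_commutator_invariant _ ?_).imp id fun h u => by rw [h]; exact trivial)
  intro g hg v hv
  obtain ⟨e, rfl⟩ : g ∈ ρ.range := hρ ▸ hg
  obtain ⟨u, hu, rfl⟩ := mem_imageAdd.mp hv
  obtain ⟨w, hw, hw'⟩ := heq e u
  exact mem_imageAdd.mpr ⟨w, by rw [hw]; exact (Subgroup.mem_normalizer_iff.mp (hn e.2) _).mp hu, hw'⟩

theorem eq_or_eq_of_actsAsPerm {m : ℕ}
    (hact : Cfsg.ActsAsOddPermModuleOnSection (2 * m + 1) (alternatingGroup (Fin (2 * m + 1))) E U U₀)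
    (h0 : U₀ ≤ U₁) (h1 : U₁ ≤ U) (hn : E ≤ Subgroup.normalizer (U₁ : Set G)) : U₁ = U₀ ∨ U₁ = U := by
  obtain ⟨-, -, ρ, ψ, hρ, hev, -, hker, heq⟩ := hact
  refine eq_or_eq_of_imageAdd hker h0 h1 ((altperm_invariant ⟨m, rfl⟩ _ ?_ ?_).imp id fun h u => h _ (hev u))
  · rintro v hv
    obtain ⟨u, -, rfl⟩ := mem_imageAdd.mp hv
    exact hev u
  · intro g hg v hv
    obtain ⟨e, rfl⟩ : g ∈ ρ.range := hρ ▸ hg
    obtain ⟨u, hu, rfl⟩ := mem_imageAdd.mp hv
    obtain ⟨w, hw, hw'⟩ := heq e u
    exact mem_imageAdd.mpr ⟨w, by rw [hw]; exact (Subgroup.mem_normalizer_iff.mp (hn e.2) _).mp hu, funext hw'⟩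

end Section

end Cfsg.Agent.BaumannBlock
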