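import Cfsg.Agent.Lib.BaumannBlock.Basic
import Cfsg.Agent.Lib.BaumannBlock.Modules

/-!
Structure facts of a `B(T)`-block in a group of characteristic `p`:
`W_E = [Ω₁Z(O_p(E)), E] ≤ Ω₁Z(O_p(G))` and `B(T)` does not centralize `W_E`.
-/

set_option autoImplicit false

namespace Cfsg.Agent.BaumannBlock

open Subgroup
open scoped commutatorElement

variable {G : Type*} [Group G] {p : ℕ}

theorem omegaOneCenter_le (X : Subgroup G) : omegaOneCenter p X ≤ X :=
  (PGroup.omegaOne_le _).trans inf_le_left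

theorem omegaOneCenter_le_centralizer (X : Subgroup G) : omegaOneCenter p X ≤ centralizer (X : Set G) :=
  (PGroup.omegaOne_le _).trans inf_le_right

theorem omegaOneCenter_abelian (X : Subgroup G) :
    omegaOneCenter p X ≤ centralizer (omegaOneCenter p X : Set G) :=
  (omegaOneCenter_le_centralizer X).trans (centralizer_le (SetLike.coe_subset_coe.mpr (omegaOneCenter_le X)))

theorem pow_eq_one_of_mem_omegaOneCenter {X : Subgroup G} {x : G} (hx : x ∈ omegaOneCenter p X) : x ^ p = 1 := by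
  have hc : IsMulCommutative ↥(X ⊓ centralizer (X : Set G)) :=
    PGroup.isMulCommutative_of_forall fun a ha b hb => (ha.2 b hb.1).symm
  exact (PGroup.isElementaryAbelian_omegaOne (p := p) hc).2 x hx

theorem omegaOneCenter_normal (X : Subgroup G) [hX : X.Normal] : (omegaOneCenter p X).Normal := by
  have : (X ⊓ centralizer (X : Set G)).Normal := inferInstance
  exact PGroup.omegaOne_normal _

theorem card_pow_ne_one {F : Type} [Field F] [Fintype F] {n : ℕ} (h : Fintype.card F = p ^ n) :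
    1 < p ^ n := h ▸ Fintype.one_lt_card

variable [Finite G] [Fact p.Prime]

theorem module_irreducible {T E U₁ : Subgroup G} (hE : IsBaumannBlock p T E)
    (h0 : omegaOneCenter p (pCoreOf p E) ⊓ centralizer (E : Set G) ≤ U₁)
    (h1 : U₁ ≤ omegaOneCenter p (pCoreOf p E)) (hn : E ≤ normalizer (U₁ : Set G)) :
    U₁ = omegaOneCenter p (pCoreOf p E) ⊓ centralizer (E : Set G) ∨ U₁ = omegaOneCenter p (pCoreOf p E) := by
  obtain ⟨-, -, -, -, h | h⟩ := hE
  · obtain ⟨F, _, _, n, -, -, hact, -⟩ := h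
    exact eq_or_eq_of_actsAsSL2 hact h0 h1 hn
  · obtain ⟨-, m, -, hact, -⟩ := h
    exact eq_or_eq_of_actsAsPerm hact h0 h1 hn

theorem le_normalizer_omega {T E : Subgroup G} (hE : IsBaumannBlock p T E) :
    E ≤ normalizer (omegaOneCenter p (pCoreOf p E) : Set G) := by
  obtain ⟨-, -, -, -, h | h⟩ := hE
  · obtain ⟨F, _, _, n, -, -, hact, -⟩ := h
    exact hact.1
  · obtain ⟨-, m, -, hact, -⟩ := h
    exact hact.1

/-- An abelian `E`-invariant subgroup of `O_p(E)` lies in `Ω₁Z(O_p(E))`. -/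
theorem abelian_le_omega {T E N : Subgroup G} (hE : IsBaumannBlock p T E) (hN : N ≤ pCoreOf p E)
    (hab : N ≤ centralizer (N : Set G)) (hn : E ≤ normalizer (N : Set G)) :
    N ≤ omegaOneCenter p (pCoreOf p E) := by
  obtain ⟨-, -, -, -, h | h⟩ := hE
  · obtain ⟨F, _, _, n, hcard, -, hactW, h | ⟨hp3, hact, hQQ, -, hZ, hZcard, -⟩⟩ := h
    · exact h ▸ hN
    set Q := pCoreOf p E
    set W := omegaOneCenter p Q
    rcases eq_or_eq_of_actsAsSL2 hact (le_sup_left : W ≤ W ⊔ N) (sup_le (omegaOneCenter_le Q) hN)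
      (LocalStructure.le_normalizer_sup hactW.1 hn) with e | e
    · exact e ▸ le_sup_right
    · exfalso
      have hWN : N ≤ centralizer (W : Set G) :=
        le_centralizer_iff.mp ((omegaOneCenter_le_centralizer Q).trans (centralizer_le (SetLike.coe_subset_coe.mpr hN)))
      have habQ : Q ≤ centralizer (Q : Set G) := by
        conv_lhs => rw [← e]
        refine sup_le (omegaOneCenter_le_centralizer Q) ?_
        conv_rhs => rw [← e]
        rw [le_centralizer_iff, sup_le_iff]
        exact ⟨le_centralizer_iff.mp hWN, hab⟩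
      rw [commutator_eq_bot_iff_le_centralizer.mpr habQ] at hQQ
      rw [← hZ] at hQQ
      rw [← hQQ, Subgroup.card_bot] at hZcard
      have := card_pow_ne_one hcard
      rw [hp3, ← hZcard] at this
      exact lt_irrefl 1 this
  · obtain ⟨-, m, -, -, he⟩ := h
    exact he ▸ hN

variable {T : Sylow p G} {E : Subgroup G}

theorem omegaOneCenter_sylow_le (hG : centralizer (pCore p G : Set G) ≤ pCore p G) :
    omegaOneCenter p (T : Subgroup G) ≤ omegaOneCenter p (pCore p G) := by
  have hRT : pCore p G ≤ T := PCore.pCore_le_sylow T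
  refine PGroup.omegaOne_le_iff.mpr fun x hx hxp => PGroup.mem_omegaOne_of_pow_eq_one ?_ hxp
  have hc : x ∈ centralizer (pCore p G : Set G) := fun y hy => hx.2 y (hRT hy)
  exact ⟨hG hc, hc⟩

/-- `E` moves `V ∩ E`, where `V = Ω₁Z(O_p(G))`. -/
theorem inf_omega_not_centralized (hG : centralizer (pCore p G : Set G) ≤ pCore p G)
    (hE : IsBaumannBlock p (T : Subgroup G) E) :
    ¬ omegaOneCenter p (pCore p G) ⊓ E ≤ centralizer (E : Set G) := by
  intro hc
  have hV := omegaOneCenter_normal (p := p) (pCore p G)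
  refine hE.2.2.2.1 (commutator_eq_bot_iff_le_centralizer.mpr ?_)
  refine le_of_coprime_mem hE.1 fun x hxE hxp => ?_
  intro v hv
  have hvV := omegaOneCenter_sylow_le hG hv
  have hcm : x * v * x⁻¹ * v⁻¹ ∈ omegaOneCenter p (pCore p G) ⊓ E :=
    comm_mem hE.1 hE.2.1 ((LocalStructure.isPGroup_pCore p).to_le (omegaOneCenter_le _))
      (by rw [normalizer_eq_top]; exact le_top) (by rw [normalizer_eq_top]; exact le_top) x hxE v hvV
  have h1 : x * v * x⁻¹ * v⁻¹ ∈ (⊥ : Subgroup G) := by
    refine mem_of_coprime_action hxp (by rw [normalizer_eq_top]; trivial) (by rw [normalizer_eq_top]; trivial)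
      (isPGroup_exists_orderOf ((LocalStructure.isPGroup_pCore p).to_le (omegaOneCenter_le _)) hcm.1) ?_
    rw [mem_bot, mul_inv_eq_one, mul_inv_eq_iff_eq_mul]
    exact hc hcm x hxE
  rw [mem_bot, mul_inv_eq_one, mul_inv_eq_iff_eq_mul] at h1
  exact h1.symm

/-- `W = (V ∩ E) Z`. -/
theorem omega_eq_sup (hG : centralizer (pCore p G : Set G) ≤ pCore p G)
    (hE : IsBaumannBlock p (T : Subgroup G) E) :
    omegaOneCenter p (pCore p G) ⊓ E ≤ omegaOneCenter p (pCoreOf p E) ∧
    (omegaOneCenter p (pCoreOf p E) ⊓ centralizer (E : Set G)) ⊔ (omegaOneCenter p (pCore p G) ⊓ E) =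
      omegaOneCenter p (pCoreOf p E) := by
  have hV := omegaOneCenter_normal (p := p) (pCore p G)
  set N := omegaOneCenter p (pCore p G) ⊓ E
  set W := omegaOneCenter p (pCoreOf p E)
  have hEN : E ≤ normalizer (N : Set G) :=
    LocalStructure.le_normalizer_inf (by rw [normalizer_eq_top]; exact le_top) le_normalizer
  have hNW : N ≤ W := abelian_le_omega hE
    (inf_le_pCoreOf ((LocalStructure.isPGroup_pCore p).to_le (omegaOneCenter_le _)) (by rw [normalizer_eq_top]; exact le_top))
    (inf_le_left.trans ((omegaOneCenter_abelian _).trans (centralizer_le (SetLike.coe_subset_coe.mpr inf_le_left))))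
    hEN
  refine ⟨hNW, (module_irreducible hE le_sup_left (sup_le inf_le_left hNW) ?_).resolve_left fun e =>
    inf_omega_not_centralized hG hE ((e ▸ le_sup_right : N ≤ W ⊓ centralizer (E : Set G)).trans inf_le_right)⟩
  refine LocalStructure.le_normalizer_sup (LocalStructure.le_normalizer_inf (le_normalizer_omega hE) ?_) hEN
  exact LocalStructure.le_normalizer_centralizer le_normalizer

/-- `[W, E] ≤ V`. -/
theorem commutator_le_omega (hG : centralizer (pCore p G : Set G) ≤ pCore p G)
    (hE : IsBaumannBlock p (T : Subgroup G) E) :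
    ⁅omegaOneCenter p (pCoreOf p E), E⁆ ≤ omegaOneCenter p (pCore p G) := by
  obtain ⟨hNW, heq⟩ := omega_eq_sup hG hE
  have hV := omegaOneCenter_normal (p := p) (pCore p G)
  rw [commutator_le]
  intro w hw e he
  have hcomm : omegaOneCenter p (pCoreOf p E) ⊓ centralizer (E : Set G) ≤
      normalizer ((omegaOneCenter p (pCore p G) ⊓ E : Subgroup G) : Set G) :=
    (inf_le_left.trans (omegaOneCenter_abelian _)).trans
      ((centralizer_le (SetLike.coe_subset_coe.mpr hNW)).trans (centralizer_le_normalizer _))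
  rw [← heq, ← SetLike.mem_coe, Subgroup.coe_mul_of_left_le_normalizer_right _ _ hcomm] at hw
  obtain ⟨z, hz, n, hn, rfl⟩ := hw
  have e1 : ⁅z * n, e⁆ = n * (e * n⁻¹ * e⁻¹) := by
    have hzn : z * n = n * z := omegaOneCenter_abelian _ (hNW hn) z hz.1
    have hze : e * z = z * e := hz.2 e he
    rw [commutatorElement_def, mul_inv_rev, hzn]
    calc n * z * e * (n⁻¹ * z⁻¹) * e⁻¹ = n * (z * e) * (n⁻¹ * z⁻¹) * e⁻¹ := by group
      _ = n * (e * z) * (n⁻¹ * z⁻¹) * e⁻¹ := by rw [hze]
      _ = n * e * (z * n⁻¹) * z⁻¹ * e⁻¹ := by group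
      _ = n * e * (n⁻¹ * z) * z⁻¹ * e⁻¹ := by
            rw [(Commute.inv_right (show Commute z n from hzn)).eq]
      _ = _ := by group
  rw [e1]
  exact mul_mem hn.1 (hV.conj_mem _ (inv_mem hn.1) e)

/-- `J(T)` does not centralize `W_E`. -/
theorem thompson_not_centralize (hG : centralizer (pCore p G : Set G) ≤ pCore p G)
    (hE : IsBaumannBlock p (T : Subgroup G) E) :
    ⁅⁅omegaOneCenter p (pCoreOf p E), E⁆, thompsonSubgroupOf p (T : Subgroup G)⁆ ≠ ⊥ := by
  intro h
  set W := omegaOneCenter p (pCoreOf p E)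
  set WE := ⁅W, E⁆
  set B := baumannSubgroupOf p (T : Subgroup G)
  rw [commutator_eq_bot_iff_le_centralizer] at h
  have hWEV := commutator_le_omega hG hE
  have hWEW : WE ≤ W := commutator_le.mpr fun w hw e he => by
    rw [commutatorElement_def]
    have := (mem_normalizer_iff.mp (le_normalizer_omega hE he) w⁻¹).mp (inv_mem hw)
    rw [show w * e * w⁻¹ * e⁻¹ = w * (e * w⁻¹ * e⁻¹) by group]
    exact mul_mem hw this
  have hWEZ : WE ≤ omegaOne p (centerThompsonOf p (T : Subgroup G)) := fun x hx => by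
    have hxp := pow_eq_one_of_mem_omegaOneCenter (hWEV hx)
    have hxT : x ∈ (T : Subgroup G) := PCore.pCore_le_sylow T (omegaOneCenter_le _ (hWEV hx))
    refine PGroup.mem_omegaOne_of_pow_eq_one ⟨?_, h hx⟩ hxp
    obtain ⟨A, hA⟩ := PGroup.exists_isMaxEA (p := p) (T : Subgroup G)
    refine PGroup.le_thompsonSubgroupOf hA (PGroup.omegaOne_centralizer_le_of_isMaxEA hA
      (PGroup.mem_omegaOne_of_pow_eq_one ⟨hxT, ?_⟩ hxp))
    exact centralizer_le (SetLike.coe_subset_coe.mpr (PGroup.le_thompsonSubgroupOf hA)) (h hx)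
  have hBWE : B ≤ centralizer (WE : Set G) :=
    inf_le_right.trans (centralizer_le (SetLike.coe_subset_coe.mpr hWEZ))
  have h3 : ⁅⁅E, B⁆, WE⁆ = ⊥ := by
    refine commutator_commutator_eq_bot_of_rotate ?_ ?_
    · rw [commutator_eq_bot_iff_le_centralizer.mpr hBWE, commutator_bot_left]
    · refine commutator_eq_bot_iff_le_centralizer.mpr ((commutator_mono hWEW le_rfl).trans ?_)
      exact le_centralizer_iff.mp hBWE
  rw [hE.2.1, commutator_eq_bot_iff_le_centralizer] at h3
  refine inf_omega_not_centralized hG hE ((omega_eq_sup hG hE).1.trans ?_)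
  rw [le_centralizer_iff]
  refine le_of_coprime_mem hE.1 fun x hxE hxp => ?_
  intro w hw
  have hWp : IsPGroup p W := (LocalStructure.isPGroup_pCoreOf p E).to_le (omegaOneCenter_le _)
  have hc : w * x * w⁻¹ * x⁻¹ ∈ WE := by
    rw [← commutatorElement_def]; exact commutator_mem_commutator hw hxE
  have hc' : x * w * x⁻¹ * w⁻¹ ∈ WE := by
    have := WE.inv_mem hc
    rwa [show (w * x * w⁻¹ * x⁻¹)⁻¹ = x * w * x⁻¹ * w⁻¹ by group] at this
  have h1 : x * w * x⁻¹ * w⁻¹ ∈ (⊥ : Subgroup G) := by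
    refine mem_of_coprime_action hxp (by rw [normalizer_eq_top]; trivial) (by rw [normalizer_eq_top]; trivial)
      (isPGroup_exists_orderOf hWp (hWEW hc')) ?_
    rw [mem_bot, mul_inv_eq_one, mul_inv_eq_iff_eq_mul]
    exact (h3 hxE _ hc').symm
  rw [mem_bot, mul_inv_eq_one, mul_inv_eq_iff_eq_mul] at h1
  exact h1.symm

end Cfsg.Agent.BaumannBlock
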