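import Cfsg.Agent.Lib.LocalStructure.Basic
import Mathlib.GroupTheory.SchurZassenhaus

/-!
The trace map of an abelian normal `p`-subgroup: a `p`-group normalizing `F` and a subgroup `S` of
index prime to `p` in `F` fixes a point of `[V, F]` moved by `F`.
-/

set_option autoImplicit false

namespace Cfsg.Agent.BaumannBlock

open Subgroup
open scoped commutatorElement

variable {G : Type*} [Group G] [Finite G] {p : ℕ} [Fact p.Prime]

/-- A `p`-group normalizing a nontrivial `p`-group centralizes a nontrivial element of it. -/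
theorem exists_fixed_of_pGroup {M P : Subgroup G} (hM : IsPGroup p M) (hne : M ≠ ⊥) (hP : IsPGroup p P)
    (hn : P ≤ normalizer (M : Set G)) : ∃ x ∈ M, x ≠ 1 ∧ x ∈ centralizer (P : Set G) := by
  let φ : ↥P →* MulAut ↥M :=
    { toFun := fun g =>
        { toFun := fun x => ⟨(g : G) * x * (g : G)⁻¹, (mem_normalizer_iff.mp (hn g.2) _).mp x.2⟩
          invFun := fun x => ⟨(g : G)⁻¹ * x * (g : G), by
            have := (mem_normalizer_iff.mp (hn (inv_mem g.2)) _).mp x.2
            simpa using this⟩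
          left_inv := fun x => Subtype.ext (by simp [mul_assoc])
          right_inv := fun x => Subtype.ext (by simp [mul_assoc])
          map_mul' := fun x y => Subtype.ext (by simp [mul_assoc]) }
      map_one' := MulEquiv.ext fun x => Subtype.ext (by simp)
      map_mul' := fun g h => MulEquiv.ext fun x => Subtype.ext (by simp [mul_assoc]) }
  letI : MulAction ↥P ↥M := MulAction.compHom ↥M φ
  have hd : p ∣ Nat.card M := by
    obtain ⟨k, hk⟩ := IsPGroup.iff_card.mp hM
    rcases Nat.eq_zero_or_pos k with rfl | hk'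
    · exact absurd (Subgroup.eq_bot_of_card_eq M (by simpa using hk)) hne
    · exact hk ▸ dvd_pow_self p hk'.ne'
  have h1 : (1 : ↥M) ∈ MulAction.fixedPoints ↥P ↥M := fun g => map_one (φ g)
  obtain ⟨x, hx, hx1⟩ := hP.exists_fixed_point_of_prime_dvd_card_of_fixed_point ↥M hd h1
  refine ⟨x, x.2, fun e => hx1 (Subtype.ext e.symm), fun g hg => ?_⟩
  have := congrArg Subtype.val (hx ⟨g, hg⟩)
  exact mul_inv_eq_iff_eq_mul.mp this

/-- A `p`-group `P` normalizing `F` and `S` fixes an element of `[V, F]` moved by `F`. -/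
theorem exists_fixed_mover {V F S P : Subgroup G} [hV : V.Normal] [hc : IsMulCommutative ↥V]
    (hVp : IsPGroup p V) (hSF : S ≤ F) (hidx : (S.relIndex F).Coprime p) (hP : IsPGroup p P)
    (hPF : P ≤ normalizer (F : Set G)) (hPS : P ≤ normalizer (S : Set G)) {v : G} (hv : v ∈ V)
    (hvS : v ∈ centralizer (S : Set G)) (hvF : v ∉ centralizer (F : Set G)) :
    ∃ x ∈ ⁅V, F⁆, x ∈ centralizer (P : Set G) ∧ x ∉ centralizer (F : Set G) := by
  classical
  let _ : CommGroup ↥V := { (inferInstance : Group ↥V) with mul_comm := mul_comm' }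
  set S' := S.subgroupOf F
  have : Fintype (↥F ⧸ S') := Fintype.ofFinite _
  let conjV : G → ↥V → ↥V := fun g w => ⟨g * w * g⁻¹, hV.conj_mem _ w.2 g⟩
  let φ : ↥V →* ↥V :=
    { toFun := fun w => ∏ q : ↥F ⧸ S', conjV (q.out : G) w
      map_one' := Finset.prod_eq_one fun q _ => Subtype.ext (by simp [conjV])
      map_mul' := fun a b => by
        rw [← Finset.prod_mul_distrib]
        exact Finset.prod_congr rfl fun q _ => Subtype.ext (by simp [conjV, mul_assoc]) }
  have hrep : ∀ (w : ↥V), (w : G) ∈ centralizer (S : Set G) → ∀ a b : ↥F,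
      (QuotientGroup.mk a : ↥F ⧸ S') = QuotientGroup.mk b → conjV a w = conjV b w := by
    intro w hw a b hab
    have hs : (a : G)⁻¹ * b ∈ S := by simpa [S', mem_subgroupOf] using QuotientGroup.eq.mp hab
    refine Subtype.ext ?_
    show (a : G) * w * (a : G)⁻¹ = b * w * (b : G)⁻¹
    have e : ((a : G)⁻¹ * b) * w = w * ((a : G)⁻¹ * b) := hw _ hs
    calc (a : G) * w * (a : G)⁻¹ = a * (w * ((a : G)⁻¹ * b)) * (b : G)⁻¹ := by group
      _ = a * (((a : G)⁻¹ * b) * w) * (b : G)⁻¹ := by rw [e]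
      _ = _ := by group
  -- the trace of a point fixed by `S` is fixed by `F`
  have hfix : ∀ (w : ↥V), (w : G) ∈ centralizer (S : Set G) → ((φ w : ↥V) : G) ∈ centralizer (F : Set G) := by
    intro w hw y hy
    suffices h : conjV y (φ w) = φ w by
      have := congrArg Subtype.val h
      exact mul_inv_eq_iff_eq_mul.mp this
    let cy : ↥V →* ↥V :=
      { toFun := conjV y
        map_one' := Subtype.ext (by simp [conjV])
        map_mul' := fun a b => Subtype.ext (by simp [conjV, mul_assoc]) }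
    show cy (∏ q : ↥F ⧸ S', conjV (q.out : G) w) = _
    rw [map_prod]
    refine Fintype.prod_equiv (MulAction.toPerm (⟨y, hy⟩ : ↥F)) _ _ fun q => ?_
    rw [← hrep w hw (⟨y, hy⟩ * q.out) ((MulAction.toPerm (⟨y, hy⟩ : ↥F)) q).out (by
      rw [QuotientGroup.out_eq']
      show _ = (⟨y, hy⟩ : ↥F) • q
      conv_rhs => rw [← QuotientGroup.out_eq' q]
      rfl)]
    exact Subtype.ext (by simp [cy, conjV, mul_assoc])
  set n := Fintype.card (↥F ⧸ S')
  have hn : n.Coprime p := by rwa [Subgroup.relIndex, Subgroup.index, Nat.card_eq_fintype_card] at hidx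
  have hfixF : ∀ w : ↥V, (w : G) ∈ centralizer (F : Set G) → φ w = w ^ n := fun w hw => by
    show ∏ q : ↥F ⧸ S', conjV (q.out : G) w = _
    rw [Finset.prod_congr rfl fun q _ => (show conjV (q.out : G) w = w from Subtype.ext (by
      show (q.out : G) * w * (q.out : G)⁻¹ = w
      rw [mul_inv_eq_iff_eq_mul]; exact hw _ q.out.2)), Finset.prod_const, Finset.card_univ]
  have hpow : ∀ {K : Subgroup G}, ∀ w ∈ V, w ^ n ∈ K → w ∈ K := fun {K} w hw h => by
    obtain ⟨k, hk⟩ := IsPGroup.iff_orderOf.mp hVp ⟨w, hw⟩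
    rw [Subgroup.orderOf_mk] at hk
    obtain ⟨m, hm⟩ := exists_pow_eq_self_of_coprime (x := w) (n := n) (by rw [hk]; exact hn.pow_right k)
    rw [← hm]
    exact pow_mem h m
  set M := φ.ker.map V.subtype ⊓ centralizer (S : Set G) with hMdef
  have hMV : M ≤ V := inf_le_left.trans (map_subtype_le _)
  have hMc : ∀ x ∈ M, x ∈ centralizer (F : Set G) → x = 1 := by
    rintro x ⟨⟨w, hw, rfl⟩, -⟩ hxF
    have h1 : w ^ n = 1 := (hfixF w hxF).symm.trans hw
    exact mem_bot.mp (hpow _ w.2 (mem_bot.mpr (congrArg Subtype.val h1)))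
  have hMne : M ≠ ⊥ := by
    intro hbot
    set w : ↥V := ⟨v, hv⟩
    have hmem : ((w ^ n * (φ w)⁻¹ : ↥V) : G) ∈ M := by
      refine Subgroup.mem_inf.mpr ⟨⟨w ^ n * (φ w)⁻¹, ?_, rfl⟩, mul_mem (pow_mem hvS n)
        (inv_mem (centralizer_le (SetLike.coe_subset_coe.mpr hSF) (hfix w hvS)))⟩
      rw [SetLike.mem_coe, MonoidHom.mem_ker, map_mul, map_pow, map_inv, hfixF (φ w) (hfix w hvS), mul_inv_cancel]
    rw [hbot, mem_bot, Subgroup.coe_mul, InvMemClass.coe_inv, mul_inv_eq_one] at hmem
    refine hvF (hpow _ hv ?_)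
    rw [show v ^ n = ((w ^ n : ↥V) : G) from rfl, hmem]
    exact hfix w hvS
  have hPM : P ≤ normalizer (M : Set G) := by
    intro g hg
    refine LocalStructure.mem_normalizer_of_map_conj_le ?_
    rintro _ ⟨_, ⟨⟨w, hw, rfl⟩, hwS⟩, rfl⟩
    have hwS' : ((conjV g w : ↥V) : G) ∈ centralizer (S : Set G) :=
      (mem_normalizer_iff.mp (LocalStructure.le_normalizer_centralizer hPS hg) _).mp hwS
    refine Subgroup.mem_inf.mpr ⟨⟨conjV g w, ?_, rfl⟩, hwS'⟩
    rw [SetLike.mem_coe, MonoidHom.mem_ker] at hw ⊢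
    let cF : ↥F → ↥F := fun f => ⟨g * f * g⁻¹, (mem_normalizer_iff.mp (hPF hg) _).mp f.2⟩
    let σ : ↥F ⧸ S' → ↥F ⧸ S' := fun q => QuotientGroup.mk (cF q.out)
    have hσ : Function.Injective σ := by
      intro a b hab
      rw [← QuotientGroup.out_eq' a, ← QuotientGroup.out_eq' b, QuotientGroup.eq, mem_subgroupOf]
      have h := QuotientGroup.eq.mp hab
      rw [mem_subgroupOf] at h
      have h' := (mem_normalizer_iff.mp (hPS (inv_mem hg)) _).mp h
      simpa [cF, mul_assoc] using h'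
    let cg : ↥V →* ↥V :=
      { toFun := conjV g
        map_one' := Subtype.ext (by simp [conjV])
        map_mul' := fun a b => Subtype.ext (by simp [conjV, mul_assoc]) }
    have : φ (conjV g w) = cg (φ w) := by
      show _ = cg (∏ q : ↥F ⧸ S', conjV (q.out : G) w)
      rw [map_prod]
      refine (Fintype.prod_equiv (Equiv.ofBijective σ (Finite.injective_iff_bijective.mp hσ)) _ _ fun q => ?_).symm
      show cg (conjV (q.out : G) w) = conjV ((σ q).out : G) (conjV g w)
      rw [← hrep (conjV g w) hwS' (cF q.out) (σ q).out (QuotientGroup.out_eq' _).symm]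
      exact Subtype.ext (by simp [cg, cF, conjV, mul_assoc])
    rw [this, hw, map_one]
  obtain ⟨x, hx, hx1, hxP⟩ := exists_fixed_of_pGroup (hVp.to_le hMV) hMne hP hPM
  refine ⟨x, hpow x (hMV hx) ?_, hxP, fun h => hx1 (hMc x hx h)⟩
  obtain ⟨⟨w, hw, rfl⟩, -⟩ := hx
  have e : w ^ n = ∏ q : ↥F ⧸ S', w / conjV (q.out : G) w := by
    rw [Finset.prod_div_distrib, Finset.prod_const, Finset.card_univ]
    show _ = _ / φ w
    rw [MonoidHom.mem_ker.mp hw, div_one]
  have : w ^ n ∈ (⁅V, F⁆).subgroupOf V := by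
    rw [e]
    refine Subgroup.prod_mem _ fun q _ => ?_
    rw [mem_subgroupOf]
    have : ((w / conjV (q.out : G) w : ↥V) : G) = ⁅(w : G), (q.out : G)⁆ := by
      simp [conjV, commutatorElement_def, div_eq_mul_inv, mul_assoc]
    rw [this]
    exact commutator_mem_commutator w.2 q.out.2
  exact this

end Cfsg.Agent.BaumannBlock
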