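import Cfsg.Agent.Lib.BaumannBlock.Mutual
import Cfsg.Agent.Lib.BaumannBlock.Trace
import Cfsg.Agent.Lib.Offender.Replacement
import Cfsg.Agent.Lib.Subnormal.SylowJoin

/-!
Elementary abelian subgroups of largest order normalize every subnormal block, and the Baumann
subgroup of `G` normalizes every subnormal block.
-/

set_option autoImplicit false

namespace Cfsg.Agent.BaumannBlock

open Subgroup
open scoped commutatorElement

variable {G : Type*} [Group G] [Finite G] {p : ℕ} [Fact p.Prime] {E : Subgroup G}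

theorem omega_elementary : IsElementaryAbelian p (omegaOneCenter p (pCore p G)) :=
  PGroup.isElementaryAbelian_omegaOne
    (PGroup.isMulCommutative_of_forall fun _ ha _ hb => (ha.2 _ hb.1).symm)

/-- An element trivial on `W` modulo `Z` centralizes `W_E`. -/
theorem centralizes_bWE_of_trivial {T : Sylow p G} (hG : centralizer (pCore p G : Set G) ≤ pCore p G)
    (hE : IsBaumannBlock p (T : Subgroup G) E) {b : G} (hb : b ∈ normalizer (E : Set G))
    (h : ∀ u ∈ bWE p E, b * u * b⁻¹ * u⁻¹ ∈ centralizer (E : Set G)) : b ∈ centralizer (bWE p E : Set G) := by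
  obtain ⟨c, hc⟩ := exists_coord hG hE
  have hN : ∀ g ∈ normalizer (E : Set G), g ∈ normalizer (bW p E : Set G) ⊓ normalizer (bZ p E : Set G) :=
    fun g hg => ⟨normalizer_le_normalizer_bW E hg, normalizer_le_normalizer_bZ E hg⟩
  have hbn : ∀ u ∈ bWE p E, b * u * b⁻¹ * u⁻¹ ∈ bWE p E := fun u hu =>
    mul_mem ((mem_normalizer_iff.mp (normalizer_le_normalizer_bWE E hb) u).mp hu) (inv_mem hu)
  have htr : ∀ u ∈ bW p E, b * u * b⁻¹ * u⁻¹ ∈ bZ p E := fun u hu =>
    trivial_of_trivial_bWE hG hE (hN b hb).2 (fun v hv => ⟨bWE_le E (hbn v hv), h v hv⟩) hu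
  have h1 : c.aut ⟨b, hN b hb⟩ = 1 := (c.aut_eq_one_iff _).mpr htr
  suffices hle : bWE p E ≤ centralizer ({b} : Set G) from fun u hu => ((hle hu) b rfl).symm
  refine commutator_le.mpr fun w hw e he y hy => ?_
  rw [Set.mem_singleton_iff] at hy
  subst hy
  have hcE : y * e * y⁻¹ ∈ E := (mem_normalizer_iff.mp hb e).mp he
  have hcQ : y * e * y⁻¹ * e⁻¹ ∈ pCoreOf p E := by
    have hm : y * e * y⁻¹ * e⁻¹ ∈ E := mul_mem hcE (inv_mem he)
    refine mem_pCoreOf_of_trivial hG hE hm ((c.aut_eq_one_iff ⟨_, hN _ (le_normalizer hm)⟩).mp ?_)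
    rw [show (⟨_, hN _ (le_normalizer hm)⟩ : ↥(normalizer (bW p E : Set G) ⊓ normalizer (bZ p E : Set G))) =
      ⟨y, hN y hb⟩ * ⟨e, hN e (le_normalizer he)⟩ * ⟨y, hN y hb⟩⁻¹ * ⟨e, hN e (le_normalizer he)⟩⁻¹ from rfl]
    simp only [map_mul, map_inv, h1, inv_one, one_mul, mul_one, mul_inv_cancel]
  set k := y * e * y⁻¹ * e⁻¹ with hk
  set z := y * w * y⁻¹ * w⁻¹ with hz
  have hzE := (htr w hw).2
  have hzc : ∀ g ∈ E, g * z = z * g := fun g hg => hzE g hg
  have he' : y * e * y⁻¹ = k * e := by rw [hk]; group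
  have hw' : y * w * y⁻¹ = z * w := by rw [hz]; group
  have hkw : k * ⁅w, e⁆ * k⁻¹ = ⁅w, e⁆ :=
    commutator_pCoreOf_bW E hcQ (bWE_le E (commutator_mem_commutator hw he))
  have hkw' : w * k = k * w := (pCoreOf_centralizes_bW E hcQ w hw)
  have main : y * ⁅w, e⁆ * y⁻¹ = ⁅w, e⁆ := by
    rw [commutatorElement_def, show y * (w * e * w⁻¹ * e⁻¹) * y⁻¹ =
      (y * w * y⁻¹) * (y * e * y⁻¹) * (y * w * y⁻¹)⁻¹ * (y * e * y⁻¹)⁻¹ by group, he', hw']
    have hkE := LocalStructure.pCoreOf_le p E hcQ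
    calc z * w * (k * e) * (z * w)⁻¹ * (k * e)⁻¹
        = z * (w * (k * e) * w⁻¹) * z⁻¹ * (k * e)⁻¹ := by group
      _ = (w * (k * e) * w⁻¹) * z * z⁻¹ * (k * e)⁻¹ := by
          rw [hzc _ (mul_mem (mul_mem (bW_le E hw) (mul_mem hkE he)) (inv_mem (bW_le E hw)))]
      _ = (w * k) * e * w⁻¹ * e⁻¹ * k⁻¹ := by group
      _ = (k * w) * e * w⁻¹ * e⁻¹ * k⁻¹ := by rw [hkw']
      _ = k * ⁅w, e⁆ * k⁻¹ := by rw [commutatorElement_def]; group
      _ = _ := by rw [hkw, commutatorElement_def]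
  exact mul_inv_eq_iff_eq_mul.mp main

/-- An elementary abelian subgroup of largest order normalizes every subnormal block. -/
theorem max_le_normalizer (hG : centralizer (pCore p G : Set G) ≤ pCore p G)
    (hbE : ∃ T : Sylow p G, IsBaumannBlock p (T : Subgroup G) E) (hEs : E.IsSubnormal) {A : Subgroup G}
    (hA : A ∈ maxElementaryAbelianSubgroups p G) : A ≤ normalizer (E : Set G) := by
  by_contra hno
  obtain ⟨a0, ha0, ha0N⟩ := SetLike.not_le_iff_exists.mp hno
  obtain ⟨T, hE⟩ := hbE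
  have hAc : ∀ a ∈ A, ∀ b ∈ A, a * b = b * a := fun a ha b hb => PGroup.mul_comm_of_elementaryAbelian hA.1 ha hb
  have hblk : ∀ x, ∃ T : Sylow p G, IsBaumannBlock p (T : Subgroup G) (cj x E) := fun x => block_conj ⟨T, hE⟩ x
  have hsub : ∀ x, (cj x E).IsSubnormal := fun x => hEs.map (MulAut.conj x).surjective
  have hcomm : ∀ x, cj x E ≠ E → cj x E ≤ centralizer (E : Set G) := fun x hx =>
    le_centralizer_iff.mp (commutator_eq_bot_iff_le_centralizer.mp
      ((eq_or_commute hG ⟨T, hE⟩ (hblk x) hEs (hsub x)).resolve_left (Ne.symm hx)))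
  have hcj : ∀ x y : G, cj x (cj y E) = cj (x * y) E := fun x y => (LocalStructure.map_conj_mul E x y).symm
  have hinj : ∀ x {H K : Subgroup G}, cj x H = cj x K → H = K := fun x _ _ h =>
    Subgroup.map_injective (MulAut.conj x).injective h
  set U : Subgroup G := ⨆ a : ↥A, cj (a : G) (bWE p E)
  have hUV : U ≤ omegaOneCenter p (pCore p G) := iSup_le fun a => by
    rw [← map_conj_omega (a : G)]; exact Subgroup.map_mono (bWE_le_omega hG hE)
  have hWU : ∀ a ∈ A, cj a (bWE p E) ≤ U := fun a ha => le_iSup (fun a : ↥A => cj (a : G) (bWE p E)) ⟨a, ha⟩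
  have hW1 : bWE p E ≤ U := by
    have := hWU 1 (one_mem A)
    rwa [cj, LocalStructure.map_conj_one] at this
  have hUE : IsElementaryAbelian p U := PGroup.isElementaryAbelian_mono omega_elementary hUV
  have hAU : A ≤ normalizer (U : Set G) := by
    intro a ha
    refine LocalStructure.mem_normalizer_of_map_conj_le ?_
    rw [Subgroup.map_iSup]
    refine iSup_le fun b => ?_
    rw [← LocalStructure.map_conj_mul]
    exact hWU _ (mul_mem ha b.2)
  have hoff := Offender.isBestOffenderOn_of_max hUE hA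
  obtain ⟨h1, h2⟩ := Offender.timmesfeld hUE.1 hAU hoff.2.1 hoff.1 (le_refl U)
  set As := A ⊓ centralizer ((⁅U, A⁆ : Subgroup G) : Set G) with hAs
  have hquad : ∀ b ∈ As, ∀ t ∈ A, ∀ v ∈ U, b * (v * (t * v * t⁻¹)⁻¹) * b⁻¹ = v * (t * v * t⁻¹)⁻¹ := by
    intro b hb t ht v hv
    rw [mul_inv_eq_iff_eq_mul]
    have : v * (t * v * t⁻¹)⁻¹ ∈ ⁅U, A⁆ := by
      rw [show v * (t * v * t⁻¹)⁻¹ = v * t * v⁻¹ * t⁻¹ by group, ← commutatorElement_def]
      exact commutator_mem_commutator hv ht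
    exact (hb.2 _ this).symm
  have hfixall : ∀ b ∈ A, cj b E = E → ∀ a ∈ A, cj b (cj a E) = cj a E := fun b hb h a ha => by
    rw [hcj, hAc b hb a ha, ← hcj, h]
  have hmoved : cj a0 E ≠ E := fun e => ha0N (cj_normal_mem e)
  -- elements of `A*` fixing `E` centralize `U`
  have hfixc : ∀ b ∈ As, cj b E = E → b ∈ centralizer (U : Set G) := by
    intro b hb hbE
    suffices key : b ∈ centralizer (bWE p E : Set G) by
      suffices hle : U ≤ centralizer ({b} : Set G) from fun u hu => ((hle hu) b rfl).symm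
      refine iSup_le fun a => ?_
      rintro _ ⟨w, hw, rfl⟩ y hy
      rw [Set.mem_singleton_iff] at hy
      subst hy
      simp only [MulEquiv.coe_toMonoidHom, MulAut.conj_apply]
      have c1 : Commute y (a : G) := hAc y hb.1 a a.2
      have c2 : Commute y w := (key w hw).symm
      exact ((c1.mul_right c2).mul_right c1.inv_right).eq
    refine centralizes_bWE_of_trivial hG hE (cj_normal_mem hbE) fun v hv => ?_
    have hm : b * v * b⁻¹ * v⁻¹ ∈ E := by
      have hbn := mem_normalizer_iff.mp (cj_normal_mem hbE)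
      exact mul_mem ((hbn v).mp (bW_le E (bWE_le E hv))) (inv_mem (bW_le E (bWE_le E hv)))
    set v' := a0 * v * a0⁻¹ with hv'
    have hv'E : v' ∈ cj a0 E := ⟨v, bW_le E (bWE_le E hv), rfl⟩
    have hbv' : b * v' * b⁻¹ ∈ cj a0 E := by
      rw [← hfixall b hb.1 hbE a0 ha0]; exact ⟨v', hv'E, rfl⟩
    have hq := hquad b hb a0 ha0 v (hW1 hv)
    rw [← hv'] at hq
    have hvV := bWE_le_omega hG hE hv
    have hbvV : b * v * b⁻¹ ∈ omegaOneCenter p (pCore p G) :=
      (mem_normalizer_iff.mp (by rw [omega_normalizer_eq_top]; trivial) v).mp hvV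
    have heq : b * v * b⁻¹ * v⁻¹ = b * v' * b⁻¹ * v'⁻¹ := by
      have h3 : b * v * b⁻¹ * (b * v' * b⁻¹)⁻¹ = v * v'⁻¹ := by
        rw [← hq]; group
      have h4 : b * v * b⁻¹ = v * v'⁻¹ * (b * v' * b⁻¹) := mul_inv_eq_iff_eq_mul.mp h3
      have hc : v * (v'⁻¹ * (b * v' * b⁻¹)) = (v'⁻¹ * (b * v' * b⁻¹)) * v := by
        have hv'V : v' ∈ omegaOneCenter p (pCore p G) :=
          (mem_normalizer_iff.mp (by rw [omega_normalizer_eq_top]; trivial) v).mp hvV
        have hbv'V : b * v' * b⁻¹ ∈ omegaOneCenter p (pCore p G) :=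
          (mem_normalizer_iff.mp (by rw [omega_normalizer_eq_top]; trivial) v').mp hv'V
        exact omegaOneCenter_abelian _ (mul_mem (inv_mem hv'V) hbv'V) v hvV
      have hc' : v'⁻¹ * (b * v' * b⁻¹) = (b * v' * b⁻¹) * v'⁻¹ := by
        have hv'V : v' ∈ omegaOneCenter p (pCore p G) :=
          (mem_normalizer_iff.mp (by rw [omega_normalizer_eq_top]; trivial) v).mp hvV
        exact omegaOneCenter_abelian _ ((mem_normalizer_iff.mp (by rw [omega_normalizer_eq_top]; trivial) v').mp hv'V)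
          _ (inv_mem hv'V)
      rw [h4, mul_assoc v, hc, mul_inv_cancel_right, hc']
    rw [heq]
    exact hcomm a0 hmoved (mul_mem hbv' (inv_mem hv'E))
  by_cases hall : ∀ b ∈ As, cj b E = E
  · have hc : U ≤ centralizer (As : Set G) := fun u hu b hb => ((hfixc b hb (hall b hb)) u hu).symm
    rw [inf_eq_left.mpr hc] at h1
    have hbot : ⁅U, A⁆ = ⊥ := by
      refine Offender.eq_bot_of_commutator_eq hUE.1 (PGroup.isPGroup_of_elementaryAbelian hUE) hAU hoff.2.1
        hoff.2.2 (Offender.commutator_le_left hAU) (le_antisymm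
          (commutator_mono (Offender.commutator_le_left hAU) le_rfl) (commutator_le.mpr fun u hu a ha => ?_))
      obtain ⟨x, hx, c, hc', rfl⟩ := LocalStructure.exists_mul_of_mem_sup
        (H := ⁅U, A⁆) (N := U ⊓ centralizer (A : Set G))
        (omega_le_normalizer_of_le ((Offender.commutator_le_left hAU).trans hUV) (inf_le_left.trans hUV))
        (h1.le hu)
      have hca : a * c = c * a := hc'.2 a ha
      rw [show ⁅x * c, a⁆ = ⁅x, a⁆ by
        simp only [commutatorElement_def, _root_.mul_inv_rev]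
        calc x * c * a * (c⁻¹ * x⁻¹) * a⁻¹ = x * (c * a) * c⁻¹ * x⁻¹ * a⁻¹ := by group
          _ = x * (a * c) * c⁻¹ * x⁻¹ * a⁻¹ := by rw [hca]
          _ = _ := by group]
      exact commutator_mem_commutator hx ha
    refine not_bWE_le_centralizer hG hE fun w hw => ?_
    have hwa : a0 * w * a0⁻¹ = w := by
      have := commutator_eq_bot_iff_le_centralizer.mp hbot (hW1 hw) a0 ha0
      rw [this, mul_inv_cancel_right]
    exact hcomm a0 hmoved ⟨w, bW_le E (bWE_le E hw), hwa⟩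
  push Not at hall
  obtain ⟨s, hs, hsE⟩ := hall
  have hvc : ∀ x, cj x E ≠ E → ∀ v ∈ bWE p E, x * v * x⁻¹ ∈ centralizer (E : Set G) := fun x hx v hv =>
    hcomm x hx ⟨v, bW_le E (bWE_le E hv), rfl⟩
  have hpair : ∀ t ∈ As, cj t E ≠ E → cj (s * t) E = E := by
    intro t ht htE
    by_contra hst
    refine not_bWE_le_centralizer hG hE fun v hv => ?_
    have hq := hquad t ht s hs.1 v (hW1 hv)
    have e : v = t * v * t⁻¹ * ((s * t) * v * (s * t)⁻¹)⁻¹ * (s * v * s⁻¹) := by
      rw [hAc s hs.1 t ht.1]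
      have : v * (s * v * s⁻¹)⁻¹ = t * v * t⁻¹ * ((t * s) * v * (t * s)⁻¹)⁻¹ := by rw [← hq]; group
      exact mul_inv_eq_iff_eq_mul.mp this
    rw [e]
    exact mul_mem (mul_mem (hvc t htE v hv) (inv_mem (hvc _ hst v hv))) (hvc s hsE v hv)
  set A0 := As ⊓ normalizer (E : Set G)
  have hA0c : A0 ≤ A ⊓ centralizer (U : Set G) := fun b hb =>
    Subgroup.mem_inf.mpr ⟨hb.1.1, hfixc b hb.1 (LocalStructure.map_conj_eq_self hb.2)⟩
  have hidx : A0.relIndex As = 2 := by
    rw [relIndex_eq_two_iff_exists_notMem_and']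
    refine ⟨s, hs, fun h => hsE (LocalStructure.map_conj_eq_self h.2), fun t ht => ?_⟩
    by_cases htE : cj t E = E
    · exact Or.inr ⟨ht, cj_normal_mem htE⟩
    · exact Or.inl ⟨mul_mem hs ht, cj_normal_mem (hpair t ht htE)⟩
  set C := U ⊓ centralizer (As : Set G) with hCdef
  have hC4 : 4 ≤ C.relIndex U := by
    have h3 : C ⊓ bWE p E ≤ bWE p E ⊓ centralizer (E : Set G) := fun v hv => by
      refine Subgroup.mem_inf.mpr ⟨hv.2, ?_⟩
      have : s * v * s⁻¹ = v := by rw [mul_inv_eq_iff_eq_mul]; exact hv.1.2 s hs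
      rw [← this]
      exact hvc s hsE v hv.2
    have h4 : bA p E ≤ C.relIndex (bWE p E) := by
      rw [← relIndex_bWE hG hE, ← inf_relIndex_right C (bWE p E)]
      exact Nat.le_of_dvd (relIndex_pos _ _) (relIndex_dvd_of_le_left _ h3)
    refine (four_le_bA hG hE).trans (h4.trans ?_)
    rw [← Replacement.relIndex_sup_of_le_normalizer (omega_le_normalizer_of_le (hW1.trans hUV) (inf_le_left.trans hUV))]
    rw [← relIndex_mul_relIndex C _ U le_sup_left (sup_le inf_le_left hW1)]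
    exact Nat.le_mul_of_pos_right _ (relIndex_pos _ _)
  have e1 : Nat.card ↥C * C.relIndex U = Nat.card U := by
    have := relIndex_mul_relIndex ⊥ C U bot_le inf_le_left
    rwa [relIndex_bot_left, relIndex_bot_left] at this
  have e2 : Nat.card ↥A0 * A0.relIndex As = Nat.card ↥As := by
    have := relIndex_mul_relIndex ⊥ A0 As bot_le inf_le_left
    rwa [relIndex_bot_left, relIndex_bot_left] at this
  have h5 := hoff.1 A0 (inf_le_left.trans inf_le_left)
  rw [h2, inf_eq_left.mpr (show U ≤ centralizer (A0 : Set G) from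
    le_centralizer_iff.mp (hA0c.trans inf_le_right)), ← e1, ← e2, hidx] at h5
  have hp1 : 0 < Nat.card ↥A0 * Nat.card ↥C := Nat.mul_pos Nat.card_pos Nat.card_pos
  have : Nat.card ↥A0 * (Nat.card ↥C * C.relIndex U) = Nat.card ↥A0 * Nat.card ↥C * C.relIndex U := by ring
  nlinarith

theorem thompson_le_normalizer (hG : centralizer (pCore p G : Set G) ≤ pCore p G)
    (hbE : ∃ T : Sylow p G, IsBaumannBlock p (T : Subgroup G) E) (hEs : E.IsSubnormal) (T : Sylow p G) :
    thompsonSubgroupOf p (T : Subgroup G) ≤ normalizer (E : Set G) := by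
  obtain ⟨A, hA, hAT⟩ := Offender.exists_max_le_sylow T
  rw [Offender.thompsonSubgroupOf_eq hA hAT]
  exact sSup_le fun B hB => max_le_normalizer hG hbE hEs hB.1

end Cfsg.Agent.BaumannBlock
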