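import Cfsg.Agent.Lib.BaumannBlock.Action

/-!
A block normalizing a subnormal block `E` and centralizing `W_E` centralizes `E`.
-/

set_option autoImplicit false

namespace Cfsg.Agent.BaumannBlock

open Subgroup
open scoped commutatorElement

variable {G : Type*} [Group G] [Finite G] {p : ℕ} [Fact p.Prime] {T T' : Sylow p G} {E F : Subgroup G}

theorem trivial_on_pCoreOf (hG : centralizer (pCore p G : Set G) ≤ pCore p G)
    (hE : IsBaumannBlock p (T : Subgroup G) E) (hEs : E.IsSubnormal)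
    (hF : IsBaumannBlock p (T' : Subgroup G) F) (hn : F ≤ normalizer (E : Set G))
    (hc : F ≤ centralizer (bWE p E : Set G)) (he : IsExceptional p E) {f q : G} (hf : f ∈ F)
    (hq : q ∈ pCoreOf p E) : f * q * f⁻¹ * q⁻¹ ∈ bW p E := by
  have hfacts := exceptional_facts hE he
  set Q := pCoreOf p E
  set W := bW p E
  obtain ⟨-, hQQ, -, -, hab, hirr, c, hcQ⟩ := hfacts
  have hN : ∀ g ∈ normalizer (E : Set G), g ∈ normalizer (Q : Set G) ⊓ normalizer (W : Set G) := fun g hg =>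
    ⟨LocalStructure.normalizer_le_normalizer_pCoreOf E hg, normalizer_le_normalizer_bW E hg⟩
  have hNQ : ∀ g ∈ normalizer (E : Set G), ∀ a ∈ Q, g * a * g⁻¹ ∈ Q := fun g hg a ha =>
    (mem_normalizer_iff.mp (hN g hg).1 a).mp ha
  have hQQW : ∀ a ∈ Q, ∀ b ∈ Q, a * b * a⁻¹ * b⁻¹ ∈ W := fun a ha b hb => by
    have := commutator_mem_commutator ha hb
    rw [hQQ, commutatorElement_def] at this
    exact bZ_le E this
  let U₁ : Subgroup G := W ⊔ ⁅Q, F⁆
  have hQF : ⁅Q, F⁆ ≤ Q := commutator_le.mpr fun a ha g hg => by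
    rw [commutatorElement_def, mul_assoc, mul_assoc, ← mul_assoc g]
    exact mul_mem ha (hNQ g (hn hg) _ (inv_mem ha))
  have hU : E ≤ normalizer (U₁ : Set G) := by
    intro e he'
    refine LocalStructure.mem_normalizer_of_map_conj_le ?_
    rw [Subgroup.map_sup, LocalStructure.map_conj_eq_self (le_normalizer_bW E he'), map_commutator]
    refine sup_le le_sup_left (commutator_le.mpr ?_)
    rintro _ ⟨a, ha, rfl⟩ _ ⟨g, hg, rfl⟩
    simp only [MulEquiv.coe_toMonoidHom, MulAut.conj_apply]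
    set a' := e * a * e⁻¹
    have ha' : a' ∈ Q := hNQ e (le_normalizer he') a ha
    set d := e * g * e⁻¹ * g⁻¹ with hd
    have hdQ : d ∈ Q := by
      have h1 := hNQ g (hn hg) _ (comm_mem_pCoreOf_of_centralizes hG hE (hn hg) (hc hg) he')
      have h2 := comm_mem_pCoreOf_of_centralizes hG hE (hn hg) (hc hg) he'
      have := inv_mem h2
      rwa [show (g * e * g⁻¹ * e⁻¹)⁻¹ = d by rw [hd]; group] at this
    rw [show e * g * e⁻¹ = d * g by rw [hd]; group, commutatorElement_def,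
      show a' * (d * g) * a'⁻¹ * (d * g)⁻¹ =
        (a' * d * a'⁻¹ * d⁻¹) * ((d * (a' * g * a'⁻¹ * g⁻¹) * d⁻¹ * (a' * g * a'⁻¹ * g⁻¹)⁻¹) *
          (a' * g * a'⁻¹ * g⁻¹)) by group]
    have hx : a' * g * a'⁻¹ * g⁻¹ ∈ ⁅Q, F⁆ := by
      rw [← commutatorElement_def]; exact commutator_mem_commutator ha' hg
    exact mul_mem (mem_sup_left (hQQW a' ha' d hdQ))
      (mul_mem (mem_sup_left (hQQW d hdQ _ (hQF hx))) (mem_sup_right hx))
  rcases hirr U₁ le_sup_left (sup_le (bW_le_pCoreOf E) hQF) hU with h | h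
  · have : ⁅q, f⁆ ∈ W := h ▸ mem_sup_right (commutator_mem_commutator hq hf)
    have := inv_mem this
    rwa [commutatorElement_def, show (q * f * q⁻¹ * f⁻¹)⁻¹ = f * q * f⁻¹ * q⁻¹ by group] at this
  exfalso
  have hk : ∀ k ∈ ⁅F, F⁆, ∀ a ∈ Q, k * a * k⁻¹ * a⁻¹ ∈ W := by
    have hle : ⁅F, F⁆ ≤ (c.aut.ker).map (Subgroup.subtype _) := by
      refine commutator_le.mpr fun a ha b hb => ?_
      refine ⟨⁅(⟨a, hN a (hn ha)⟩ : ↥(normalizer (Q : Set G) ⊓ normalizer (W : Set G))),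
        ⟨b, hN b (hn hb)⟩⁆, ?_, rfl⟩
      have hcom : ∀ g (hg : g ∈ F), c.aut ⟨g, hN g (hn hg)⟩ ∈ centralizer (c.ρ.range : Set (MulAut c.M)) := by
        rintro g hg _ ⟨e, rfl⟩
        have h1 := comm_mem_pCoreOf_of_centralizes hG hE (hn hg) (hc hg) e.2
        rw [← c.aut_eq_ρ e ⟨e, hN _ (le_normalizer e.2)⟩ rfl]
        have hmem : g * (e : G) * g⁻¹ * (e : G)⁻¹ ∈ E := LocalStructure.pCoreOf_le p E h1
        have h2 : c.aut ⟨_, hN _ (le_normalizer hmem)⟩ = 1 := by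
          rw [c.aut_eq_ρ ⟨_, hmem⟩ _ rfl]
          exact (hcQ _).mpr h1
        rw [show (⟨_, hN _ (le_normalizer hmem)⟩ : ↥(normalizer (Q : Set G) ⊓ normalizer (W : Set G))) =
          ⟨g, hN g (hn hg)⟩ * ⟨e, hN _ (le_normalizer e.2)⟩ * ⟨g, hN g (hn hg)⟩⁻¹ *
            ⟨e, hN _ (le_normalizer e.2)⟩⁻¹ from rfl] at h2
        simp only [map_mul, map_inv, mul_inv_eq_one, mul_inv_eq_iff_eq_mul] at h2
        exact h2.symm
      rw [SetLike.mem_coe, MonoidHom.mem_ker, map_commutatorElement, commutatorElement_eq_one_iff_mul_comm]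
      exact c.commutant _ (hcom a ha) _ (hcom b hb)
    rintro k hk a ha
    obtain ⟨g, hg, rfl⟩ := hle hk
    exact (c.aut_eq_one_iff g).mp hg a ha
  suffices hA : ⁅Q, F⁆ ≤ bW p F by
    refine hab ?_
    have hQ : Q = U₁ := h.symm
    have hAc : ⁅Q, F⁆ ≤ centralizer ((⁅Q, F⁆ : Subgroup G) : Set G) :=
      hA.trans ((bW_comm F).trans (centralizer_le (SetLike.coe_subset_coe.mpr hA)))
    have hWc : W ≤ centralizer (Q : Set G) := omegaOneCenter_le_centralizer _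
    conv_lhs => rw [hQ]
    refine sup_le hWc ?_
    conv_rhs => rw [hQ]
    rw [le_centralizer_iff, sup_le_iff]
    exact ⟨hWc.trans (centralizer_le (SetLike.coe_subset_coe.mpr hQF)), hAc⟩
  have hQR := pCoreOf_le_pCore (p := p) hEs
  have hAF : ⁅Q, F⁆ ≤ pCoreOf p F := commutator_le.mpr fun a ha g hg => by
    have := (pCoreOf p F).inv_mem (comm_mem_pCoreOf hF (hQR ha) hg).2
    rwa [commutatorElement_def, show a * g * a⁻¹ * g⁻¹ = (g * a * g⁻¹ * a⁻¹)⁻¹ by group]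
  by_cases heF : IsExceptional p F
  · obtain ⟨hp3, -, -, -, -, hirrF, c', hcQ'⟩ := exceptional_facts hF heF
    have hFQ : ∀ g ∈ F, ∀ a ∈ pCoreOf p F, g * a * g⁻¹ ∈ pCoreOf p F := fun g hg a ha =>
      (mem_normalizer_iff.mp (LocalStructure.le_normalizer_pCoreOf p F hg) a).mp ha
    have hFW : ∀ g ∈ F, ∀ a ∈ bW p F, g * a * g⁻¹ ∈ bW p F := fun g hg a ha =>
      (mem_normalizer_iff.mp (le_normalizer_bW F hg) a).mp ha
    have hWc : ∀ a ∈ pCoreOf p F, ∀ w ∈ bW p F, a * w * a⁻¹ = w := fun a ha w hw => commutator_pCoreOf_bW F ha hw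
    have hWF : W ⊓ pCoreOf p F ≤ bW p F := abelian_le_omega hF inf_le_right
      (inf_le_left.trans ((bW_comm E).trans (centralizer_le (SetLike.coe_subset_coe.mpr inf_le_left))))
      (LocalStructure.le_normalizer_inf (hn.trans (normalizer_le_normalizer_bW E))
        (LocalStructure.le_normalizer_pCoreOf p F))
    have hFF : ⁅F, F⁆ ≤ F := Subgroup.commutator_le_self F
    let P1 : Subgroup G :=
      { carrier := {x | x ∈ pCoreOf p F ∧ ∀ k ∈ ⁅F, F⁆, k * x * k⁻¹ * x⁻¹ ∈ bW p F}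
        one_mem' := ⟨one_mem _, fun k _ => by simp⟩
        mul_mem' := fun {x y} hx hy => ⟨mul_mem hx.1 hy.1, fun k hk' => by
          rw [show k * (x * y) * k⁻¹ * (x * y)⁻¹ = (k * x * k⁻¹ * x⁻¹) * (x * (k * y * k⁻¹ * y⁻¹) * x⁻¹) by group,
            hWc x hx.1 _ (hy.2 k hk')]
          exact mul_mem (hx.2 k hk') (hy.2 k hk')⟩
        inv_mem' := fun {x} hx => ⟨inv_mem hx.1, fun k hk' => by
          rw [show k * x⁻¹ * k⁻¹ * x⁻¹⁻¹ = x⁻¹ * (k * x * k⁻¹ * x⁻¹)⁻¹ * x⁻¹⁻¹ by group,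
            hWc _ (inv_mem hx.1) _ (inv_mem (hx.2 k hk'))]
          exact inv_mem (hx.2 k hk')⟩ }
    have hAP : ⁅Q, F⁆ ≤ P1 := fun x hx => ⟨hAF hx, fun k hk' => hWF (Subgroup.mem_inf.mpr
      ⟨hk k hk' x (hQF hx), mul_mem (hFQ k (hFF hk') x (hAF hx)) (inv_mem (hAF hx))⟩)⟩
    have hP1 : F ≤ normalizer (P1 : Set G) := by
      intro g hg
      refine LocalStructure.mem_normalizer_of_map_conj_le ?_
      rintro _ ⟨x, hx, rfl⟩
      refine ⟨hFQ g hg x hx.1, fun k hk' => ?_⟩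
      have h1 : g⁻¹ * k * g⁻¹⁻¹ ∈ ⁅F, F⁆ :=
        (mem_normalizer_iff.mp (LocalStructure.le_normalizer_commutator le_normalizer le_normalizer (inv_mem hg)) k).mp hk'
      have h2 := hFW g hg _ (hx.2 _ h1)
      simp only [MulEquiv.coe_toMonoidHom, MulAut.conj_apply]
      rwa [show g * (g⁻¹ * k * g⁻¹⁻¹ * x * (g⁻¹ * k * g⁻¹⁻¹)⁻¹ * x⁻¹) * g⁻¹ =
        k * (g * x * g⁻¹) * k⁻¹ * (g * x * g⁻¹)⁻¹ by group] at h2
    have h0 : bW p F ≤ P1 := fun x hx => ⟨bW_le_pCoreOf F hx, fun k hk' =>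
      mul_mem (hFW k (hFF hk') x hx) (inv_mem hx)⟩
    rcases hirrF P1 h0 (fun x hx => hx.1) hP1 with h' | h'
    · exact hAP.trans h'.le
    · exfalso
      refine c'.noncomm_of_ne_two (by omega) (le_bot_iff.mp (commutator_le.mpr ?_))
      rintro _ ⟨a, rfl⟩ _ ⟨b, rfl⟩
      rw [← map_commutatorElement, mem_bot]
      ext m
      obtain ⟨u, rfl⟩ := c'.surj m
      have hk' : ((⁅a, b⁆ : ↥F) : G) ∈ ⁅F, F⁆ := commutator_mem_commutator a.2 b.2
      have hu := ((h'.ge u.2 : (u : G) ∈ P1)).2 _ hk'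
      rw [← c'.act ⁅a, b⁆ u ⟨_, hFQ _ (hFF hk') u u.2⟩ rfl, MulAut.one_apply, ← mul_inv_eq_one, ← map_inv,
        ← map_mul, c'.ker]
      exact hu
  · rw [IsExceptional, not_not] at heF
    exact hAF.trans heF.le

/-- A block normalizing a subnormal block `E` and centralizing `W_E` centralizes `E`. -/
theorem commutator_eq_bot_of_centralizes (hG : centralizer (pCore p G : Set G) ≤ pCore p G)
    (hE : IsBaumannBlock p (T : Subgroup G) E) (hEs : E.IsSubnormal)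
    (hF : IsBaumannBlock p (T' : Subgroup G) F) (hn : F ≤ normalizer (E : Set G))
    (hc : F ≤ centralizer (bWE p E : Set G)) : ⁅E, F⁆ = ⊥ := by
  rw [commutator_eq_bot_iff_le_centralizer, le_centralizer_iff]
  refine le_of_coprime_mem hF.1 fun x hx hxp => ?_
  exact centralizes_of_trivial hG hE (hn hx) hxp (hc hx) fun he q hq =>
    trivial_on_pCoreOf hG hE hEs hF hn hc he hx hq

end Cfsg.Agent.BaumannBlock
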