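import Cfsg.Agent.Lib.BaumannBlock.Action

/-!
In an exceptional block over three elements, an element of order prime to three centralizing `W_E` is
trivial on `O_p(E) / W`.
-/

set_option autoImplicit false

namespace Cfsg.Agent.BaumannBlock

open Subgroup
open scoped commutatorElement

/-- A `p`-automorphism of a group of order `p ^ 2` is quadratic. -/
theorem two_step {M : Type} [CommGroup M] [Finite M] {p k : ℕ} [Fact p.Prime] (hM : Nat.card M = p ^ 2)
    {β : MulAut M} (hβ : β ^ p ^ k = 1) (m : M) : β (β m / m) = β m / m := by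
  classical
  let f : M →* M := { toFun := fun m => β m / m, map_one' := by simp,
                      map_mul' := fun a b => by simp [mul_div_mul_comm] }
  show β (f m) = f m
  by_cases hf : f.range = ⊥
  · rw [show f m = 1 from mem_bot.mp (hf ▸ (⟨m, rfl⟩ : f m ∈ f.range)), map_one]
  have hp : p.Prime := Fact.out
  have hfix : ∃ b : M, β b = b ∧ b ≠ 1 := by
    have := Fintype.ofFinite M
    have hσ : (MulEquiv.toEquiv β : Equiv.Perm M) ^ p ^ k = 1 := by
      have h : ∀ n : ℕ, (MulEquiv.toEquiv β : Equiv.Perm M) ^ n = MulEquiv.toEquiv (β ^ n) := fun n => by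
        induction n with
        | zero => rfl
        | succ n ih => rw [pow_succ, pow_succ, ih]; rfl
      rw [h, hβ]; rfl
    exact Equiv.Perm.exists_fixed_point_of_prime' (a := (1 : M))
      (by rw [← Nat.card_eq_fintype_card, hM]; exact dvd_pow_self p two_ne_zero) hσ (map_one β)
  have hker : f.ker ≠ ⊥ := fun e => by
    obtain ⟨b, hb, hb1⟩ := hfix
    have : b ∈ f.ker := by show β b / b = 1; rw [hb, div_self']
    exact hb1 (mem_bot.mp (e ▸ this))
  have hI : Nat.card f.range = p := by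
    have h := Subgroup.card_mul_index f.ker
    rw [Subgroup.index_ker, hM] at h
    obtain ⟨i, hi, hi'⟩ := (Nat.dvd_prime_pow hp).mp (Dvd.intro_left _ h : Nat.card f.range ∣ p ^ 2)
    have hk1 : 1 < Nat.card f.ker := Subgroup.one_lt_card_iff_ne_bot _ |>.mpr hker
    have hr1 : 1 < Nat.card f.range := Subgroup.one_lt_card_iff_ne_bot _ |>.mpr hf
    interval_cases i
    · rw [pow_zero] at hi'; omega
    · simpa using hi'
    · exfalso
      rw [hi'] at h
      have : Nat.card f.ker = 1 := Nat.eq_of_mul_eq_mul_right (pow_pos hp.pos 2) (h.trans (one_mul _).symm)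
      omega
  have := Fintype.ofFinite ↥f.range
  let σ : Equiv.Perm ↥f.range := Equiv.ofBijective (fun x => ⟨β x, by
    obtain ⟨y, hy⟩ := x.2
    exact ⟨β y, by rw [← hy]; show β (β y) / β y = β (β y / y); rw [map_div]⟩⟩)
    (Finite.injective_iff_bijective.mp fun a b h => Subtype.ext (β.injective (congrArg Subtype.val h)))
  have hσv : ∀ (n : ℕ) x, (((σ ^ n) x : ↥f.range) : M) = (β ^ n) x := fun n => by
    induction n with
    | zero => intro x; rfl
    | succ n ih =>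
      intro x
      rw [pow_succ, pow_succ, Equiv.Perm.mul_apply, MulAut.mul_apply, ih]
      rfl
  obtain ⟨b, hb, hb1⟩ := Equiv.Perm.exists_fixed_point_of_prime' (a := (1 : ↥f.range))
    (by rw [← Nat.card_eq_fintype_card, hI]) (show σ ^ p ^ k = 1 from
      Equiv.ext fun x => Subtype.ext (by rw [hσv, hβ]; rfl)) (Subtype.ext (map_one β))
  have : zpowers b = ⊤ := zpowers_eq_top_of_prime_card hI hb1
  obtain ⟨z, hz⟩ := (this ▸ mem_top (⟨f m, m, rfl⟩ : ↥f.range) : (⟨f m, m, rfl⟩ : ↥f.range) ∈ zpowers b)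
  have e : (b : M) ^ z = f m := by simpa using congrArg Subtype.val hz
  have hb' : β (b : M) = b := congrArg Subtype.val hb
  rw [← e, map_zpow, hb']

variable {G : Type*} [Group G] [Finite G] {p : ℕ} [Fact p.Prime] {T : Sylow p G} {E : Subgroup G}

theorem relIndex_of_actsAsSL2 {F : Type} [Field F] [Fintype F] {R : Subgroup (Matrix.SpecialLinearGroup (Fin 2) F)}
    {U U₀ : Subgroup G} (h : ActsAsSL2OnSection F R E U U₀) : U₀.relIndex U = Nat.card (Fin 2 → F) := by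
  obtain ⟨-, -, -, ψ, -, hψ, hker, -⟩ := h
  have hk : ψ.ker = U₀.subgroupOf U := by ext u; rw [MonoidHom.mem_ker, hker, mem_subgroupOf]
  rw [Subgroup.relIndex, ← hk, Subgroup.index_ker, MonoidHom.range_eq_top.mpr hψ, Subgroup.card_top,
    Nat.card_congr Multiplicative.toAdd]

theorem relIndex_exceptional {T' : Subgroup G} (hE : IsBaumannBlock p T' E) (h : IsExceptional p E) :
    (bW p E).relIndex (pCoreOf p E) = (bZ p E).relIndex (bW p E) := by
  rcases hE.2.2.2.2 with ⟨F, iF, iFF, n, -, -, hW, hQ | ⟨-, hQ, -⟩⟩ | ⟨-, -, -, -, hQ⟩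
  · exact absurd hQ h
  · rw [relIndex_of_actsAsSL2 hQ, relIndex_of_actsAsSL2 hW]
  · exact absurd hQ h

/-- No element inverting `Q / W` and fixing `W / Z` commutes with a non-quadratic element. -/
theorem quadratic_of_inverting {Q W Z : Subgroup G} (hQQ : ⁅Q, Q⁆ ≤ Z) (hWQ : W ≤ Q) (hZW : Z ≤ W)
    (hW3 : ∀ w ∈ W, w ^ 3 = 1) {b d : G} (hbd : b * d = d * b) (hbQ : b ∈ normalizer (Q : Set G))
    (hbZ : b ∈ normalizer (Z : Set G)) (hdQ : d ∈ normalizer (Q : Set G)) (hdZ : d ∈ normalizer (Z : Set G))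
    (hd : ∀ q ∈ Q, q * (d * q * d⁻¹) ∈ W) (hdW : ∀ w ∈ W, d * w * d⁻¹ * w⁻¹ ∈ Z)
    (hbq : ∀ q ∈ Q, b * (b * q * b⁻¹ * q⁻¹) * b⁻¹ * (b * q * b⁻¹ * q⁻¹)⁻¹ ∈ W)
    (hbw : ∀ w ∈ W, b * (b * w * b⁻¹ * w⁻¹) * b⁻¹ * (b * w * b⁻¹ * w⁻¹)⁻¹ ∈ Z) :
    ⁅⁅Q, zpowers b⁆, zpowers b⁆ ≤ Z := by
  have hZQ : Z ≤ Q := hZW.trans hWQ
  set Zs := Z.subgroupOf Q with hZs
  have hn : Zs.Normal := ⟨fun z hz q => by
    rw [hZs, mem_subgroupOf] at hz ⊢
    have h1 : (q : G) * z * (q : G)⁻¹ * (z : G)⁻¹ ∈ Z := hQQ (commutator_mem_commutator q.2 z.2)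
    simpa using mul_mem h1 hz⟩
  let conjQ : ∀ g : G, g ∈ normalizer (Q : Set G) → (↥Q →* ↥Q) := fun g hg =>
    { toFun := fun q => ⟨g * q * g⁻¹, (mem_normalizer_iff.mp hg _).mp q.2⟩
      map_one' := Subtype.ext (by simp)
      map_mul' := fun a b => Subtype.ext (by simp [mul_assoc]) }
  let act : ∀ g : G, g ∈ normalizer (Q : Set G) → g ∈ normalizer (Z : Set G) → (↥Q ⧸ Zs →* ↥Q ⧸ Zs) :=
    fun g hg hg' => QuotientGroup.map _ _ (conjQ g hg) fun q hq => (mem_normalizer_iff.mp hg' _).mp hq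
  let iA : CommGroup (↥Q ⧸ Zs) :=
    { QuotientGroup.Quotient.group Zs with
      mul_comm := fun x y => by
        induction x using QuotientGroup.induction_on with | _ x => ?_
        induction y using QuotientGroup.induction_on with | _ y => ?_
        show QuotientGroup.mk (x * y) = QuotientGroup.mk (y * x)
        rw [QuotientGroup.eq, hZs, mem_subgroupOf]
        have := hQQ (commutator_mem_commutator (inv_mem y.2) (inv_mem x.2))
        simpa [commutatorElement_def, mul_assoc] using this }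
  set φb := act b hbQ hbZ with hφb
  set φd := act d hdQ hdZ
  let π : ↥Q → ↥Q ⧸ Zs := QuotientGroup.mk
  have hπb : ∀ q : ↥Q, φb (π q) = π ⟨b * q * b⁻¹, (mem_normalizer_iff.mp hbQ _).mp q.2⟩ := fun q => rfl
  have hπd : ∀ q : ↥Q, φd (π q) = π ⟨d * q * d⁻¹, (mem_normalizer_iff.mp hdQ _).mp q.2⟩ := fun q => rfl
  have hcomm : ∀ x, φd (φb x) = φb (φd x) := fun x => by
    induction x using QuotientGroup.induction_on with | _ q => ?_
    show π _ = π _
    refine congrArg π (Subtype.ext ?_)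
    show d * (b * q * b⁻¹) * d⁻¹ = b * (d * q * d⁻¹) * b⁻¹
    rw [show d * (b * (q : G) * b⁻¹) * d⁻¹ = (d * b) * q * (d * b)⁻¹ by group, ← hbd]
    group
  let Δ : ↥Q ⧸ Zs →* ↥Q ⧸ Zs :=
    { toFun := fun x => φb x / x
      map_one' := by simp
      map_mul' := fun x y => by simp [mul_div_mul_comm] }
  have hf : ∀ q : ↥Q, Δ (π q) = π (⟨b * q * b⁻¹, (mem_normalizer_iff.mp hbQ _).mp q.2⟩ / q) := fun q => rfl
  have key : ∀ x, Δ (Δ x) = 1 := fun x => by
    induction x using QuotientGroup.induction_on with | _ q => ?_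
    show Δ (Δ (π q)) = 1
    set q2 := (⟨b * ((b * q * b⁻¹ / q : G)) * b⁻¹, (mem_normalizer_iff.mp hbQ _).mp
      (div_mem ((mem_normalizer_iff.mp hbQ _).mp q.2) q.2)⟩ /
      (⟨b * q * b⁻¹, (mem_normalizer_iff.mp hbQ _).mp q.2⟩ / q) : ↥Q) with hq2
    have e2 : Δ (Δ (π q)) = π q2 := rfl
    have hW2 : (q2 : G) ∈ W := by
      have := hbq q q.2
      simpa [hq2, div_eq_mul_inv, mul_assoc] using this
    have h1 : φd (π q2) = π q2 := by
      rw [hπd]
      refine QuotientGroup.eq.mpr ?_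
      rw [mem_subgroupOf]
      have := hdW _ (inv_mem hW2)
      simpa [mul_assoc] using this
    obtain ⟨w, hw, hwe⟩ : ∃ w : ↥Q, (w : G) ∈ W ∧ φd (π q) = (π q)⁻¹ * π w :=
      ⟨q * ⟨d * q * d⁻¹, (mem_normalizer_iff.mp hdQ _).mp q.2⟩, hd q q.2, by
        rw [hπd]
        show _ = π (q⁻¹ * _)
        rw [inv_mul_cancel_left]⟩
    have h2 : φd (Δ (Δ (π q))) = Δ (Δ (φd (π q))) := by
      simp only [Δ, MonoidHom.coe_mk, OneHom.coe_mk, map_div, hcomm]
    rw [e2, h1, hwe, map_mul, map_mul, map_inv, map_inv, e2] at h2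
    have hw2 : Δ (Δ (π w)) = 1 := by
      show π _ = 1
      refine (QuotientGroup.eq_one_iff _).mpr ?_
      rw [mem_subgroupOf]
      have := hbw w hw
      simpa [conjQ, div_eq_mul_inv, mul_assoc] using this
    rw [hw2, mul_one, eq_inv_iff_mul_eq_one] at h2
    have h3 : π q2 ^ 3 = 1 := by
      show π (q2 ^ 3) = 1
      rw [show q2 ^ 3 = 1 from Subtype.ext (by simpa using hW3 _ hW2)]
      rfl
    rw [e2]
    rwa [pow_succ, pow_two, h2, one_mul] at h3
  have hbn : ∀ (n : ℕ) (q : ↥Q), ∃ h : b ^ n * q * (b ^ n)⁻¹ ∈ Q,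
      π ⟨_, h⟩ = (fun x => φb x)^[n] (π q) := by
    intro n
    induction n with
    | zero => intro q; exact ⟨by simp, congrArg π (Subtype.ext (by simp))⟩
    | succ n ih =>
      intro q
      obtain ⟨h, e⟩ := ih q
      have h' := (mem_normalizer_iff.mp hbQ _).mp h
      rw [show b * (b ^ n * q * (b ^ n)⁻¹) * b⁻¹ = b ^ (n + 1) * q * (b ^ (n + 1))⁻¹ by
        rw [pow_succ']; group] at h'
      refine ⟨h', ?_⟩
      rw [Function.iterate_succ_apply', ← e, hπb]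
      exact congrArg π (Subtype.ext (by simp [pow_succ', mul_assoc]))
  have hfix : ∀ (n : ℕ) x, Δ x = 1 → (fun x => φb x)^[n] x = x := fun n x hx =>
    Function.iterate_fixed (div_eq_one.mp hx) n
  let Fx : Subgroup G := (Δ.comp (QuotientGroup.mk' Zs)).ker.map Q.subtype
  have h1 : ⁅Q, zpowers b⁆ ≤ Fx := by
    refine commutator_le.mpr fun q hq y hy => ?_
    obtain ⟨n, rfl⟩ := (mem_powers_iff_mem_zpowers.mpr hy : y ∈ Submonoid.powers b)
    obtain ⟨h, e⟩ := hbn n ⟨q, hq⟩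
    refine ⟨⟨q, hq⟩ * ⟨_, h⟩⁻¹, ?_, ?_⟩
    · show Δ (QuotientGroup.mk' Zs (⟨q, hq⟩ * ⟨_, h⟩⁻¹)) = 1
      rw [map_mul (QuotientGroup.mk' Zs), map_inv (QuotientGroup.mk' Zs), ← div_eq_mul_inv]
      show Δ (π ⟨q, hq⟩ / π ⟨_, h⟩) = 1
      rw [map_div, e, div_eq_one]
      clear e h hy
      induction n with
      | zero => rfl
      | succ n ih =>
        rw [Function.iterate_succ_apply', ih]
        have hc : ∀ x, Δ (φb x) = φb (Δ x) := fun x => by
          simp only [Δ, MonoidHom.coe_mk, OneHom.coe_mk, map_div]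
        rw [hc]
        exact (div_eq_one.mp (key _)).symm
    · show q * (b ^ n * q * (b ^ n)⁻¹)⁻¹ = ⁅q, b ^ n⁆
      rw [commutatorElement_def]; group
  refine (commutator_mono h1 le_rfl).trans (commutator_le.mpr ?_)
  rintro _ ⟨q, hq, rfl⟩ y hy
  obtain ⟨n, rfl⟩ := (mem_powers_iff_mem_zpowers.mpr hy : y ∈ Submonoid.powers b)
  obtain ⟨h, e⟩ := hbn n q
  rw [hfix n _ (show Δ (π q) = 1 from hq)] at e
  have := QuotientGroup.eq.mp e
  rw [mem_subgroupOf] at this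
  have h' := (mem_normalizer_iff.mp (centralizer_le_normalizer _ (one_mem _)) _).mp this
  have hz := Subgroup.inv_mem Z this
  have hq' : ⁅(q : G), b ^ n⁆ = (q : G) * (b ^ n * q * (b ^ n)⁻¹)⁻¹ := by rw [commutatorElement_def]; group
  show ⁅(q : G), b ^ n⁆ ∈ Z
  rw [hq']
  have h5 : (b ^ n * (q : G) * (b ^ n)⁻¹)⁻¹ * q ∈ Z := by simpa using this
  have h6 := hQQ (commutator_mem_commutator q.2 (inv_mem h))
  have := mul_mem h6 h5
  rwa [commutatorElement_def, show (q : G) * (b ^ n * q * (b ^ n)⁻¹)⁻¹ * (q : G)⁻¹ * (b ^ n * q * (b ^ n)⁻¹)⁻¹⁻¹ *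
    ((b ^ n * q * (b ^ n)⁻¹)⁻¹ * q) = (q : G) * (b ^ n * q * (b ^ n)⁻¹)⁻¹ by group] at this

/-- An element of order prime to three centralizing `W_E` is trivial on `O_p(E) / W` when `|W / Z| = 9`. -/
theorem trivial_on_pCoreOf_of_small (hG : centralizer (pCore p G : Set G) ≤ pCore p G)
    (hE : IsBaumannBlock p (T : Subgroup G) E) (he : IsExceptional p E)
    (hsmall : (bZ p E).relIndex (bW p E) < 16) {x : G} (hx : x ∈ normalizer (E : Set G))
    (hc : x ∈ centralizer (bWE p E : Set G)) {q : G} (hq : q ∈ pCoreOf p E) :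
    x * q * x⁻¹ * q⁻¹ ∈ bW p E := by
  obtain ⟨hp3, hQQ, -, hquad, -, -, c, hcQ⟩ := exceptional_facts hE he
  subst hp3
  obtain ⟨cW, hcW⟩ := exists_coord hG hE
  have hcM : Nat.card c.M < 16 := by rwa [c.card_eq, relIndex_exceptional hE he]
  obtain ⟨-, hqs⟩ := (c.small_cases hcM).resolve_left fun h => absurd h.1 (by norm_num)
  have hNN : ∀ g ∈ normalizer (E : Set G),
      g ∈ normalizer (pCoreOf 3 E : Set G) ⊓ normalizer (bW 3 E : Set G) := fun g hg =>
    ⟨LocalStructure.normalizer_le_normalizer_pCoreOf E hg, normalizer_le_normalizer_bW E hg⟩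
  have hNW : ∀ g ∈ normalizer (E : Set G),
      g ∈ normalizer (bW 3 E : Set G) ⊓ normalizer (bZ 3 E : Set G) := fun g hg =>
    ⟨normalizer_le_normalizer_bW E hg, normalizer_le_normalizer_bZ E hg⟩
  have hcen : c.aut ⟨x, hNN x hx⟩ ∈ centralizer (c.ρ.range : Set (MulAut c.M)) := by
    rintro _ ⟨e, rfl⟩
    have h1 := comm_mem_pCoreOf_of_centralizes hG hE hx hc e.2
    rw [← c.aut_eq_ρ e ⟨e, hNN _ (le_normalizer e.2)⟩ rfl]
    have hmem : x * (e : G) * x⁻¹ * (e : G)⁻¹ ∈ E := LocalStructure.pCoreOf_le 3 E h1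
    have h2 : c.aut ⟨_, hNN _ (le_normalizer hmem)⟩ = 1 := by
      rw [c.aut_eq_ρ ⟨_, hmem⟩ _ rfl]
      exact (hcQ _).mpr h1
    rw [show (⟨_, hNN _ (le_normalizer hmem)⟩ :
        ↥(normalizer (pCoreOf 3 E : Set G) ⊓ normalizer (bW 3 E : Set G))) =
      ⟨x, hNN x hx⟩ * ⟨e, hNN _ (le_normalizer e.2)⟩ * ⟨x, hNN x hx⟩⁻¹ *
        ⟨e, hNN _ (le_normalizer e.2)⟩⁻¹ from rfl] at h2
    simp only [map_mul, map_inv, mul_inv_eq_one, mul_inv_eq_iff_eq_mul] at h2
    exact h2.symm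
  rcases hqs.2.2.2.2.2 _ hcen with h | h
  · exact (c.aut_eq_one_iff _).mp h q hq
  exfalso
  set B := baumannSubgroupOf 3 (T : Subgroup G)
  have hBE : B ≤ normalizer (E : Set G) := baumann_le_normalizer hE.2.1
  set C3 : Subgroup G :=
    (normalizer (E : Set G) ⊓ centralizer (bWE 3 E : Set G)) ⊓ (c.aut.ker).map (Subgroup.subtype _) with hC3
  have hC3m : ∀ g (hg : g ∈ normalizer (E : Set G)), g ∈ centralizer (bWE 3 E : Set G) →
      c.aut ⟨g, hNN g hg⟩ = 1 → g ∈ C3 := fun g hg hgc hga => ⟨⟨hg, hgc⟩, ⟨g, hNN g hg⟩, hga, rfl⟩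
  have hC3a : ∀ g (hg : g ∈ C3), c.aut ⟨g, hNN g hg.1.1⟩ = 1 := by
    rintro g ⟨_, h', hk, e⟩
    rw [← hk]
    congr 1
    exact Subtype.ext e.symm
  have hC3n : normalizer (E : Set G) ≤ normalizer (C3 : Set G) := by
    intro g hg
    refine LocalStructure.mem_normalizer_of_map_conj_le ?_
    rintro _ ⟨y, hy, rfl⟩
    simp only [MulEquiv.coe_toMonoidHom, MulAut.conj_apply]
    refine hC3m _ (mul_mem (mul_mem hg hy.1.1) (inv_mem hg))
      ((mem_normalizer_iff.mp (LocalStructure.le_normalizer_centralizer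
        (normalizer_le_normalizer_bWE (p := 3) E) hg) y).mp hy.1.2) ?_
    rw [show (⟨g * y * g⁻¹, hNN _ (mul_mem (mul_mem hg hy.1.1) (inv_mem hg))⟩ :
      ↥(normalizer (pCoreOf 3 E : Set G) ⊓ normalizer (bW 3 E : Set G))) =
      ⟨g, hNN g hg⟩ * ⟨y, hNN y hy.1.1⟩ * ⟨g, hNN g hg⟩⁻¹ from rfl, map_mul, map_mul, map_inv,
      hC3a y hy, mul_one, mul_inv_cancel]
  set H := B ⊔ C3
  have hxb : ∀ b ∈ B, x * b * x⁻¹ ∈ H := by
    intro b hb
    have hbE := hBE hb
    have hmem : x * b * x⁻¹ * b⁻¹ ∈ C3 := by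
      refine hC3m _ (mul_mem (mul_mem (mul_mem hx hbE) (inv_mem hx)) (inv_mem hbE)) ?_ ?_
      · have h1 := LocalStructure.le_normalizer_centralizer (normalizer_le_normalizer_bWE (p := 3) E) hbE
        rw [show x * b * x⁻¹ * b⁻¹ = x * (b * x⁻¹ * b⁻¹) by group]
        exact mul_mem hc ((mem_normalizer_iff.mp h1 _).mp (inv_mem hc))
      · rw [show (⟨x * b * x⁻¹ * b⁻¹, hNN _ (mul_mem (mul_mem (mul_mem hx hbE) (inv_mem hx)) (inv_mem hbE))⟩ :
          ↥(normalizer (pCoreOf 3 E : Set G) ⊓ normalizer (bW 3 E : Set G))) =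
          ⟨x, hNN x hx⟩ * ⟨b, hNN b hbE⟩ * ⟨x, hNN x hx⟩⁻¹ * ⟨b, hNN b hbE⟩⁻¹ from rfl,
          map_mul, map_mul, map_mul, map_inv, map_inv, mul_inv_eq_one, mul_inv_eq_iff_eq_mul]
        exact MulEquiv.ext fun m => by simp [h]
    have := mul_mem (mem_sup_right hmem : _ ∈ H) (mem_sup_left hb)
    rwa [show x * b * x⁻¹ * b⁻¹ * b = x * b * x⁻¹ by group] at this
  have hxH : zpowers x ≤ normalizer (H : Set G) := by
    rw [zpowers_le]
    refine LocalStructure.mem_normalizer_of_map_conj_le ?_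
    rw [Subgroup.map_sup, LocalStructure.map_conj_eq_self (hC3n hx)]
    refine sup_le ?_ le_sup_right
    rintro _ ⟨b, hb, rfl⟩
    exact hxb b hb
  obtain ⟨S, hBS, hS⟩ := LocalStructure.exists_isSylowIn_le (T.2.to_le inf_le_left : IsPGroup 3 B)
    (le_sup_left : B ≤ H)
  obtain ⟨n, hn, hnx⟩ := hS.frattini hxH (mem_zpowers x)
  obtain ⟨b1, hb1, c1, hc1, rfl⟩ := LocalStructure.exists_mul_of_mem_sup (hBE.trans hC3n) hn
  have hd0 : c1 * x ∈ normalizer (S : Set G) := by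
    have := mul_mem (inv_mem (le_normalizer (hBS hb1))) hnx
    rwa [← mul_assoc, inv_mul_cancel_left] at this
  have hd0E : c1 * x ∈ normalizer (E : Set G) := mul_mem hc1.1.1 hx
  obtain ⟨k, m, hm, hord⟩ := Nat.exists_eq_pow_mul_and_not_dvd (orderOf_pos (c1 * x)).ne' 2 (by norm_num)
  set d := (c1 * x) ^ m with hd
  have hd2 : d ^ 2 ^ k = 1 := by rw [hd, ← pow_mul, mul_comm, ← hord, pow_orderOf_eq_one]
  have hdE : d ∈ normalizer (E : Set G) := pow_mem hd0E m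
  have hdW : d ∈ centralizer (bWE 3 E : Set G) := pow_mem (mul_mem hc1.1.2 hc) m
  have hdinv : ∀ v, c.aut ⟨d, hNN d hdE⟩ v = v⁻¹ := by
    intro v
    rw [show (⟨d, hNN d hdE⟩ : ↥(normalizer (pCoreOf 3 E : Set G) ⊓ normalizer (bW 3 E : Set G))) =
      (⟨c1, hNN c1 hc1.1.1⟩ * ⟨x, hNN x hx⟩) ^ m from rfl, map_pow, map_mul, hC3a c1 hc1, one_mul]
    obtain ⟨j, rfl⟩ := Nat.odd_iff.mpr (by omega : m % 2 = 1)
    have hsq : c.aut ⟨x, hNN x hx⟩ ^ 2 = 1 := MulEquiv.ext fun v => by simp [pow_two, h]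
    rw [pow_succ, pow_mul, hsq, one_pow, one_mul, h]
  have hdB : d ∈ normalizer (B : Set G) := by
    have hdS : d ∈ normalizer (S : Set G) := pow_mem hd0 m
    obtain ⟨T', hT'⟩ := hS.2.1.exists_le_sylow
    have e1 : baumannSubgroupOf 3 (T' : Subgroup G) = B := baumann_eq_of_le (hBS.trans hT')
    have e2 : baumannSubgroupOf 3 (T' : Subgroup G) =
        baumannSubgroupOf 3 ((d • T : Sylow 3 G) : Subgroup G) := by
      refine baumann_eq_of_le ?_
      show baumannSubgroupOf 3 ((T : Subgroup G).map (MulAut.conj d).toMonoidHom) ≤ T'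
      rw [← baumannSubgroupOf_map_equiv]
      exact ((Subgroup.map_mono hBS).trans (LocalStructure.map_conj_eq_self hdS).le).trans hT'
    refine LocalStructure.mem_normalizer_of_map_conj ?_
    rw [baumannSubgroupOf_map_equiv]
    exact e2.symm.trans e1
  obtain ⟨b0, hb0, hb0c⟩ : ∃ b0 ∈ B, b0 ∉ centralizer (bWE 3 E : Set G) := by
    by_contra hall
    push Not at hall
    refine thompson_not_centralize hG hE (commutator_eq_bot_iff_le_centralizer.mpr ?_)
    rw [le_centralizer_iff]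
    exact (thompsonSubgroupOf_le_baumann _).trans hall
  obtain ⟨b, hb, hbc, hbd⟩ : ∃ b ∈ B, b ∉ centralizer (bWE 3 E : Set G) ∧ d * b * d⁻¹ = b := by
    set N0 := B ⊓ centralizer (bWE 3 E : Set G)
    have hdn : ∀ y ∈ N0, d * y * d⁻¹ ∈ N0 := fun y hy =>
      Subgroup.mem_inf.mpr ⟨(mem_normalizer_iff.mp hdB y).mp hy.1, mul_mem (mul_mem hdW hy.2) (inv_mem hdW)⟩
    have hdb : b0⁻¹ * (d * b0 * d⁻¹) ∈ N0 := by
      refine Subgroup.mem_inf.mpr ⟨mul_mem (inv_mem hb0) ((mem_normalizer_iff.mp hdB _).mp hb0), ?_⟩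
      have h1 := LocalStructure.le_normalizer_centralizer (normalizer_le_normalizer_bWE (p := 3) E)
        (inv_mem (hBE hb0))
      rw [show b0⁻¹ * (d * b0 * d⁻¹) = b0⁻¹ * d * b0⁻¹⁻¹ * d⁻¹ by group]
      exact mul_mem ((mem_normalizer_iff.mp h1 _).mp hdW) (inv_mem hdW)
    let g : ↥N0 → ↥N0 := fun y => ⟨b0⁻¹ * (d * b0 * d⁻¹) * (d * y * d⁻¹), mul_mem hdb (hdn y y.2)⟩
    have hg : Function.Injective g := fun a b h => Subtype.ext (by simpa [g] using congrArg Subtype.val h)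
    have := Fintype.ofFinite ↥N0
    let σ : Equiv.Perm ↥N0 := Equiv.ofBijective g (Finite.injective_iff_bijective.mp hg)
    have hσ : ∀ (i : ℕ) y, (((σ ^ i) y : ↥N0) : G) = b0⁻¹ * (d ^ i * (b0 * y) * (d ^ i)⁻¹) := by
      intro i
      induction i with
      | zero => intro y; simp
      | succ i ih =>
        intro y
        rw [pow_succ' σ, Equiv.Perm.mul_apply]
        show b0⁻¹ * (d * b0 * d⁻¹) * (d * ((σ ^ i) y : ↥N0) * d⁻¹) = _
        rw [ih, pow_succ']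
        group
    obtain ⟨y, hy⟩ := Equiv.Perm.exists_fixed_point_of_prime (p := 2) (n := k) (σ := σ)
      (by
        obtain ⟨j, hj⟩ := IsPGroup.iff_card.mp (T.2.to_le (inf_le_left.trans inf_le_left) : IsPGroup 3 N0)
        rw [← Nat.card_eq_fintype_card, hj]
        intro h2
        exact absurd (Nat.prime_two.dvd_of_dvd_pow h2) (by norm_num))
      (Equiv.ext fun y => Subtype.ext (by rw [hσ, hd2]; simp))
    refine ⟨b0 * y, mul_mem hb0 y.2.1, fun hmem => hb0c ?_, ?_⟩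
    · simpa using mul_mem hmem (inv_mem y.2.2)
    · have h1 := hσ 1 y
      rw [pow_one, pow_one, hy] at h1
      exact (eq_inv_mul_iff_mul_eq.mp h1).symm
  have hbE := hBE hb
  have hbp : ∃ j, b ^ 3 ^ j = 1 := by
    obtain ⟨j, hj⟩ := isPGroup_exists_orderOf (T.2.to_le inf_le_left : IsPGroup 3 B) hb
    exact ⟨j, by rw [← hj, pow_orderOf_eq_one]⟩
  obtain ⟨j, hj⟩ := hbp
  have hquadr : ∀ {U U₀ : Subgroup G} (c' : Coord 3 E U U₀),
      Nat.card c'.M = 3 ^ 2 → ∀ (hbU : b ∈ normalizer (U : Set G) ⊓ normalizer (U₀ : Set G)) (u : G) (hu : u ∈ U),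
      b * (b * u * b⁻¹ * u⁻¹) * b⁻¹ * (b * u * b⁻¹ * u⁻¹)⁻¹ ∈ U₀ := by
    intro U U₀ c' h9 hbU u hu
    have hp : c'.aut ⟨b, hbU⟩ ^ 3 ^ j = 1 := by
      rw [← map_pow]; exact (congrArg c'.aut (Subtype.ext (by simpa using hj))).trans (map_one _)
    have h2 := two_step h9 hp (c'.ψ ⟨u, hu⟩)
    have hu1 : b * u * b⁻¹ ∈ U := (mem_normalizer_iff.mp hbU.1 u).mp hu
    have hu2 : b * u * b⁻¹ * u⁻¹ ∈ U := mul_mem hu1 (inv_mem hu)
    have hu3 : b * (b * u * b⁻¹ * u⁻¹) * b⁻¹ ∈ U := (mem_normalizer_iff.mp hbU.1 _).mp hu2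
    rw [← c'.aut_eq ⟨b, hbU⟩ ⟨u, hu⟩ ⟨_, hu1⟩ rfl, ← map_div,
      ← c'.aut_eq ⟨b, hbU⟩ (⟨_, hu1⟩ / ⟨u, hu⟩) ⟨_, hu3⟩ (by simp [div_eq_mul_inv]), ← div_eq_one,
      ← map_div, c'.ker] at h2
    simpa [div_eq_mul_inv] using h2
  have hcWM : Nat.card cW.M = 3 ^ 2 := by
    rcases cW.small_cases (by rwa [cW.card_eq]) with ⟨h, -⟩ | ⟨-, h⟩
    · exact absurd h (by norm_num)
    · rw [h.1]; norm_num
  refine hquad b hb (fun hmem => hbc (centralizer_le (SetLike.coe_subset_coe.mpr (bWE_le E)) hmem)) ?_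
  refine quadratic_of_inverting (W := bW 3 E) (d := d) hQQ.le (bW_le_pCoreOf E) (bZ_le E)
    (fun w hw => pow_eq_one_of_mem_omegaOneCenter hw) (mul_inv_eq_iff_eq_mul.mp hbd).symm (hNN b hbE).1
    (normalizer_le_normalizer_bZ E hbE) (hNN d hdE).1 (normalizer_le_normalizer_bZ E hdE) (fun a ha => ?_)
    (fun w hw => trivial_of_centralizes hG hE (normalizer_le_normalizer_bZ E hdE) hdW hw)
    (hquadr c (by rw [hqs.1]; norm_num) (hNN b hbE)) (hquadr cW hcWM (hNW b hbE))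
  have hmem : d * a * d⁻¹ ∈ pCoreOf 3 E := (mem_normalizer_iff.mp (hNN d hdE).1 a).mp ha
  have := (c.ker (⟨a, ha⟩ * ⟨_, hmem⟩)).mp (by
    rw [map_mul, c.aut_eq ⟨d, hNN d hdE⟩ ⟨a, ha⟩ ⟨_, hmem⟩ rfl, hdinv, mul_inv_cancel])
  exact this

end Cfsg.Agent.BaumannBlock
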