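import Cfsg.Agent.Lib.BaumannBlock.Shape

/-!
The normalizer of `SL₂(q)`, `q ≥ 4`, among the automorphisms of its natural module: its elements are
semilinear, a commutator is linear, and linear elements of determinant one lie in `SL₂(q)`; the
consequences for subgroups of the normalizer.
-/

set_option autoImplicit false

namespace Cfsg.Agent.BaumannBlock

open Matrix Subgroup
open scoped commutatorElement

/-- `m ↦ β(m) / m`. -/
def dMap {M : Type} [CommGroup M] (β : MulAut M) : M →* M where
  toFun m := β m / m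
  map_one' := by simp
  map_mul' a b := by simp [mul_div_mul_comm]

/-- The fixed points of a group of automorphisms. -/
def fixSet {M : Type} [CommGroup M] (A : Subgroup (MulAut M)) : Set M := {m | ∀ a ∈ A, a m = m}

/-- What is used of a normalizer of a big natural image. -/
structure Outer {M : Type} [CommGroup M] (p : ℕ) (R : Subgroup (MulAut M)) : Prop where
  /-- Perfect subgroups of the normalizer lie in the group. -/
  perfect : ∀ Y ≤ normalizer (R : Set (MulAut M)), ⁅Y, Y⁆ = Y → Y ≤ R
  /-- A group of order three generated by commutators with a two-group lies in the group, or the two-group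
  has no offender. -/
  small_two : p = 2 → ∀ Y B : Subgroup (MulAut M), Y ≤ normalizer (R : Set (MulAut M)) →
    B ≤ normalizer (R : Set (MulAut M)) → ⁅Y, B⁆ = Y → Nat.card Y = 3 →
    (∀ y ∈ Y, Nat.card (dMap y).range ≤ 4) → ¬ Y ≤ R →
    ∀ A ≤ B, (∀ a ∈ A, a ^ 2 = 1) → A ≠ ⊥ → Nat.card A * Nat.card (fixSet A) < Nat.card M
  /-- Involutory commutators move more than nine points. -/
  small_three : p = 3 → ∀ Y B : Subgroup (MulAut M), Y ≤ normalizer (R : Set (MulAut M)) →
    B ≤ normalizer (R : Set (MulAut M)) → ⁅Y, B⁆ = Y →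
    ∀ β ∈ ⁅Y, Y⁆, β ^ 2 = 1 → β ≠ 1 → 9 < Nat.card (dMap β).range
  /-- For `p` odd a group of exponent `p` whose commutators with the module are fixed by a nontrivial
  subgroup lies in the group. -/
  offender : p ≠ 2 → ∀ A ≤ normalizer (R : Set (MulAut M)), (∀ a ∈ A, a ^ p = 1) →
    ∀ A' ≤ A, A' ≠ ⊥ → (∀ a ∈ A, ∀ b ∈ A', ∀ m, b (a m / m) = a m / m) → A ≤ R
  /-- For `p` odd the `p`-elements of the group are quadratic. -/
  unip : p ≠ 2 → ∀ β ∈ R, ∀ k : ℕ, β ^ p ^ k = 1 → ∀ m, β (β m / m) = β m / m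
  /-- No `p`-element commutes with the group. -/
  no_p : ∀ γ ∈ centralizer (R : Set (MulAut M)), ∀ k : ℕ, γ ^ p ^ k = 1 → γ = 1

variable {F : Type} [Field F]

/-- The scalars. -/
noncomputable def sAct : Fˣ →* MulAut (Multiplicative (Fin 2 → F)) where
  toFun u := AddEquiv.toMultiplicative
    { toFun := fun v => (u : F) • v
      invFun := fun v => (↑u⁻¹ : F) • v
      left_inv := fun v => by simp [smul_smul]
      right_inv := fun v => by simp [smul_smul]
      map_add' := fun v w => smul_add _ _ _ }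
  map_one' := MulEquiv.ext fun v => Multiplicative.toAdd.injective (one_smul F _)
  map_mul' u w := MulEquiv.ext fun v => Multiplicative.toAdd.injective (mul_smul (u : F) (w : F) _)

theorem sAct_apply (u : Fˣ) (v : Fin 2 → F) : addPart (sAct u) v = (u : F) • v := rfl

theorem addPart_mul (β γ : MulAut (Multiplicative (Fin 2 → F))) (v : Fin 2 → F) :
    addPart (β * γ) v = addPart β (addPart γ v) := rfl

theorem addPart_one (v : Fin 2 → F) : addPart (1 : MulAut (Multiplicative (Fin 2 → F))) v = v := rfl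

theorem addPart_ext {β γ : MulAut (Multiplicative (Fin 2 → F))} (h : ∀ v, addPart β v = addPart γ v) : β = γ :=
  MulEquiv.ext fun m => congrArg Multiplicative.ofAdd (h (Multiplicative.toAdd m))

theorem addPart_ne_zero (β : MulAut (Multiplicative (Fin 2 → F))) {v : Fin 2 → F} (hv : v ≠ 0) :
    addPart β v ≠ 0 := fun h => hv (by
  have h1 : addPart β v = addPart β 0 := h.trans (map_zero _).symm
  exact Multiplicative.ofAdd.injective (β.injective (congrArg Multiplicative.ofAdd h1)))

theorem sAct_mem_centralizer (u : Fˣ) :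
    sAct u ∈ centralizer (((slAct (F := F)).range : Subgroup _) : Set (MulAut (Multiplicative (Fin 2 → F)))) := by
  rintro _ ⟨g, rfl⟩
  exact addPart_ext fun v => by
    show (g : Matrix (Fin 2) (Fin 2) F).mulVec ((u : F) • v) = (u : F) • (g : Matrix (Fin 2) (Fin 2) F).mulVec v
    exact Matrix.mulVec_smul _ _ _

theorem exists_sAct_of_centralizer {β : MulAut (Multiplicative (Fin 2 → F))}
    (hβ : β ∈ centralizer (((slAct (F := F)).range : Subgroup _) : Set (MulAut (Multiplicative (Fin 2 → F))))) :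
    ∃ u : Fˣ, β = sAct u := by
  obtain ⟨c, hc⟩ := sl2_scalar hβ
  have hc0 : c ≠ 0 := fun h => addPart_ne_zero β (v := ![1, 0]) (fun e => one_ne_zero (congrFun e 0)) (by
    have := hc (Multiplicative.ofAdd ![1, 0])
    rw [h, zero_smul] at this
    exact this)
  exact ⟨Units.mk0 c hc0, addPart_ext fun v => hc (Multiplicative.ofAdd v)⟩

/-- Normalizing elements are semilinear. -/
theorem exists_sigma {β : MulAut (Multiplicative (Fin 2 → F))}
    (hβ : β ∈ normalizer (((slAct (F := F)).range : Subgroup _) : Set (MulAut (Multiplicative (Fin 2 → F))))) (u : Fˣ) :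
    ∃ w : Fˣ, β * sAct u * β⁻¹ = sAct w := by
  refine exists_sAct_of_centralizer fun r hr => ?_
  have h2 : β⁻¹ * r * β⁻¹⁻¹ ∈ (slAct (F := F)).range :=
    (mem_normalizer_iff.mp (inv_mem hβ) r).mp hr
  have h3 := sAct_mem_centralizer u _ h2
  calc r * (β * sAct u * β⁻¹) = β * ((β⁻¹ * r * β⁻¹⁻¹) * sAct u) * β⁻¹ := by group
    _ = β * (sAct u * (β⁻¹ * r * β⁻¹⁻¹)) * β⁻¹ := by rw [h3]
    _ = _ := by group

/-- The linear automorphisms. -/
def linGroup (F : Type) [Field F] : Subgroup (MulAut (Multiplicative (Fin 2 → F))) :=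
  centralizer (((sAct (F := F)).range : Subgroup _) : Set (MulAut (Multiplicative (Fin 2 → F))))

theorem addPart_smul {β : MulAut (Multiplicative (Fin 2 → F))} {u w : Fˣ} (h : β * sAct u * β⁻¹ = sAct w)
    (v : Fin 2 → F) : addPart β ((u : F) • v) = (w : F) • addPart β v := by
  rw [← sAct_apply, ← sAct_apply, ← addPart_mul, ← addPart_mul, ← h]
  congr 2
  group

theorem lin_smul {β : MulAut (Multiplicative (Fin 2 → F))} (hβ : β ∈ linGroup F) (c : F) (v : Fin 2 → F) :
    addPart β (c • v) = c • addPart β v := by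
  by_cases hc : c = 0
  · rw [hc, zero_smul, zero_smul, map_zero]
  · exact addPart_smul (u := Units.mk0 c hc) (w := Units.mk0 c hc)
      (mul_inv_eq_iff_eq_mul.mpr (hβ _ ⟨_, rfl⟩).symm) v

/-- The linear map of a linear automorphism. -/
def toLin {β : MulAut (Multiplicative (Fin 2 → F))} (hβ : β ∈ linGroup F) : Module.End F (Fin 2 → F) where
  toFun := addPart β
  map_add' := map_add _
  map_smul' := lin_smul hβ

/-- The determinant of a linear automorphism. -/
noncomputable def linDet : ↥(linGroup F) →* F where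
  toFun β := LinearMap.det (toLin β.2)
  map_one' := by
    rw [show toLin (one_mem (linGroup F)) = 1 from LinearMap.ext fun v => rfl]
    exact map_one _
  map_mul' β γ := by
    rw [← map_mul]
    rfl

theorem slAct_range_le_lin : (slAct (F := F)).range ≤ linGroup F := by
  rintro r hr _ ⟨u, rfl⟩
  exact (sAct_mem_centralizer u r hr).symm

theorem mem_range_of_det {β : MulAut (Multiplicative (Fin 2 → F))} (hβ : β ∈ linGroup F)
    (h : linDet ⟨β, hβ⟩ = 1) : β ∈ (slAct (F := F)).range := by
  refine ⟨⟨LinearMap.toMatrix' (toLin hβ), ?_⟩, addPart_ext fun v => ?_⟩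
  · rw [LinearMap.det_toMatrix']; exact h
  · show (LinearMap.toMatrix' (toLin hβ)).mulVec v = _
    rw [LinearMap.toMatrix'_mulVec]
    rfl

theorem linDet_pow {β : MulAut (Multiplicative (Fin 2 → F))} (hβ : β ∈ linGroup F) {n : ℕ} (h : β ^ n = 1) :
    linDet ⟨β, hβ⟩ ^ n = 1 := by
  rw [← map_pow, show (⟨β, hβ⟩ : ↥(linGroup F)) ^ n = 1 from Subtype.ext h, map_one]

theorem linDet_commutator {Y : Subgroup (MulAut (Multiplicative (Fin 2 → F)))} (hY : Y ≤ linGroup F) :
    ⁅Y, Y⁆ ≤ (slAct (F := F)).range := by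
  refine commutator_le.mpr fun a ha b hb => ?_
  have hm : ⁅a, b⁆ ∈ linGroup F := hY ((Subgroup.commutator_le_self Y) (commutator_mem_commutator ha hb))
  refine mem_range_of_det hm ?_
  have e : (⟨⁅a, b⁆, hm⟩ : ↥(linGroup F)) = ⁅(⟨a, hY ha⟩ : ↥(linGroup F)), ⟨b, hY hb⟩⁆ := rfl
  rw [e, commutatorElement_def, map_mul, map_mul, map_mul,
    show linDet ⟨a, hY ha⟩ * linDet ⟨b, hY hb⟩ * linDet (⟨a, hY ha⟩ : ↥(linGroup F))⁻¹ *
      linDet (⟨b, hY hb⟩ : ↥(linGroup F))⁻¹ = (linDet ⟨a, hY ha⟩ * linDet (⟨a, hY ha⟩ : ↥(linGroup F))⁻¹) *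
      (linDet ⟨b, hY hb⟩ * linDet (⟨b, hY hb⟩ : ↥(linGroup F))⁻¹) by ring,
    ← map_mul, ← map_mul, mul_inv_cancel, mul_inv_cancel, map_one, one_mul]

variable [Fintype F]

/-- Commutators in the normalizer are linear. -/
theorem commutator_normalizer_le_lin
    {β γ : MulAut (Multiplicative (Fin 2 → F))}
    (hβ : β ∈ normalizer (((slAct (F := F)).range : Subgroup _) : Set (MulAut (Multiplicative (Fin 2 → F)))))
    (hγ : γ ∈ normalizer (((slAct (F := F)).range : Subgroup _) : Set (MulAut (Multiplicative (Fin 2 → F))))) :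
    ⁅β, γ⁆ ∈ linGroup F := by
  obtain ⟨g, hg⟩ := IsCyclic.exists_generator (α := Fˣ)
  have key : ∀ δ ∈ normalizer (((slAct (F := F)).range : Subgroup _) : Set (MulAut (Multiplicative (Fin 2 → F)))),
      ∃ m : ℤ, ∀ i : ℤ, δ * sAct (g ^ i) * δ⁻¹ = sAct (g ^ (i * m)) := by
    intro δ hδ
    obtain ⟨w, hw⟩ := exists_sigma hδ g
    obtain ⟨m, hm'⟩ := hg w
    change g ^ m = w at hm'
    subst hm'
    exact ⟨m, fun i => by rw [map_zpow, ← conj_zpow, hw, ← map_zpow, ← _root_.zpow_mul, mul_comm]⟩
  obtain ⟨m, hm⟩ := key β hβ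
  obtain ⟨n, hn⟩ := key γ hγ
  rintro _ ⟨u, rfl⟩
  obtain ⟨i, rfl⟩ := hg u
  rw [commutatorElement_def]
  set S := sAct (g ^ i) with hS
  -- transport `e` to `S' = (γβ) S (γβ)⁻¹`
  obtain ⟨j, hj⟩ : ∃ j : Fˣ, (γ * β) * sAct j * (γ * β)⁻¹ = S := by
    obtain ⟨j, hj⟩ := exists_sigma (inv_mem (mul_mem hγ hβ)) (g ^ i)
    exact ⟨j, by rw [← hj, ← hS]; group⟩
  obtain ⟨k, rfl⟩ := hg j
  have e' : β * γ * sAct (g ^ k) * (β * γ)⁻¹ = γ * β * sAct (g ^ k) * (γ * β)⁻¹ := by
    rw [show β * γ * sAct (g ^ k) * (β * γ)⁻¹ = β * (γ * sAct (g ^ k) * γ⁻¹) * β⁻¹ by group,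
      show γ * β * sAct (g ^ k) * (γ * β)⁻¹ = γ * (β * sAct (g ^ k) * β⁻¹) * γ⁻¹ by group, hn, hm, hm, hn,
      mul_right_comm]
  rw [hj] at e'
  calc S * (β * γ * β⁻¹ * γ⁻¹) = (β * γ * sAct (g ^ k) * (β * γ)⁻¹) * (β * γ * β⁻¹ * γ⁻¹) := by rw [e']
    _ = β * γ * β⁻¹ * γ⁻¹ * (γ * β * sAct (g ^ k) * (γ * β)⁻¹) := by group
    _ = β * γ * β⁻¹ * γ⁻¹ * S := by rw [hj]

theorem le_lin_of_commutator {Y B : Subgroup (MulAut (Multiplicative (Fin 2 → F)))}
    (hY : Y ≤ normalizer (((slAct (F := F)).range : Subgroup _) : Set (MulAut (Multiplicative (Fin 2 → F)))))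
    (hB : B ≤ normalizer (((slAct (F := F)).range : Subgroup _) : Set (MulAut (Multiplicative (Fin 2 → F)))))
    (h : ⁅Y, B⁆ = Y) : Y ≤ linGroup F :=
  h ▸ commutator_le.mpr fun _ ha _ hb => commutator_normalizer_le_lin (hY ha) (hB hb)

theorem linDet_eq_one_of_pow {p : ℕ} [Fact p.Prime] [CharP F p] {β : MulAut (Multiplicative (Fin 2 → F))}
    (hβ : β ∈ linGroup F) {k : ℕ} (h : β ^ p ^ k = 1) : linDet ⟨β, hβ⟩ = 1 :=
  frobenius_inj_iter p k (by rw [linDet_pow hβ h, one_pow])
where
  frobenius_inj_iter (p k : ℕ) [Fact p.Prime] [CharP F p] {a : F} (h : a ^ p ^ k = 1 ^ p ^ k) : a = 1 :=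
    iterateFrobenius_inj F p k h

/-- A nonzero vector spans a line of `q` points. -/
theorem card_le_of_smul_mem {S : Set (Fin 2 → F)} {v : Fin 2 → F} (hv : v ≠ 0) (h : ∀ c : F, c • v ∈ S) :
    Nat.card F ≤ Nat.card S :=
  Nat.card_le_card_of_injective (fun c => ⟨c • v, h c⟩) fun a b e => smul_left_injective F hv (congrArg Subtype.val e)

theorem card_plane : Nat.card (Multiplicative (Fin 2 → F)) = Nat.card F * Nat.card F := by
  rw [Nat.card_congr Multiplicative.toAdd, Nat.card_fun, Nat.card_fin, sq]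

theorem outer_small_three {p : ℕ} (hp : p = 3) [Fact p.Prime] [CharP F p] (h4 : 4 ≤ Nat.card F)
    (Y B : Subgroup (MulAut (Multiplicative (Fin 2 → F))))
    (hY : Y ≤ normalizer (((slAct (F := F)).range : Subgroup _) : Set (MulAut (Multiplicative (Fin 2 → F)))))
    (hB : B ≤ normalizer (((slAct (F := F)).range : Subgroup _) : Set (MulAut (Multiplicative (Fin 2 → F)))))
    (hYB : ⁅Y, B⁆ = Y) : ∀ β ∈ ⁅Y, Y⁆, β ^ 2 = 1 → β ≠ 1 → 9 < Nat.card (dMap β).range := by
  intro β hβ h2 h1
  obtain ⟨g, rfl⟩ := linDet_commutator (le_lin_of_commutator hY hB hYB) hβ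
  set A := (g : Matrix (Fin 2) (Fin 2) F) with hA
  have hg2 : g ^ 2 = 1 := slAct_injective (by rw [map_pow, h2, map_one])
  have hA2 : A * A = 1 := by
    have := congrArg (fun g : SpecialLinearGroup (Fin 2) F => (g : Matrix (Fin 2) (Fin 2) F)) hg2
    simpa [pow_two] using this
  have hdet : A 0 0 * A 1 1 - A 0 1 * A 1 0 = 1 := by
    rw [← Matrix.det_fin_two]; exact g.2
  have hchar : (2 : F) ≠ 0 := by
    intro h
    have : p ∣ 2 := (CharP.cast_eq_zero_iff F p 2).mp (by exact_mod_cast h)
    rw [hp] at this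
    exact absurd this (by norm_num)
  have e00 := congrFun (congrFun hA2 0) 0
  have e01 := congrFun (congrFun hA2 0) 1
  have e10 := congrFun (congrFun hA2 1) 0
  have e11 := congrFun (congrFun hA2 1) 1
  simp [Matrix.mul_apply, Fin.sum_univ_two] at e00 e01 e10 e11
  have htr : A 0 0 + A 1 1 = 0 ∨ (A 0 1 = 0 ∧ A 1 0 = 0) := by
    by_cases h : A 0 0 + A 1 1 = 0
    · exact Or.inl h
    · refine Or.inr ⟨?_, ?_⟩
      · exact (mul_eq_zero.mp (show (A 0 0 + A 1 1) * A 0 1 = 0 by linear_combination e01)).resolve_left h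
      · exact (mul_eq_zero.mp (show (A 0 0 + A 1 1) * A 1 0 = 0 by linear_combination e10)).resolve_left h
  obtain ⟨h01, h10, h00, h11⟩ : A 0 1 = 0 ∧ A 1 0 = 0 ∧ A 0 0 = -1 ∧ A 1 1 = -1 := by
    rcases htr with h | ⟨h01, h10⟩
    · exact absurd (show (2 : F) = 0 by linear_combination -hdet - e00 + A 0 0 * h) hchar
    · have hd : A 0 0 * A 1 1 = 1 := by linear_combination hdet + A 1 0 * h01
      have hsq : A 0 0 * A 0 0 = 1 := by linear_combination e00 - A 1 0 * h01
      rcases mul_self_eq_one_iff.mp hsq with h00 | h00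
      · exfalso
        refine h1 ?_
        have h11 : A 1 1 = 1 := by rw [h00, one_mul] at hd; exact hd
        rw [show g = 1 from Matrix.SpecialLinearGroup.ext _ _ fun i j => by
          fin_cases i <;> fin_cases j <;> simpa [hA] using ‹_›, map_one]
      · exact ⟨h01, h10, h00, by rw [h00] at hd; linear_combination -hd⟩
  have hneg : ∀ v : Fin 2 → F, A.mulVec v = -v := fun v => by
    funext i
    fin_cases i <;> simp [Matrix.mulVec, dotProduct, Fin.sum_univ_two, h01, h10, h00, h11]
  have hinj : Function.Injective (dMap (slAct g)) := by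
    rw [injective_iff_map_eq_one]
    intro m hm
    refine Multiplicative.toAdd.injective ?_
    have h := congrArg Multiplicative.toAdd hm
    change A.mulVec (Multiplicative.toAdd m) - Multiplicative.toAdd m = 0 at h
    rw [hneg] at h
    funext i
    have hi := congrFun h i
    simp only [Pi.sub_apply, Pi.neg_apply, Pi.zero_apply] at hi
    exact (mul_eq_zero.mp (show (2 : F) * Multiplicative.toAdd m i = 0 by linear_combination -hi)).resolve_left hchar
  rw [← Nat.card_congr (MonoidHom.ofInjective hinj).toEquiv, card_plane]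
  nlinarith

theorem outer_small_two {p : ℕ} (hp : p = 2) [Fact p.Prime] [CharP F p] (h4 : 4 ≤ Nat.card F)
    (Y B : Subgroup (MulAut (Multiplicative (Fin 2 → F))))
    (hY : Y ≤ normalizer (((slAct (F := F)).range : Subgroup _) : Set (MulAut (Multiplicative (Fin 2 → F)))))
    (hB : B ≤ normalizer (((slAct (F := F)).range : Subgroup _) : Set (MulAut (Multiplicative (Fin 2 → F)))))
    (hYB : ⁅Y, B⁆ = Y) (hY3 : Nat.card Y = 3) (hd : ∀ y ∈ Y, Nat.card (dMap y).range ≤ 4)
    (hnle : ¬ Y ≤ (slAct (F := F)).range) :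
    ∀ A ≤ B, (∀ a ∈ A, a ^ 2 = 1) → A ≠ ⊥ →
      Nat.card A * Nat.card (fixSet A) < Nat.card (Multiplicative (Fin 2 → F)) := by
  have hlin := le_lin_of_commutator hY hB hYB
  obtain ⟨y, hyY, hyR⟩ := SetLike.not_le_iff_exists.mp hnle
  have hy3 : y ^ 3 = 1 := by
    have h := pow_card_eq_one' (x := (⟨y, hyY⟩ : ↥Y))
    rw [hY3] at h
    exact congrArg Subtype.val h
  have hy1 : y ≠ 1 := fun h => hyR (h ▸ one_mem _)
  set L := toLin (hlin hyY) with hL
  set D := L - 1 with hD
  have hDrange : ∀ v, Multiplicative.ofAdd (D v) ∈ (dMap y).range := fun v => ⟨Multiplicative.ofAdd v, rfl⟩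
  obtain ⟨v0, hv0⟩ : ∃ v, D v ≠ 0 := by
    by_contra h
    push Not at h
    exact hy1 (addPart_ext fun v => sub_eq_zero.mp (h v))
  have hq : Nat.card F = 4 := le_antisymm (((card_le_of_smul_mem (S := {v | Multiplicative.ofAdd v ∈ (dMap y).range})
    hv0 fun c => by rw [← map_smul]; exact hDrange _).trans (Nat.card_congr
      (Multiplicative.ofAdd.subtypeEquiv fun _ => Iff.rfl)).le).trans (hd y hyY)) h4
  obtain ⟨w, hw, hDw⟩ : ∃ w, w ≠ 0 ∧ D w = 0 := by
    by_contra h
    push Not at h
    have hinj : Function.Injective (fun v => (⟨Multiplicative.ofAdd (D v), hDrange v⟩ : ↥(dMap y).range)) :=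
      fun a b e => sub_eq_zero.mp (by
        by_contra hab
        exact h _ hab (by rw [map_sub]; exact sub_eq_zero.mpr (Multiplicative.ofAdd.injective (congrArg Subtype.val e))))
    have h1 := (Nat.card_le_card_of_injective _ hinj).trans (hd y hyY)
    rw [Nat.card_fun, Nat.card_fin, hq] at h1
    norm_num at h1
  have hcard : Nat.card (Multiplicative (Fin 2 → F)) = 16 := by rw [card_plane, hq]
  intro A hAB hA2 hA1
  have hAN : A ≤ normalizer (((slAct (F := F)).range : Subgroup _) : Set (MulAut (Multiplicative (Fin 2 → F)))) :=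
    hAB.trans hB
  have hBY : ∀ b ∈ B, b * y * b⁻¹ ∈ Y := fun b hb => by
    have := mul_mem (hYB ▸ inv_mem (commutator_mem_commutator hyY hb) : ⁅y, b⁆⁻¹ ∈ Y) hyY
    rwa [show ⁅y, b⁆⁻¹ * y = b * y * b⁻¹ by rw [commutatorElement_def]; group] at this
  have hYy : Y = zpowers y := (eq_of_le_of_card_ge (zpowers_le.mpr hyY)
    (by rw [Nat.card_zpowers, orderOf_eq_prime hy3 hy1, hY3])).symm
  -- linear involutions normalizing `⟨y⟩` are trivial
  have hlin1 : ∀ a ∈ A, a ∈ linGroup F → a = 1 := by
    intro a ha hal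
    have ha2 : addPart a ∘ addPart a = id := funext fun v => by
      have := congrArg (fun β => addPart β v) (hA2 a ha)
      simpa [pow_two, addPart_mul, addPart_one] using this
    have hconj := hBY a (hAB ha)
    rw [hYy] at hconj
    obtain ⟨i, hi⟩ := (mem_powers_iff_mem_zpowers.mpr hconj : a * y * a⁻¹ ∈ Submonoid.powers y)
    have hdet1 : linDet (⟨y, hlin hyY⟩ : ↥(linGroup F)) ^ i = linDet ⟨y, hlin hyY⟩ := by
      rw [← map_pow, show (⟨y, hlin hyY⟩ : ↥(linGroup F)) ^ i =
        ⟨a, hal⟩ * ⟨y, hlin hyY⟩ * (⟨a, hal⟩ : ↥(linGroup F))⁻¹ from Subtype.ext hi, map_mul, map_mul,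
        mul_right_comm, ← map_mul, mul_inv_cancel, map_one, one_mul]
    have hne : linDet (⟨y, hlin hyY⟩ : ↥(linGroup F)) ≠ 1 := fun h => hyR (mem_range_of_det (hlin hyY) h)
    have hi3 : i % 3 = 1 := by
      have h3 := linDet_pow (hlin hyY) hy3
      have h0 : linDet (⟨y, hlin hyY⟩ : ↥(linGroup F)) ≠ 0 := fun h => by simp [h] at h3
      rw [pow_eq_pow_mod i h3] at hdet1
      have : i % 3 < 3 := Nat.mod_lt _ (by norm_num)
      interval_cases hm : i % 3
      · exact absurd (hdet1.symm.trans (pow_zero _)) hne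
      · rfl
      · exfalso
        refine hne (mul_left_cancel₀ h0 ?_)
        rw [mul_one, ← pow_two]; exact hdet1
    have hay : a * y = y * a := by
      change y ^ i = a * y * a⁻¹ at hi
      rw [show y ^ i = y from (pow_eq_pow_mod i hy3).trans (by rw [hi3, pow_one])] at hi
      exact (mul_inv_eq_iff_eq_mul.mp hi.symm)
    have hDa : ∀ v, D (addPart a v) = addPart a (D v) := fun v => by
      show addPart y (addPart a v) - addPart a v = addPart a (addPart y v - v)
      rw [map_sub, ← addPart_mul, ← addPart_mul, hay]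
    -- `a` fixes each eigenline
    have hline : ∀ u, u ≠ 0 → (∃ c : F, addPart a u = c • u) → addPart a u = u := by
      rintro u hu ⟨c, hc⟩
      have h := congrFun ha2 u
      rw [Function.comp_apply, hc, lin_smul hal, hc, smul_smul, id_eq] at h
      have hcc : c * c = 1 := smul_left_injective F hu (h.trans (one_smul F u).symm)
      have h2 : (2 : F) = 0 := by
        have := CharP.cast_eq_zero F p
        rwa [hp] at this
      rw [hc, show c = 1 from by
        rcases mul_self_eq_one_iff.mp hcc with e | e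
        · exact e
        · rw [e]; linear_combination -h2, one_smul]
    have hindep : ∀ u, u ≠ 0 → D u = 0 → ∀ x : Fin 2 → F, D x = 0 → ∃ c : F, x = c • u := by
      intro u hu hDu x hx
      by_contra hno
      push Not at hno
      have hli : LinearIndependent F ![u, x] := by
        rw [LinearIndependent.pair_iff' hu]
        exact fun c e => hno c e.symm
      have hsp := hli.span_eq_top_of_card_eq_finrank (by simp)
      refine hv0 ?_
      have hv : v0 ∈ LinearMap.ker D := (show Submodule.span F (Set.range ![u, x]) ≤ LinearMap.ker D by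
        rw [Submodule.span_le]
        rintro _ ⟨j, rfl⟩
        fin_cases j <;> simpa using ‹_›) (hsp ▸ Submodule.mem_top)
      exact hv
    have hw' : addPart a w = w := hline w hw (hindep w hw hDw _ (by rw [hDa, hDw, map_zero]))
    obtain ⟨c, hc⟩ : ∃ c : F, addPart a (D v0) = c • D v0 := by
      rw [← hDa]
      by_contra hno
      push Not at hno
      have hli : LinearIndependent F ![D v0, D (addPart a v0)] := by
        rw [LinearIndependent.pair_iff' hv0]
        exact fun c e => hno c e.symm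
      have hsp := hli.span_eq_top_of_card_eq_finrank (by simp)
      have hsurj : Function.Surjective D := by
        rw [← LinearMap.range_eq_top, eq_top_iff, ← hsp, Submodule.span_le]
        rintro _ ⟨j, rfl⟩
        fin_cases j <;> exact LinearMap.mem_range_self _ _
      exact hw ((LinearMap.injective_iff_surjective.mpr hsurj) (hDw.trans (map_zero D).symm))
    have hv' : addPart a (D v0) = D v0 := hline _ hv0 ⟨c, hc⟩
    have hli : LinearIndependent F ![w, D v0] := by
      rw [LinearIndependent.pair_iff' hw]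
      intro e he
      have hD2 : D (D v0) = 0 := by rw [← he, map_smul, hDw, smul_zero]
      refine hyR (mem_range_of_det (hlin hyY) ?_)
      exfalso
      have hDD : ∀ v, D (D v) = 0 := fun v => by
        obtain ⟨d, hd'⟩ := hindep w hw hDw (D v0) hD2
        by_contra hne'
        have hli' : LinearIndependent F ![w, v] := by
          rw [LinearIndependent.pair_iff' hw]
          intro f hf
          exact hne' (by rw [← hf, map_smul, hDw, smul_zero, map_zero])
        have hsp := hli'.span_eq_top_of_card_eq_finrank (by simp)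
        obtain ⟨s, hs⟩ : ∃ s : F, D v0 = s • D v := by
          have : v0 ∈ Submodule.span F (Set.range ![w, v]) := hsp ▸ Submodule.mem_top
          rw [Matrix.range_cons_cons_empty, Submodule.mem_span_pair] at this
          obtain ⟨r, s, hrs⟩ := this
          exact ⟨s, by rw [← hrs, map_add, map_smul, map_smul, hDw, smul_zero, zero_add]⟩
        have hs0 : s ≠ 0 := fun h => hv0 (by rw [hs, h, zero_smul])
        exact hne' (by
          have := congrArg D hs
          rw [hD2, map_smul] at this
          exact (smul_eq_zero.mp this.symm).resolve_left hs0)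
      -- `(y - 1)² = 0` gives `y² = 1`
      have hy2 : y ^ 2 = 1 := addPart_ext fun v => by
        have hh : addPart y (addPart y v - v) - (addPart y v - v) = 0 := hDD v
        have h2 : ∀ u : Fin 2 → F, u + u = 0 := fun u => by
          funext j
          have := CharP.cast_eq_zero F p
          rw [hp] at this
          show u j + u j = 0
          linear_combination u j * this
        rw [map_sub] at hh
        rw [pow_two, addPart_mul, addPart_one]
        exact sub_eq_zero.mp (by
          calc addPart y (addPart y v) - v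
              = (addPart y (addPart y v) - addPart y v - (addPart y v - v)) + (addPart y v + addPart y v) -
                (v + v) := by abel
            _ = 0 := by rw [hh, h2 (addPart y v), h2 v]; simp)
      exact hy1 (by rw [← mul_one y]; nth_rw 1 [← hy2]; rw [← pow_succ', hy3])
    have hsp := hli.span_eq_top_of_card_eq_finrank (by simp)
    refine addPart_ext fun v => ?_
    have : v ∈ Submodule.span F (Set.range ![w, D v0]) := hsp ▸ Submodule.mem_top
    rw [Matrix.range_cons_cons_empty, Submodule.mem_span_pair] at this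
    obtain ⟨r, s, rfl⟩ := this
    rw [map_add, lin_smul hal, lin_smul hal, hw', hv', addPart_one]
  -- the scalars of order three
  obtain ⟨u, hu⟩ := IsCyclic.exists_generator (α := Fˣ)
  have hu3 : orderOf u = 3 := by
    rw [orderOf_eq_card_of_forall_mem_zpowers hu, Nat.card_units, hq]
  have hflip : ∀ a ∈ A, a ≠ 1 → a * sAct u * a⁻¹ = sAct (u ^ 2) := by
    intro a ha ha1
    obtain ⟨t, ht⟩ := exists_sigma (hAN ha) u
    obtain ⟨i, hi⟩ := (mem_powers_iff_mem_zpowers.mpr (hu t) : t ∈ Submonoid.powers u)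
    change u ^ i = t at hi
    rw [← pow_mod_orderOf, hu3] at hi
    have : i % 3 < 3 := Nat.mod_lt _ (by norm_num)
    interval_cases hm : i % 3
    · exfalso
      rw [← hi, pow_zero, map_one, mul_inv_eq_one] at ht
      have : sAct u = 1 := mul_left_cancel (ht.trans (mul_one a).symm)
      have h2 := congrArg (fun β => addPart β w) this
      rw [sAct_apply, addPart_one] at h2
      have : (u : F) = 1 := smul_left_injective F hw (h2.trans (one_smul F w).symm)
      rw [Units.val_eq_one.mp this, orderOf_one] at hu3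
      norm_num at hu3
    · exfalso
      refine ha1 (hlin1 a ha ?_)
      rintro _ ⟨x, rfl⟩
      obtain ⟨j, rfl⟩ := hu x
      rw [← hi, pow_one, mul_inv_eq_iff_eq_mul] at ht
      rw [map_zpow]
      exact ((show Commute a (sAct u) from ht).zpow_right j).eq.symm
    · rw [ht, ← hi]
  obtain ⟨a0, ha0, ha01⟩ := (Subgroup.bot_or_exists_ne_one A).resolve_left hA1
  have hA2' : Nat.card A ≤ 2 := by
    have : ∀ a : ↥A, a = 1 ∨ a = ⟨a0, ha0⟩ := by
      intro a
      by_cases h : a = 1
      · exact Or.inl h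
      right
      refine inv_mul_eq_one.mp ?_
      refine Subtype.ext (hlin1 _ (mul_mem (inv_mem a.2) ha0) ?_)
      have e1 := hflip a a.2 (fun e => h (Subtype.ext e))
      have e2 := hflip a0 ha0 ha01
      rintro _ ⟨x, rfl⟩
      obtain ⟨j, rfl⟩ := hu x
      rw [map_zpow]
      refine ((show Commute ((a : MulAut _)⁻¹ * a0) (sAct u) from ?_).zpow_right j).eq.symm
      show (a : MulAut _)⁻¹ * a0 * sAct u = sAct u * ((a : MulAut _)⁻¹ * a0)
      have f1 : a.1 * sAct u = sAct (u ^ 2) * a.1 := mul_inv_eq_iff_eq_mul.mp e1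
      have f2 : a0 * sAct u = sAct (u ^ 2) * a0 := mul_inv_eq_iff_eq_mul.mp e2
      calc a.1⁻¹ * a0 * sAct u = a.1⁻¹ * (sAct (u ^ 2) * a0) := by rw [mul_assoc, f2]
        _ = a.1⁻¹ * (sAct (u ^ 2) * a.1) * (a.1⁻¹ * a0) := by group
        _ = a.1⁻¹ * (a.1 * sAct u) * (a.1⁻¹ * a0) := by rw [f1]
        _ = _ := by group
    classical
    have hs := Fintype.ofFinite ↥A
    rw [Nat.card_eq_fintype_card]
    refine (Finset.card_le_card (t := {1, ⟨a0, ha0⟩}) fun a _ => ?_).trans Finset.card_le_two
    simp only [Finset.mem_insert, Finset.mem_singleton]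
    exact this a
  have hfix : Nat.card (fixSet A) ≤ 4 := by
    have hn : ∀ m ∈ fixSet A, addPart a0 (Multiplicative.toAdd m) = Multiplicative.toAdd m := fun m hm =>
      congrArg Multiplicative.toAdd (hm a0 ha0)
    have hinj : Function.Injective (fun mm : ↥(fixSet A) × ↥(fixSet A) =>
        Multiplicative.toAdd mm.1.1 + (u : F) • Multiplicative.toAdd mm.2.1) := by
      rintro ⟨m1, m2⟩ ⟨n1, n2⟩ e
      set x := Multiplicative.toAdd m2.1 - Multiplicative.toAdd n2.1 with hx
      have hx' : addPart a0 x = x := by rw [hx, map_sub, hn _ m2.2, hn _ n2.2]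
      have hux : addPart a0 ((u : F) • x) = (u : F) • x := by
        have e' : (u : F) • x = Multiplicative.toAdd n1.1 - Multiplicative.toAdd m1.1 := by
          have := e
          simp only at this
          rw [hx, smul_sub, sub_eq_sub_iff_add_eq_add, add_comm, this, add_comm]
        rw [e', map_sub, hn _ m1.2, hn _ n1.2]
      rw [addPart_smul (hflip a0 ha0 ha01), hx'] at hux
      have hx0 : x = 0 := by
        by_contra hx0
        have h := smul_left_injective F hx0 hux
        rw [Units.val_pow_eq_pow_val, pow_two] at h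
        have : (u : F) = 1 := mul_left_cancel₀ u.ne_zero (h.trans (mul_one _).symm)
        rw [Units.val_eq_one.mp this, orderOf_one] at hu3
        norm_num at hu3
      have e2 : m2 = n2 := Subtype.ext (Multiplicative.toAdd.injective (sub_eq_zero.mp hx0))
      subst e2
      exact Prod.ext (Subtype.ext (Multiplicative.toAdd.injective (add_right_cancel e))) rfl
    have h := Nat.card_le_card_of_injective _ hinj
    rw [Nat.card_prod, Nat.card_fun, Nat.card_fin, hq] at h
    nlinarith
  rw [hcard]
  calc Nat.card A * Nat.card (fixSet A) ≤ 2 * 4 := Nat.mul_le_mul hA2' hfix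
    _ < 16 := by norm_num

theorem outer_perfect (Y : Subgroup (MulAut (Multiplicative (Fin 2 → F))))
    (hY : Y ≤ normalizer (((slAct (F := F)).range : Subgroup _) : Set (MulAut (Multiplicative (Fin 2 → F)))))
    (h : ⁅Y, Y⁆ = Y) : Y ≤ (slAct (F := F)).range :=
  h ▸ linDet_commutator (le_lin_of_commutator hY hY h)

theorem outer_no_p {p : ℕ} [Fact p.Prime] [CharP F p] (γ : MulAut (Multiplicative (Fin 2 → F)))
    (hγ : γ ∈ centralizer (((slAct (F := F)).range : Subgroup _) : Set (MulAut (Multiplicative (Fin 2 → F)))))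
    (k : ℕ) (h : γ ^ p ^ k = 1) : γ = 1 := by
  obtain ⟨u, rfl⟩ := exists_sAct_of_centralizer hγ
  have h1 : (u : F) ^ p ^ k = 1 ^ p ^ k := by
    rw [one_pow, ← Units.val_pow_eq_pow_val]
    have h2 := congrArg (fun β => addPart β ![1, 0]) h
    simp only [← map_pow, sAct_apply, addPart_one] at h2
    simpa using congrFun h2 0
  rw [Units.val_eq_one.mp (iterateFrobenius_inj F p k h1), map_one]

theorem outer_unip {p : ℕ} [Fact p.Prime] [CharP F p] (β : MulAut (Multiplicative (Fin 2 → F)))
    (hβ : β ∈ (slAct (F := F)).range) (k : ℕ) (h : β ^ p ^ k = 1) :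
    ∀ m, β (β m / m) = β m / m := by
  obtain ⟨g, rfl⟩ := hβ
  set A := (g : Matrix (Fin 2) (Fin 2) F) with hA
  set N := A - 1 with hN
  have hgk : g ^ p ^ k = 1 := slAct_injective (by rw [map_pow, h, map_one])
  have hNk : N ^ p ^ k = 0 := by
    have h1 := congrArg (fun g : SpecialLinearGroup (Fin 2) F => (g : Matrix (Fin 2) (Fin 2) F)) hgk
    rw [hN, sub_pow_char_pow_of_commute (p := p) k (Commute.one_right A), one_pow]
    rw [show A ^ p ^ k = 1 from (Matrix.SpecialLinearGroup.coe_pow g (p ^ k)).symm.trans h1, sub_self]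
  have hdet : N.det = 0 := eq_zero_of_pow_eq_zero (n := p ^ k) (by
    rw [← Matrix.det_pow, hNk]; exact Matrix.det_zero)
  have hsq : N * N = (N 0 0 + N 1 1) • N := by
    have h0 : N 0 0 * N 1 1 - N 0 1 * N 1 0 = 0 := by rw [← Matrix.det_fin_two]; exact hdet
    ext i j
    fin_cases i <;> fin_cases j <;> simp [Matrix.mul_apply, Fin.sum_univ_two] <;>
      first | linear_combination -h0 | ring
  set t := N 0 0 + N 1 1
  have hpow : ∀ m : ℕ, N ^ (m + 1) = t ^ m • N := by
    intro m
    induction m with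
    | zero => simp
    | succ m ih => rw [pow_succ, ih, smul_mul_assoc, hsq, smul_smul, pow_succ]
  have hNN : N * N = 0 := by
    rw [hsq]
    obtain ⟨m, hm⟩ : ∃ m, p ^ k = m + 1 :=
      ⟨p ^ k - 1, (Nat.sub_add_cancel (Nat.one_le_pow _ _ (Fact.out : p.Prime).pos)).symm⟩
    rw [hm, hpow] at hNk
    rcases smul_eq_zero.mp hNk with e | e
    · rw [eq_zero_of_pow_eq_zero e, zero_smul]
    · rw [e, smul_zero]
  intro m
  refine Multiplicative.toAdd.injective ?_
  set v := Multiplicative.toAdd m
  show A.mulVec (A.mulVec v - v) = A.mulVec v - v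
  have : (N * N).mulVec v = 0 := by rw [hNN, Matrix.zero_mulVec]
  rw [← Matrix.mulVec_mulVec, hN, Matrix.sub_mulVec, Matrix.sub_mulVec, Matrix.one_mulVec, Matrix.one_mulVec] at this
  exact sub_eq_zero.mp this

theorem outer_offender {p : ℕ} [Fact p.Prime] [CharP F p] (hp : p ≠ 2)
    (A : Subgroup (MulAut (Multiplicative (Fin 2 → F))))
    (hA : A ≤ normalizer (((slAct (F := F)).range : Subgroup _) : Set (MulAut (Multiplicative (Fin 2 → F)))))
    (hpow : ∀ a ∈ A, a ^ p = 1) (A' : Subgroup (MulAut (Multiplicative (Fin 2 → F)))) (hA' : A' ≤ A)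
    (hne : A' ≠ ⊥) (hfix : ∀ a ∈ A, ∀ b ∈ A', ∀ m, b (a m / m) = a m / m) : A ≤ (slAct (F := F)).range := by
  obtain ⟨b, hb, hb1⟩ := (Subgroup.bot_or_exists_ne_one A').resolve_left hne
  have hq : ∀ a ∈ A, ∀ v, addPart b (addPart a v - v) = addPart a v - v := fun a ha v =>
    congrArg Multiplicative.toAdd (hfix a ha b hb (Multiplicative.ofAdd v))
  obtain ⟨v1, hv1⟩ : ∃ v, addPart b v - v ≠ 0 := by
    by_contra h
    push Not at h
    exact hb1 (addPart_ext fun v => sub_eq_zero.mp (h v))
  set x := addPart b v1 - v1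
  have hx : addPart b x = x := hq b (hA' hb) v1
  have hblin : b ∈ linGroup F := by
    rintro _ ⟨u, rfl⟩
    obtain ⟨w, hw⟩ := exists_sigma (hA (hA' hb)) u
    obtain ⟨z, hz⟩ := exists_sigma (hA (hA' hb)) w
    set c := (u : F) with hc
    set d := (w : F) - c with hd
    have e1 : addPart b (c • x) = (w : F) • x := by rw [hc, addPart_smul hw, hx]
    have e2 : addPart b ((w : F) • x) = (z : F) • x := by rw [addPart_smul hz, hx]
    have e3 : addPart b ((c * c) • x) = ((w : F) * w) • x := by
      rw [mul_smul, hc, addPart_smul hw, ← hc, e1, smul_smul]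
    have e4 : addPart b (((w : F) * w) • x) = ((z : F) * z) • x := by
      rw [mul_smul, addPart_smul hz, e2, smul_smul]
    have f1 : ((z : F) - w) • x = ((w : F) - c) • x := by
      have := hq b (hA' hb) (c • x)
      rwa [e1, map_sub, e2, e1, ← sub_smul, ← sub_smul] at this
    have f2 : ((z : F) * z - w * w) • x = ((w : F) * w - c * c) • x := by
      have := hq b (hA' hb) ((c * c) • x)
      rwa [e3, map_sub, e4, e3, ← sub_smul, ← sub_smul] at this
    have g1 := smul_left_injective F hv1 f1
    have g2 := smul_left_injective F hv1 f2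
    have h2 : (2 : F) ≠ 0 := by
      intro h
      have : p ∣ 2 := (CharP.cast_eq_zero_iff F p 2).mp (by exact_mod_cast h)
      exact hp ((Nat.prime_dvd_prime_iff_eq Fact.out Nat.prime_two).mp this)
    have : (2 : F) * ((w : F) - c) ^ 2 = 0 := by linear_combination g2 - ((z : F) + 2 * w - c) * g1
    have hwu : w = u := Units.ext (sub_eq_zero.mp (eq_zero_of_pow_eq_zero ((mul_eq_zero.mp this).resolve_left h2)))
    rw [hwu] at hw
    exact (mul_inv_eq_iff_eq_mul.mp hw).symm
  intro a ha
  have halin : a ∈ linGroup F := by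
    rintro _ ⟨u, rfl⟩
    obtain ⟨w, hw⟩ := exists_sigma (hA ha) u
    by_cases hwu : w = u
    · rw [hwu] at hw
      exact (mul_inv_eq_iff_eq_mul.mp hw).symm
    exfalso
    have hfixK : ∀ v, addPart b (((w : F) - u) • addPart a v) = ((w : F) - u) • addPart a v := fun v => by
      have h1 := hq a ha ((u : F) • v)
      have h2 : addPart b ((u : F) • (addPart a v - v)) = (u : F) • (addPart a v - v) := by
        rw [lin_smul hblin, hq a ha v]
      rw [show ((w : F) - u) • addPart a v = (addPart a ((u : F) • v) - (u : F) • v) -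
          (u : F) • (addPart a v - v) by rw [addPart_smul hw, smul_sub, sub_smul]; abel,
        map_sub, h1, h2]
    refine hb1 (addPart_ext fun v => ?_)
    have hwu' : (w : F) - u ≠ 0 := fun h => hwu (Units.ext (sub_eq_zero.mp h))
    have h := hfixK (addPart a⁻¹ v)
    rw [lin_smul hblin, ← addPart_mul a a⁻¹, mul_inv_cancel, addPart_one] at h
    exact smul_right_injective _ hwu' h
  refine mem_range_of_det halin (linDet_eq_one_of_pow (p := p) halin (k := 1) ?_)
  rw [pow_one]
  exact hpow a ha

/-- The facts for `SL₂(q)`. -/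
theorem outer_linear {p : ℕ} [Fact p.Prime] [CharP F p] (h4 : 4 ≤ Nat.card F) :
    Outer p (slAct (F := F)).range where
  perfect := fun Y hY h => outer_perfect Y hY h
  small_two := fun hp Y B hY hB hYB h3 hd hn => outer_small_two hp h4 Y B hY hB hYB h3 hd hn
  small_three := fun hp Y B hY hB hYB => outer_small_three hp h4 Y B hY hB hYB
  offender := fun hp A hA hpow A' hA' hne hfix => outer_offender hp A hA hpow A' hA' hne hfix
  unip := fun _ β hβ k h => outer_unip β hβ k h
  no_p := fun γ hγ k h => outer_no_p γ hγ k h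

end Cfsg.Agent.BaumannBlock
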