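import Cfsg.Agent.Lib.BaumannBlock.Normalizes
import Cfsg.Agent.Lib.BaumannBlock.KeyLemma

/-!
Two subnormal blocks are equal or commute.
-/

set_option autoImplicit false

namespace Cfsg.Agent.BaumannBlock

open Subgroup
open scoped commutatorElement

variable {G : Type*} [Group G] [Finite G] {p : ℕ} [Fact p.Prime] {E F : Subgroup G}

/-- The `W_E`-part of triviality on `W / Z`. -/
theorem trivial_of_trivial_bWE {T : Sylow p G} (hG : centralizer (pCore p G : Set G) ≤ pCore p G)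
    (hE : IsBaumannBlock p (T : Subgroup G) E) {g : G} (hg : g ∈ normalizer (bZ p E : Set G))
    (h : ∀ u ∈ bWE p E, g * u * g⁻¹ * u⁻¹ ∈ bZ p E) {u : G} (hu : u ∈ bW p E) :
    g * u * g⁻¹ * u⁻¹ ∈ bZ p E := by
  obtain ⟨z, hz, v, hv, rfl⟩ := exists_mul_of_mem_bW hG hE hu
  rw [show g * (z * v) * g⁻¹ * (z * v)⁻¹ = g * z * g⁻¹ * (g * v * g⁻¹ * v⁻¹) * z⁻¹ by group]
  exact mul_mem (mul_mem ((mem_normalizer_iff.mp hg _).mp hz) (h v hv)) (inv_mem hz)

theorem inf_centralizer_le {T T' : Sylow p G} (hG : centralizer (pCore p G : Set G) ≤ pCore p G)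
    (hE : IsBaumannBlock p (T : Subgroup G) E) (hF : IsBaumannBlock p (T' : Subgroup G) F)
    (hFE : F ≤ normalizer (E : Set G)) (hW : bWE p E = bWE p F) :
    bWE p F ⊓ centralizer (E : Set G) ≤ centralizer (F : Set G) := by
  set Z0 := bWE p F ⊓ centralizer (E : Set G)
  have hn : F ≤ normalizer (Z0 : Set G) :=
    LocalStructure.le_normalizer_inf (le_normalizer_bWE F) (LocalStructure.le_normalizer_centralizer hFE)
  rcases module_irreducible hF (le_sup_left : bZ p F ≤ bZ p F ⊔ Z0) (sup_le (bZ_le F) (inf_le_left.trans (bWE_le F)))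
    (LocalStructure.le_normalizer_sup (le_normalizer_bZ F) hn) with h | h
  · exact le_sup_right.trans (h.le.trans inf_le_right)
  exfalso
  refine not_bWE_le_centralizer hG hE ?_
  rw [hW]
  show ⁅bW p F, F⁆ ≤ _
  refine (commutator_le.mpr fun u hu f hf => ?_ : ⁅bW p F, F⁆ ≤ Z0).trans inf_le_right
  replace hu : u ∈ bZ p F ⊔ Z0 := h.ge hu
  obtain ⟨z, hz, v, hv, rfl⟩ := LocalStructure.exists_mul_of_mem_sup
    (((bZ_le F).trans (bW_comm F)).trans ((centralizer_le (SetLike.coe_subset_coe.mpr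
      ((inf_le_left : Z0 ≤ _).trans (bWE_le F)))).trans (centralizer_le_normalizer _))) hu
  have hzv : v * z = z * v := bW_comm F (bZ_le F hz) v (bWE_le F hv.1)
  have hzf : f * z = z * f := hz.2 f hf
  rw [show ⁅z * v, f⁆ = v * (f * v⁻¹ * f⁻¹) by
    rw [commutatorElement_def, ← hzv]
    calc v * z * f * (v * z)⁻¹ * f⁻¹ = v * (z * f) * z⁻¹ * v⁻¹ * f⁻¹ := by group
      _ = v * (f * z) * z⁻¹ * v⁻¹ * f⁻¹ := by rw [hzf]
      _ = _ := by group]
  exact mul_mem hv ((mem_normalizer_iff.mp (hn hf) _).mp (inv_mem hv))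

theorem bWE_le_bWE {T T' : Sylow p G} (hG : centralizer (pCore p G : Set G) ≤ pCore p G)
    (hE : IsBaumannBlock p (T : Subgroup G) E) (hF : IsBaumannBlock p (T' : Subgroup G) F)
    (hEF : E ≤ normalizer (F : Set G)) (hnc : ¬ E ≤ centralizer (bWE p F : Set G)) :
    bWE p E ≤ bWE p F := by
  have hn : E ≤ normalizer (bWE p F : Set G) := hEF.trans (normalizer_le_normalizer_bWE F)
  set A := bWE p F ⊓ bW p E
  have hA : E ≤ normalizer (A : Set G) := LocalStructure.le_normalizer_inf hn (le_normalizer_bW E)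
  have hcA : ∀ e ∈ E, ∀ v ∈ bWE p F, e * v * e⁻¹ * v⁻¹ ∈ A := fun e he v hv => Subgroup.mem_inf.mpr
    ⟨mul_mem ((mem_normalizer_iff.mp (hn he) v).mp hv) (inv_mem hv),
      bVE_le_bW hG hE (comm_mem_bVE hE (bWE_le_bVE hG hF hv).1 he)⟩
  have hU : bZ p E ⊔ A = bW p E := by
    refine (module_irreducible hE le_sup_left (sup_le (bZ_le E) inf_le_right)
      (LocalStructure.le_normalizer_sup (le_normalizer_bZ E) hA)).resolve_left fun e => hnc ?_
    refine le_of_coprime_mem hE.1 fun a ha hap v hv => ?_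
    exact (commute_of_coprime (LocalStructure.isPGroup_pCoreOf p E) hap (bW_le_pCoreOf E (hcA a ha v hv).2)
      (((le_sup_right : A ≤ bZ p E ⊔ A).trans e.le (hcA a ha v hv)).2 a ha)).symm
  have : bWE p E ≤ A := by
    rw [bWE]
    refine commutator_le.mpr fun u hu e he => ?_
    rw [← hU] at hu
    obtain ⟨z, hz, v, hv, rfl⟩ := LocalStructure.exists_mul_of_mem_sup
      (((bZ_le E).trans (bW_comm E)).trans
        ((centralizer_le (SetLike.coe_subset_coe.mpr (inf_le_right : A ≤ _))).trans (centralizer_le_normalizer _))) hu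
    have hzv : v * z = z * v := bW_comm E (bZ_le E hz) v hv.2
    have hze : e * z = z * e := hz.2 e he
    rw [show ⁅z * v, e⁆ = v * (e * v⁻¹ * e⁻¹) by
      rw [commutatorElement_def, ← hzv]
      calc v * z * e * (v * z)⁻¹ * e⁻¹ = v * (z * e) * z⁻¹ * v⁻¹ * e⁻¹ := by group
        _ = v * (e * z) * z⁻¹ * v⁻¹ * e⁻¹ := by rw [hze]
        _ = _ := by group]
    exact mul_mem hv ((mem_normalizer_iff.mp (hA he) _).mp (inv_mem hv))
  exact this.trans inf_le_left

/-- Mutually normalizing blocks with the same `W_E`: one lies in the other. -/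
theorem le_of_bWE_eq (hG : centralizer (pCore p G : Set G) ≤ pCore p G)
    (hbE : ∃ T : Sylow p G, IsBaumannBlock p (T : Subgroup G) E)
    (hbF : ∃ T : Sylow p G, IsBaumannBlock p (T : Subgroup G) F) (hEs : E.IsSubnormal) (hFs : F.IsSubnormal)
    (hFE : F ≤ normalizer (E : Set G)) (hEF : E ≤ normalizer (F : Set G)) (hW : bWE p E = bWE p F) :
    F ≤ E := by
  obtain ⟨T, hE⟩ := hbE
  obtain ⟨T', hF⟩ := hbF
  set W0 := bWE p F
  have hZ : W0 ⊓ centralizer (E : Set G) = W0 ⊓ centralizer (F : Set G) :=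
    le_antisymm (le_inf inf_le_left (inf_centralizer_le hG hE hF hFE hW)) (le_inf inf_le_left (by
      have := inf_centralizer_le hG hF hE hEF hW.symm
      rwa [hW] at this))
  obtain ⟨cE, hcE⟩ := exists_coord hG hE
  obtain ⟨cF, hcF⟩ := exists_coord hG hF
  have hNE : ∀ g ∈ normalizer (E : Set G), g ∈ normalizer (bW p E : Set G) ⊓ normalizer (bZ p E : Set G) :=
    fun g hg => ⟨normalizer_le_normalizer_bW E hg, normalizer_le_normalizer_bZ E hg⟩
  have hNF : ∀ g ∈ normalizer (F : Set G), g ∈ normalizer (bW p F : Set G) ⊓ normalizer (bZ p F : Set G) :=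
    fun g hg => ⟨normalizer_le_normalizer_bW F hg, normalizer_le_normalizer_bZ F hg⟩
  have hiff : ∀ g (hgE : g ∈ normalizer (E : Set G)) (hgF : g ∈ normalizer (F : Set G)),
      cE.aut ⟨g, hNE g hgE⟩ = 1 ↔ cF.aut ⟨g, hNF g hgF⟩ = 1 := by
    intro g hgE hgF
    rw [cE.aut_eq_one_iff, cF.aut_eq_one_iff]
    have hwn : ∀ u ∈ W0, g * u * g⁻¹ * u⁻¹ ∈ W0 := fun u hu =>
      mul_mem ((mem_normalizer_iff.mp (normalizer_le_normalizer_bWE F hgF) u).mp hu) (inv_mem hu)
    constructor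
    · intro h u hu
      refine trivial_of_trivial_bWE hG hF (hNF g hgF).2 (fun v hv => ?_) hu
      have h1 := h v (bWE_le E (hW ▸ hv))
      exact ⟨bWE_le F (hwn v hv), (hZ.le ⟨hwn v hv, h1.2⟩).2⟩
    · intro h u hu
      refine trivial_of_trivial_bWE hG hE (hNE g hgE).2 (fun v hv => ?_) hu
      have hv' : v ∈ W0 := hW ▸ hv
      have h1 := h v (bWE_le F hv')
      exact ⟨bWE_le E (hW ▸ hwn v hv'), (hZ.ge ⟨hwn v hv', h1.2⟩).2⟩
  have hfE : ∀ f : ↥F, (f : G) ∈ normalizer (bW p E : Set G) ⊓ normalizer (bZ p E : Set G) :=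
    fun f => hNE _ (hFE f.2)
  let φ : ↥F →* MulAut cE.M :=
    { toFun := fun f => cE.aut ⟨f, hfE f⟩
      map_one' := map_one cE.aut
      map_mul' := fun a b => map_mul cE.aut ⟨a, hfE a⟩ ⟨b, hfE b⟩ }
  have hker : ∀ f : ↥F, φ f = 1 ↔ cF.ρ f = 1 := fun f => by
    rw [← cF.aut_eq_ρ f ⟨f, hNF _ (le_normalizer f.2)⟩ rfl]
    exact hiff f (hFE f.2) (le_normalizer f.2)
  have hR : pCore p G ≤ normalizer (E : Set G) := pCore_le_normalizer hE
  have hQFR : pCoreOf p F ≤ pCore p G := pCoreOf_le_pCore hFs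
  by_cases hbig : 16 ≤ bA p F
  · have hB := cF.big_of_card (by rw [cF.card_eq]; exact hbig)
    rcases eq_or_central cF hB (D := E ⊓ F) (LocalStructure.le_normalizer_inf hFE le_normalizer) with hall | hcen
    · have hFD : F ≤ E ⊓ F := le_of_le_sup_isPGroup hF.1 (LocalStructure.isPGroup_pCore p)
        (LocalStructure.le_normalizer_inf hR (pCore_le_normalizer hF)) fun f hf =>
          sup_le_sup_left hQFR _ (mem_sup_of_map cF hcF (e := ⟨f, hf⟩) (hall ▸ ⟨_, rfl⟩))
      exact hFD.trans inf_le_left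
    exfalso
    have hmemI : ∀ e ∈ E, ∀ f ∈ F, e * f * e⁻¹ * f⁻¹ ∈ E ⊓ F := fun e he f hf => by
      refine Subgroup.mem_inf.mpr ⟨?_, mul_mem ((mem_normalizer_iff.mp (hEF he) f).mp hf) (inv_mem hf)⟩
      have := mul_mem he ((mem_normalizer_iff.mp (hFE hf) e⁻¹).mp (inv_mem he))
      simpa [mul_assoc] using this
    have hcom : ∀ f : ↥F, φ f ∈ centralizer (cE.ρ.range : Set (MulAut cE.M)) := by
      rintro f _ ⟨e, rfl⟩
      have hQ := comm_mem_of_central cF hB.1 hcF (le_normalizer_bZ F) (hNF _ (hEF e.2))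
        (fun a => ⟨⟨_, (hmemI e e.2 a a.2).2⟩, rfl, hcen (mem_map_of_mem _ (hmemI e e.2 a a.2))⟩) f
      have hF' : (e : G) * f * (e : G)⁻¹ * (f : G)⁻¹ ∈ F := (hmemI e e.2 f f.2).2
      have h1 : φ ⟨_, hF'⟩ = 1 := (hker _).mpr ((hcF _).mpr hQ)
      have h2 : φ ⟨_, hF'⟩ = cE.ρ e * φ f * (cE.ρ e)⁻¹ * (φ f)⁻¹ := by
        rw [← cE.aut_eq_ρ e ⟨e, hNE _ (le_normalizer e.2)⟩ rfl, ← map_inv φ]
        show cE.aut _ = _ * cE.aut _ * _ * cE.aut _
        rw [← map_inv cE.aut, ← map_mul, ← map_mul, ← map_mul]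
        exact congrArg cE.aut (Subtype.ext rfl)
      rw [h2, mul_inv_eq_one, mul_inv_eq_iff_eq_mul] at h1
      exact h1
    refine hB.2.1 (le_bot_iff.mp (hB.1 ▸ commutator_le.mpr ?_))
    rintro _ ⟨a, rfl⟩ _ ⟨b, rfl⟩
    rw [← map_commutatorElement, mem_bot, ← hker, map_commutatorElement,
      commutatorElement_eq_one_iff_mul_comm]
    exact cE.commutant _ (hcom a) _ (hcom b)
  push Not at hbig
  have hbA : bA p E = bA p F := by
    rw [← relIndex_bWE hG hE, ← relIndex_bWE hG hF, hW, hZ]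
  have hsE := cE.small_cases (by rw [cE.card_eq]; exact (show bA p E < 16 by omega))
  have hsF := cF.small_cases (by rw [cF.card_eq]; exact hbig)
  have hmem : ∀ f : ↥F, φ f ∈ cE.ρ.range := by
    intro f
    rcases hsF with ⟨hp, hcy⟩ | ⟨hp, hq⟩
    · obtain ⟨-, hcyE⟩ := hsE.resolve_right fun h => by omega
      refine hcyE.2.2 _ ?_
      rw [← map_pow, hker, map_pow]
      have := pow_card_eq_one' (x := (⟨cF.ρ f, f, rfl⟩ : ↥cF.ρ.range))
      rw [hcy.2.1] at this
      simpa using congrArg Subtype.val this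
    · obtain ⟨-, hqE⟩ := hsE.resolve_left fun h => by omega
      have h4 : ∀ g : ↥F, φ g ^ 4 = 1 := fun g => by
        rw [← map_pow, hker, map_pow]; exact hq.2.1 _ ⟨g, rfl⟩
      by_cases h2 : φ f ^ 2 = 1
      · have h2' : cF.ρ f ^ 2 = 1 := by rw [← map_pow, ← hker, map_pow]; exact h2
        rcases hq.2.2.1 _ ⟨f, rfl⟩ h2' with h1 | ⟨w, ⟨e, rfl⟩, hw, hw1⟩
        · rw [(hker f).mpr h1]; exact one_mem _
        · have he : φ e ∈ cE.ρ.range := hqE.2.2.2.2.1 _ (h4 e) fun h => hw1 (by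
            rw [← map_pow, ← hker, map_pow]; exact h)
          have : φ (f * (e ^ 2)⁻¹) = 1 := (hker _).mpr (by rw [map_mul, map_inv, map_pow, hw, mul_inv_cancel])
          rw [map_mul, map_inv, map_pow, mul_inv_eq_one] at this
          rw [this]
          exact pow_mem he 2
      · exact hqE.2.2.2.2.1 _ (h4 f) h2
  set X := E ⊔ F
  have hXE : X ≤ normalizer (E : Set G) := sup_le le_normalizer hFE
  have hXF : X ≤ normalizer (F : Set G) := sup_le hEF le_normalizer
  set K : Subgroup G := X ⊓ (cE.aut.ker).map (Subgroup.subtype _)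
  have hKK : ∀ g (hg : g ∈ K), cE.aut ⟨g, hNE g (hXE hg.1)⟩ = 1 := by
    rintro g ⟨_, h', hk, e⟩
    rw [← hk]
    congr 1
    exact Subtype.ext e.symm
  have hKp : IsPGroup p K := by
    refine LocalStructure.isPGroup_of_forall_coprime fun x hx hxp => ?_
    have hxE := hXE hx.1
    have hxF := hXF hx.1
    have h1E : ∀ u ∈ bW p E, x * u * x⁻¹ * u⁻¹ ∈ bZ p E := (cE.aut_eq_one_iff _).mp (hKK x hx)
    have hX0 : X ≤ centralizer ((W0 ⊓ centralizer (E : Set G) : Subgroup G) : Set G) := by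
      refine sup_le (le_centralizer_iff.mp inf_le_right) ?_
      rw [hZ]
      exact le_centralizer_iff.mp inf_le_right
    have hxW : ∀ u ∈ W0, x * u = u * x := fun u hu => by
      have hm : x * u * x⁻¹ * u⁻¹ ∈ W0 ⊓ centralizer (E : Set G) := Subgroup.mem_inf.mpr
        ⟨mul_mem ((mem_normalizer_iff.mp (normalizer_le_normalizer_bWE F hxF) u).mp hu) (inv_mem hu),
          (h1E u (bWE_le E (hW ▸ hu))).2⟩
      exact commute_of_coprime (LocalStructure.isPGroup_pCoreOf p F) hxp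
        (bW_le_pCoreOf F (bWE_le F hm.1)) (hX0 hx.1 _ hm).symm
    have hcW : x ∈ centralizer (W0 : Set G) := fun u hu => (hxW u hu).symm
    have hxcE : x ∈ centralizer (E : Set G) := centralizes_of_trivial hG hE hxE hxp (hW ▸ hcW)
      fun he q hq => trivial_on_pCoreOf_of_small hG hE he (show bA p E < 16 by omega) hxE (hW ▸ hcW) hq
    have hxcF : x ∈ centralizer (F : Set G) := centralizes_of_trivial hG hF hxF hxp hcW
      fun he q hq => trivial_on_pCoreOf_of_small hG hF he hbig hxF hcW hq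
    set P := pCoreOf p E ⊔ pCoreOf p F
    have hPn : ∀ g ∈ X, g ∈ normalizer (P : Set G) := fun g hg => LocalStructure.le_normalizer_sup
      (hXE.trans (LocalStructure.normalizer_le_normalizer_pCoreOf E))
      (hXF.trans (LocalStructure.normalizer_le_normalizer_pCoreOf F)) hg
    let K2 : Subgroup G :=
      { carrier := {y | y ∈ X ∧ ∀ r ∈ pCore p G, y * r * y⁻¹ * r⁻¹ ∈ P}
        one_mem' := ⟨one_mem X, fun r _ => by simp⟩
        mul_mem' := fun {a b} ha hb => ⟨mul_mem ha.1 hb.1, fun r hr => by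
          have h1 := (mem_normalizer_iff.mp (hPn a ha.1) _).mp (hb.2 r hr)
          have h2 := mul_mem h1 (ha.2 r hr)
          rwa [show a * (b * r * b⁻¹ * r⁻¹) * a⁻¹ * (a * r * a⁻¹ * r⁻¹) = a * b * r * (a * b)⁻¹ * r⁻¹ by group] at h2⟩
        inv_mem' := fun {a} ha => ⟨inv_mem ha.1, fun r hr => by
          have h1 := (mem_normalizer_iff.mp (hPn _ (inv_mem ha.1)) _).mp (inv_mem (ha.2 r hr))
          rwa [show a⁻¹ * (a * r * a⁻¹ * r⁻¹)⁻¹ * a⁻¹⁻¹ = a⁻¹ * r * a⁻¹⁻¹ * r⁻¹ by group] at h1⟩ }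
    have hXK2 : X ≤ K2 := sup_le
      (fun e he => ⟨mem_sup_left he, fun r hr => mem_sup_left (comm_mem_pCoreOf hE hr he).2⟩)
      (fun f hf => ⟨mem_sup_right hf, fun r hr => mem_sup_right (comm_mem_pCoreOf hF hr hf).2⟩)
    have hPc : P ≤ centralizer ({x} : Set G) := sup_le
      (fun a ha y hy => by rw [Set.mem_singleton_iff] at hy; rw [hy]; exact (hxcE a (LocalStructure.pCoreOf_le p E ha)).symm)
      (fun a ha y hy => by rw [Set.mem_singleton_iff] at hy; rw [hy]; exact (hxcF a (LocalStructure.pCoreOf_le p F ha)).symm)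
    have hxR : x ∈ centralizer (pCore p G : Set G) := fun r hr => by
      have hm := (hXK2 hx.1).2 r hr
      exact (commute_of_coprime (LocalStructure.isPGroup_pCore p) hxp
        (sup_le (pCoreOf_le_pCore hEs) hQFR hm) (hPc hm x rfl)).symm
    exact LocalStructure.eq_one_of_isPGroup (LocalStructure.isPGroup_pCore p) (hG hxR) hxp
  refine le_of_le_sup_isPGroup hF.1 hKp (inf_le_left.trans hXE) fun f hf => ?_
  obtain ⟨e, he⟩ := hmem ⟨f, hf⟩
  have hk : (e : G)⁻¹ * f ∈ K := by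
    refine Subgroup.mem_inf.mpr ⟨mul_mem (inv_mem (mem_sup_left e.2)) (mem_sup_right hf),
      ⟨⟨e, hNE _ (le_normalizer e.2)⟩⁻¹ * ⟨f, hfE ⟨f, hf⟩⟩, ?_, rfl⟩⟩
    rw [SetLike.mem_coe, MonoidHom.mem_ker, map_mul, map_inv, cE.aut_eq_ρ e _ rfl, he]
    exact inv_mul_cancel _
  have := mul_mem (mem_sup_left e.2 : (e : G) ∈ E ⊔ K) (mem_sup_right hk)
  rwa [mul_inv_cancel_left] at this

/-- Two subnormal blocks are equal or commute. -/
theorem eq_or_commute (hG : centralizer (pCore p G : Set G) ≤ pCore p G) :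
    ∀ {E F : Subgroup G}, (∃ T : Sylow p G, IsBaumannBlock p (T : Subgroup G) E) →
      (∃ T : Sylow p G, IsBaumannBlock p (T : Subgroup G) F) → E.IsSubnormal → F.IsSubnormal →
      E = F ∨ ⁅E, F⁆ = ⊥ := by
  suffices h : ∀ n, ∀ {E F : Subgroup G}, Nat.card ↥(E ⊔ F) = n →
      (∃ T : Sylow p G, IsBaumannBlock p (T : Subgroup G) E) →
      (∃ T : Sylow p G, IsBaumannBlock p (T : Subgroup G) F) → E.IsSubnormal → F.IsSubnormal →
      E = F ∨ ⁅E, F⁆ = ⊥ by
    intro E F hE hF sE sF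
    exact h _ rfl hE hF sE sF
  intro n
  induction n using Nat.strong_induction_on with
  | _ n ih =>
    intro E F hn hbE hbF hEs hFs
    have conj_comm : ∀ {A B : Subgroup G}, Nat.card ↥(A ⊔ B) = n →
        (∃ T : Sylow p G, IsBaumannBlock p (T : Subgroup G) A) → A.IsSubnormal →
        ∀ x ∈ B, ∀ y ∈ B, cj x A = cj y A ∨ ⁅cj x A, cj y A⁆ = ⊥ := by
      intro A B hn hbA hAs x hx y hy
      set X := A ⊔ B
      rcases (hAs.subgroupOf (K := X)).lt_normal with h | ⟨K, hK, hAK, hKlt⟩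
      · left
        have hXA : X ≤ A := subgroupOf_eq_top.mp h
        have hid : ∀ z ∈ B, cj z A = A := fun z hz =>
          LocalStructure.map_conj_eq_self (le_normalizer (hXA (mem_sup_right hz)))
        rw [hid x hx, hid y hy]
      set K' := K.map X.subtype
      have hsub : ∀ z ∈ B, cj z A ≤ K' := by
        rintro z hz _ ⟨a, ha, rfl⟩
        exact ⟨⟨z, mem_sup_right hz⟩ * ⟨a, mem_sup_left ha⟩ * ⟨z, mem_sup_right hz⟩⁻¹,
          hK.conj_mem _ (hAK ha) _, rfl⟩
      have hlt : Nat.card ↥(cj x A ⊔ cj y A) < n := by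
        refine (Subgroup.card_le_of_le (sup_le (hsub x hx) (hsub y hy))).trans_lt ?_
        rw [← hn]
        show Nat.card ↥(K.map X.subtype) < Nat.card ↥X
        rw [card_map_of_injective X.subtype_injective]
        refine lt_of_le_of_ne (Nat.le_of_dvd Nat.card_pos (Subgroup.card_subgroup_dvd_card K)) fun e => hKlt.ne ?_
        exact Subgroup.eq_top_of_card_eq K e
      exact ih _ hlt rfl (block_conj hbA x) (block_conj hbA y)
        (hAs.map (MulAut.conj x).surjective) (hAs.map (MulAut.conj y).surjective)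
    have hP : Pair p E F := ⟨hbE, hbF, hEs, hFs, conj_comm hn hbE hEs,
      conj_comm (by rw [sup_comm]; exact hn) hbF hFs⟩
    have hFE := hP.normalizes hG
    have hEF := hP.symm.normalizes hG
    obtain ⟨T, hE⟩ := hbE
    obtain ⟨T', hF⟩ := hbF
    by_cases h1 : E ≤ centralizer (bWE p F : Set G)
    · exact Or.inr (by rw [commutator_comm]; exact commutator_eq_bot_of_centralizes hG hF hFs hE hEF h1)
    by_cases h2 : F ≤ centralizer (bWE p E : Set G)
    · exact Or.inr (commutator_eq_bot_of_centralizes hG hE hEs hF hFE h2)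
    have hW := le_antisymm (bWE_le_bWE hG hE hF hEF h1) (bWE_le_bWE hG hF hE hFE h2)
    exact Or.inl (le_antisymm (le_of_bWE_eq hG ⟨T', hF⟩ ⟨T, hE⟩ hFs hEs hEF hFE hW.symm)
      (le_of_bWE_eq hG ⟨T, hE⟩ ⟨T', hF⟩ hEs hFs hFE hEF hW))

end Cfsg.Agent.BaumannBlock
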