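import Cfsg.Agent.Lib.BaumannBlock.Orbit

/-!
Of two subnormal blocks whose conjugates commute pairwise, each normalizes the other: the remaining case
of two orbits of length two.
-/

set_option autoImplicit false

namespace Cfsg.Agent.BaumannBlock

open Subgroup
open scoped commutatorElement

variable {G : Type*} [Group G] [Finite G] {p : ℕ} [Fact p.Prime] {E F : Subgroup G}

set_option maxHeartbeats 800000 in
/-- Two subnormal blocks whose conjugates commute pairwise normalize each other. -/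
theorem Pair.normalizes (hG : centralizer (pCore p G : Set G) ≤ pCore p G) (h : Pair p E F) :
    F ≤ normalizer (E : Set G) := by
  obtain ⟨T, hE⟩ := h.hE
  obtain ⟨T', hF⟩ := h.hF
  by_contra hno
  obtain ⟨f, hf, hfp, hfN⟩ : ∃ f ∈ F, (orderOf f).Coprime p ∧ f ∉ normalizer (E : Set G) := by
    by_contra hall
    push Not at hall
    exact hno (le_of_coprime_mem hF.1 fun x hx hxp => hall x hx hxp)
  have hne : cj f E ≠ E := fun e => hfN (cj_normal_mem e)
  have ha4 := four_le_bA hG hE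
  have hsq := h.sq_le_of_moves hG hf hne
  have hup := (relIndex_sup_le hG hE hF).1
  by_cases hEF : E ≤ normalizer (F : Set G)
  · have h2 := h.sq_le_of_normalizes hG hf hne hEF
    exact hno (h.contra_big_normalizes hG hEF (le_trans (Nat.mul_le_mul ha4 ha4) h2))
  obtain ⟨e0, he0, he0N⟩ := SetLike.not_le_iff_exists.mp hEF
  have hne0 : cj e0 F ≠ F := fun e => he0N (cj_normal_mem e)
  have hsq' := h.symm.sq_le_of_moves hG he0 hne0
  rw [sup_comm (bVZ p F), sup_comm (bVE p F)] at hsq'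
  have hFE : bA p F ≤ bA p E := Nat.le_of_mul_le_mul_right (hsq'.trans hup)
    (lt_of_lt_of_le (by norm_num) (four_le_bA hG hF))
  have hEF' : bA p E ≤ bA p F := Nat.le_of_mul_le_mul_left (hsq.trans hup) (by omega)
  -- the orbit has length two
  have htwo : ∀ y ∈ F, cj y E = E ∨ cj y E = cj f E := by
    intro y hy
    by_contra hc
    push Not at hc
    have h3 := (h.lower_three hG hf hne hy hc.1 hc.2).trans hup
    have h4 := Nat.le_of_mul_le_mul_left h3 (by omega)
    have h5 : bA p E * bA p E ≤ bA p E * 1 := by rw [mul_one]; exact h4.trans hFE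
    have := Nat.le_of_mul_le_mul_left h5 (by omega)
    omega
  set D := F ⊓ normalizer (E : Set G)
  have hsame : ∀ a ∈ F, ∀ b ∈ F, a ∉ normalizer (E : Set G) → b ∉ normalizer (E : Set G) →
      a⁻¹ * b ∈ normalizer (E : Set G) := by
    intro a ha b hb hna hnb
    have e1 := (htwo a ha).resolve_left fun e => hna (cj_normal_mem e)
    have e2 := (htwo b hb).resolve_left fun e => hnb (cj_normal_mem e)
    refine cj_normal_mem ?_
    rw [cj, LocalStructure.map_conj_mul]
    show cj a⁻¹ (cj b E) = E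
    rw [e2, ← e1, cj, cj, ← LocalStructure.map_conj_mul, inv_mul_cancel, LocalStructure.map_conj_one]
  have hiff : ∀ a ∈ F, ∀ b ∈ F,
      (a * b ∈ normalizer (E : Set G) ↔ (a ∈ normalizer (E : Set G) ↔ b ∈ normalizer (E : Set G))) := by
    intro a ha b hb
    by_cases hna : a ∈ normalizer (E : Set G)
    · rw [mul_mem_cancel_left hna]
      exact ⟨fun h => iff_of_true hna h, fun h => h.mp hna⟩
    by_cases hnb : b ∈ normalizer (E : Set G)
    · rw [mul_mem_cancel_right hnb]
      exact ⟨fun h => absurd h hna, fun h => h.mpr hnb⟩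
    refine ⟨fun _ => iff_of_false hna hnb, fun _ => ?_⟩
    have := hsame a⁻¹ (inv_mem ha) b hb (fun h => hna (by simpa using inv_mem h)) hnb
    rwa [inv_inv] at this
  have hff : f * f ∈ normalizer (E : Set G) := (hiff f hf f hf).mpr Iff.rfl
  have hp2 : p ≠ 2 := by
    intro hp
    refine hfN (LocalStructure.mem_of_pow_mem (k := 1) hfp ?_)
    rw [pow_one, hp, pow_two]
    exact hff
  obtain ⟨c, hc⟩ := exists_coord hG hF
  have hQ : pCoreOf p F ≤ normalizer (E : Set G) :=
    (pCoreOf_le_pCore h.sF).trans (pCore_le_normalizer hE)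
  rcases c.shape with ⟨hB, -⟩ | ⟨hp, -⟩ | ⟨hp3, hq⟩
  · refine hno fun x hx => ?_
    have hFF : ⁅F, F⁆ ≤ normalizer (E : Set G) := commutator_le.mpr fun a ha b hb => by
      rw [commutatorElement_def, hiff _ (mul_mem (mul_mem ha hb) (inv_mem ha)) _ (inv_mem hb),
        hiff _ (mul_mem ha hb) _ (inv_mem ha), hiff a ha b hb, inv_mem_iff, inv_mem_iff]
      by_cases ha' : a ∈ normalizer (E : Set G) <;> by_cases hb' : b ∈ normalizer (E : Set G) <;> simp [ha', hb']
    have hmap : ⁅c.ρ.range, c.ρ.range⁆ ≤ ((⁅F, F⁆ : Subgroup G).subgroupOf F).map c.ρ := by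
      refine commutator_le.mpr ?_
      rintro _ ⟨a, rfl⟩ _ ⟨b, rfl⟩
      exact ⟨⁅a, b⁆, commutator_mem_commutator a.2 b.2, map_commutatorElement _ _ _⟩
    exact (sup_le hFF hQ) (mem_sup_of_map c hc (e := ⟨x, hx⟩) (hmap (hB.1.ge ⟨_, rfl⟩)))
  · exact hp2 hp
  have hM : bA p F = 9 := c.card_eq.symm.trans hq.1
  have ha9 : bA p E = 9 := le_antisymm (hM ▸ hEF') (hM ▸ hFE)
  have heq := (relIndex_sup_le hG hE hF).2 (by rw [hM, ha9]; rw [ha9] at hsq; exact hsq)
  set g := f * f with hg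
  have hgF : g ∈ F := mul_mem hf hf
  obtain ⟨hlow, hKle⟩ := h.lower_two hG hf hne
  -- `g` centralizes `V ∩ E`
  have hgp : (orderOf g).Coprime p := by
    rw [hg, ← pow_two]
    exact Nat.Coprime.coprime_dvd_left (orderOf_pow_dvd 2) hfp
  have hgE : ∀ v ∈ bVE p E, g * v = v * g := by
    intro v hv
    have hm : g * v * g⁻¹ * v⁻¹ ∈ bVE p E := mul_mem (Subgroup.mem_inf.mpr
      ⟨(mem_normalizer_iff.mp (by rw [omega_normalizer_eq_top]; trivial) v).mp hv.1,
        (mem_normalizer_iff.mp hff v).mp hv.2⟩) (inv_mem hv)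
    have hz := heq (Subgroup.mem_inf.mpr ⟨mem_sup_left hm, comm_mem_bVE hF hv.1 hgF⟩)
    exact commute_of_coprime ((LocalStructure.isPGroup_pCore p).to_le (omegaOneCenter_le _)) hgp hm.1
      (hz.2 g hgF)
  have hgE' : ∀ v ∈ bVE p (cj f E), g * v = v * g := by
    intro v hv
    rw [← map_bVE] at hv
    obtain ⟨w, hw, rfl⟩ := hv
    simp only [MulEquiv.coe_toMonoidHom, MulAut.conj_apply]
    have hc1 : Commute g f := by rw [hg]; exact ((Commute.refl f).mul_left (Commute.refl f))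
    exact ((hc1.mul_right (hgE w hw)).mul_right hc1.inv_right).eq
  have hK : bVE p E ⊔ bVE p (cj f E) ⊔ (bVZ p E ⊔ bVZ p F) ≤ centralizer ({g} : Set G) := by
    refine sup_le (sup_le (fun v hv y hy => ?_) (fun v hv y hy => ?_)) (sup_le (fun v hv y hy => ?_) fun v hv y hy => ?_)
    all_goals rw [Set.mem_singleton_iff] at hy; rw [hy]
    · exact hgE v hv
    · exact hgE' v hv
    · exact hgE v hv.1
    · exact hv.2 g hgF
  have hU : bVE p E ⊔ bVE p F ≤ bVE p E ⊔ bVE p (cj f E) ⊔ (bVZ p E ⊔ bVZ p F) := by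
    have h1 := relIndex_mul_relIndex _ _ _ (le_sup_right :
      bVZ p E ⊔ bVZ p F ≤ bVE p E ⊔ bVE p (cj f E) ⊔ (bVZ p E ⊔ bVZ p F)) hKle
    refine relIndex_eq_one.mp (le_antisymm ?_ (relIndex_pos _ _))
    rw [hM, ha9] at hup
    rw [ha9] at hlow
    by_contra hlt
    push Not at hlt
    nlinarith
  have hgW : g ∈ centralizer (bWE p F : Set G) := fun v hv =>
    ((hK (hU (mem_sup_right (bWE_le_bVE hG hF hv)))) g rfl).symm
  have hgQ : c.ρ ⟨g, hgF⟩ = 1 := (hc _).mpr (inf_centralizer_bWE_le hG hF ⟨hgF, hgW⟩)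
  have hf2 : c.ρ ⟨f, hf⟩ ^ 2 = 1 := by rw [← map_pow, ← hgQ]; exact congrArg c.ρ (Subtype.ext (pow_two f))
  rcases hq.2.2.1 _ ⟨_, rfl⟩ hf2 with h1 | ⟨w, ⟨e, rfl⟩, hw, -⟩
  · exact hfN (hQ ((hc _).mp h1))
  · have hmem : c.ρ (e ^ 2 * (⟨f, hf⟩ : ↥F)⁻¹) = 1 := by rw [map_mul, map_inv, map_pow, hw, mul_inv_cancel]
    have h2 := hQ ((hc _).mp hmem)
    have he2 : (e : G) * e ∈ normalizer (E : Set G) := (hiff e e.2 e e.2).mpr Iff.rfl
    refine hfN ?_
    have := mul_mem (inv_mem h2) he2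
    simpa [pow_two, mul_assoc] using this

end Cfsg.Agent.BaumannBlock
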