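import Cfsg.Agent.Lib.BaumannBlock.Action
import Cfsg.Agent.Lib.Replacement.Basic

/-!
The trace `Ω₁Z(O_p(G)) ∩ E` of a block and the indices of centralizers in products of such traces.
-/

set_option autoImplicit false

namespace Cfsg.Agent.BaumannBlock

open Subgroup
open scoped commutatorElement

variable {G : Type*} [Group G] {p : ℕ}

/-- `V ∩ E` for `V = Ω₁Z(O_p(G))`. -/
abbrev bVE (p : ℕ) (E : Subgroup G) : Subgroup G := omegaOneCenter p (pCore p G) ⊓ E

/-- `C_{V ∩ E}(E)`. -/
abbrev bVZ (p : ℕ) (E : Subgroup G) : Subgroup G := bVE p E ⊓ centralizer (E : Set G)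

/-- `|W / Z|`. -/
noncomputable abbrev bA (p : ℕ) (E : Subgroup G) : ℕ := (bZ p E).relIndex (bW p E)

theorem omega_le_normalizer_of_le {A B : Subgroup G} (hA : A ≤ omegaOneCenter p (pCore p G))
    (hB : B ≤ omegaOneCenter p (pCore p G)) : A ≤ normalizer (B : Set G) :=
  (hA.trans (omegaOneCenter_abelian _)).trans
    ((centralizer_le (SetLike.coe_subset_coe.mpr hB)).trans (centralizer_le_normalizer _))

theorem omega_normalizer_eq_top (p : ℕ) : normalizer (omegaOneCenter p (pCore p G) : Set G) = ⊤ := by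
  have := LocalStructure.pCore_normal p G
  have := omegaOneCenter_normal (p := p) (pCore p G)
  exact normalizer_eq_top _

theorem le_normalizer_bVE (E : Subgroup G) : E ≤ normalizer (bVE p E : Set G) :=
  LocalStructure.le_normalizer_inf (by rw [omega_normalizer_eq_top]; exact le_top) le_normalizer

theorem map_conj_omega (x : G) :
    (omegaOneCenter p (pCore p G)).map (MulAut.conj x).toMonoidHom = omegaOneCenter p (pCore p G) :=
  LocalStructure.map_conj_eq_self (by rw [omega_normalizer_eq_top]; trivial)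

theorem map_bVE (x : G) (E : Subgroup G) :
    (bVE p E).map (MulAut.conj x).toMonoidHom = bVE p (E.map (MulAut.conj x).toMonoidHom) := by
  rw [bVE, Subgroup.map_inf _ _ _ (MulAut.conj x).injective, map_conj_omega]

theorem map_bVZ (x : G) (E : Subgroup G) :
    (bVZ p E).map (MulAut.conj x).toMonoidHom = bVZ p (E.map (MulAut.conj x).toMonoidHom) := by
  rw [bVZ, Subgroup.map_inf _ _ _ (MulAut.conj x).injective, map_bVE, map_centralizer_equiv]

theorem bA_map (e : G ≃* G) (E : Subgroup G) : bA p (E.map e.toMonoidHom) = bA p E := by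
  rw [bA, ← map_bZ, ← map_bW, relIndex_map_map_of_injective _ _ e.injective]

theorem relIndex_pos [Finite G] (A B : Subgroup G) : 0 < A.relIndex B :=
  Nat.pos_of_ne_zero Subgroup.index_ne_zero_of_finite

theorem le_of_relIndex_mul_eq [Finite G] {A I B : Subgroup G} (hAI : A ≤ I) (hIB : I ≤ B)
    (h : A.relIndex B ≤ I.relIndex B) : I ≤ A := by
  have h1 := relIndex_mul_relIndex A I B hAI hIB
  refine relIndex_eq_one.mp (le_antisymm ?_ (relIndex_pos _ _))
  have hpos : 0 < I.relIndex B := relIndex_pos _ _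
  by_contra hlt
  push Not at hlt
  nlinarith

variable [Finite G] [Fact p.Prime] {T T' : Sylow p G} {E F : Subgroup G}

theorem bVE_le_bW (hG : centralizer (pCore p G : Set G) ≤ pCore p G)
    (hE : IsBaumannBlock p (T : Subgroup G) E) : bVE p E ≤ bW p E := (omega_eq_sup hG hE).1

theorem bWE_le_bVE (hG : centralizer (pCore p G : Set G) ≤ pCore p G)
    (hE : IsBaumannBlock p (T : Subgroup G) E) : bWE p E ≤ bVE p E :=
  le_inf (bWE_le_omega hG hE) ((bWE_le E).trans (bW_le E))

theorem four_le_bA (hG : centralizer (pCore p G : Set G) ≤ pCore p G)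
    (hE : IsBaumannBlock p (T : Subgroup G) E) : 4 ≤ bA p E := by
  obtain ⟨c, -⟩ := exists_coord hG hE
  exact c.four_le_card.trans c.card_eq.le

theorem relIndex_eq_bA {N : Subgroup G} (hN : N ≤ bW p E) (h : bZ p E ⊔ N = bW p E) :
    (N ⊓ centralizer (E : Set G)).relIndex N = bA p E := by
  have h1 : N ≤ normalizer (bZ p E : Set G) :=
    (hN.trans (bW_comm E)).trans ((centralizer_le (SetLike.coe_subset_coe.mpr (bZ_le E))).trans (centralizer_le_normalizer _))
  have h2 : bA p E = (bZ p E).relIndex N := by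
    unfold bA
    conv_lhs => arg 2; rw [← h]
    exact Replacement.relIndex_sup_of_le_normalizer h1
  rw [h2, ← inf_relIndex_right (bZ p E) N]
  congr 1
  exact le_antisymm (le_inf (le_inf (inf_le_left.trans hN) inf_le_right) inf_le_left)
    (le_inf inf_le_right (inf_le_left.trans inf_le_right))

theorem relIndex_bVE (hG : centralizer (pCore p G : Set G) ≤ pCore p G)
    (hE : IsBaumannBlock p (T : Subgroup G) E) : (bVZ p E).relIndex (bVE p E) = bA p E :=
  relIndex_eq_bA (bVE_le_bW hG hE) (omega_eq_sup hG hE).2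

theorem relIndex_bWE (hG : centralizer (pCore p G : Set G) ≤ pCore p G)
    (hE : IsBaumannBlock p (T : Subgroup G) E) :
    (bWE p E ⊓ centralizer (E : Set G)).relIndex (bWE p E) = bA p E :=
  relIndex_eq_bA (bWE_le E) (bW_eq_sup hG hE)

/-- A subgroup of `V` centralizing `E` meets `V ∩ E` in index at least `|W / Z|`. -/
theorem bA_le_relIndex (hG : centralizer (pCore p G : Set G) ≤ pCore p G)
    (hE : IsBaumannBlock p (T : Subgroup G) E) {D : Subgroup G} (hD : D ≤ omegaOneCenter p (pCore p G))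
    (hc : D ≤ centralizer (E : Set G)) : bA p E ≤ D.relIndex (D ⊔ bVE p E) := by
  rw [Replacement.relIndex_sup_of_le_normalizer (omega_le_normalizer_of_le inf_le_left hD),
    ← inf_relIndex_right D (bVE p E), ← relIndex_bVE hG hE]
  exact Nat.le_of_dvd (relIndex_pos _ _)
    (relIndex_dvd_of_le_left _ (le_inf inf_le_right (inf_le_left.trans hc)))

/-- `[V, F] ≤ V ∩ F`. -/
theorem comm_mem_bVE (hF : IsBaumannBlock p (T' : Subgroup G) F) {v f : G}
    (hv : v ∈ omegaOneCenter p (pCore p G)) (hf : f ∈ F) : f * v * f⁻¹ * v⁻¹ ∈ bVE p F :=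
  comm_mem hF.1 hF.2.1 ((LocalStructure.isPGroup_pCore p).to_le (omegaOneCenter_le _))
    (by rw [omega_normalizer_eq_top]; exact le_top) (by rw [omega_normalizer_eq_top]; exact le_top) f hf v hv

/-- `[(V ∩ E)(V ∩ F) : C_{V ∩ E}(E) C_{V ∩ F}(F)] ≤ |W_E / Z_E| |W_F / Z_F|`, with equality only when
`V ∩ F` meets `(V ∩ E) C_{V ∩ F}(F)` in `C_{V ∩ F}(F)`. -/
theorem relIndex_sup_le (hG : centralizer (pCore p G : Set G) ≤ pCore p G)
    (hE : IsBaumannBlock p (T : Subgroup G) E) (hF : IsBaumannBlock p (T' : Subgroup G) F) :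
    (bVZ p E ⊔ bVZ p F).relIndex (bVE p E ⊔ bVE p F) ≤ bA p E * bA p F ∧
      (bA p E * bA p F ≤ (bVZ p E ⊔ bVZ p F).relIndex (bVE p E ⊔ bVE p F) →
        (bVE p E ⊔ bVZ p F) ⊓ bVE p F ≤ bVZ p F) := by
  set V := omegaOneCenter p (pCore p G)
  set D := bVZ p E ⊔ bVZ p F with hD
  set M := bVE p E ⊔ bVZ p F with hM
  have hDV : D ≤ V := sup_le (inf_le_left.trans inf_le_left) (inf_le_left.trans inf_le_left)
  have hMV : M ≤ V := sup_le inf_le_left (inf_le_left.trans inf_le_left)
  have hDM : D ≤ M := sup_le (inf_le_left.trans le_sup_left) le_sup_right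
  have hMU : M ≤ bVE p E ⊔ bVE p F := sup_le_sup_left inf_le_left _
  have e1 : D ⊔ bVE p E = M := le_antisymm (sup_le hDM le_sup_left) (sup_le le_sup_right (le_sup_right.trans le_sup_left))
  have e2 : M ⊔ bVE p F = bVE p E ⊔ bVE p F :=
    le_antisymm (sup_le hMU le_sup_right) (sup_le (le_sup_left.trans le_sup_left) le_sup_right)
  have h1 : D.relIndex M ≤ bA p E := by
    rw [← e1, Replacement.relIndex_sup_of_le_normalizer (omega_le_normalizer_of_le inf_le_left hDV),
      ← relIndex_bVE hG hE]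
    exact Nat.le_of_dvd (relIndex_pos _ _)
      (relIndex_dvd_of_le_left _ le_sup_left)
  have h2 : M.relIndex (bVE p E ⊔ bVE p F) = (M ⊓ bVE p F).relIndex (bVE p F) := by
    conv_lhs => rw [← e2]
    rw [Replacement.relIndex_sup_of_le_normalizer (omega_le_normalizer_of_le inf_le_left hMV),
      inf_relIndex_right]
  have hle : bVZ p F ≤ M ⊓ bVE p F := le_inf le_sup_right inf_le_left
  have h3 : M.relIndex (bVE p E ⊔ bVE p F) ≤ bA p F := by
    rw [h2, ← relIndex_bVE hG hF]
    exact Nat.le_of_dvd (relIndex_pos _ _)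
      (relIndex_dvd_of_le_left _ hle)
  rw [← relIndex_mul_relIndex D M _ hDM hMU]
  refine ⟨Nat.mul_le_mul h1 h3, fun h => le_of_relIndex_mul_eq hle inf_le_right ?_⟩
  rw [relIndex_bVE hG hF, ← h2]
  exact Nat.le_of_mul_le_mul_left (h.trans (Nat.mul_le_mul_right _ h1))
    (lt_of_lt_of_le (by norm_num) (four_le_bA hG hE))

end Cfsg.Agent.BaumannBlock
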