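import Cfsg.Agent.Lib.BaumannBlock.Omega
import Cfsg.Agent.Lib.BaumannBlock.KPrime

/-!
Of two subnormal blocks whose conjugates commute pairwise, each normalizes the other.
-/

set_option autoImplicit false

namespace Cfsg.Agent.BaumannBlock

open Subgroup
open scoped commutatorElement

variable {G : Type*} [Group G] {p : ℕ}

/-- The conjugate of a subgroup. -/
abbrev cj (x : G) (E : Subgroup G) : Subgroup G := E.map (MulAut.conj x).toMonoidHom

/-- Two subnormal blocks whose conjugates under each other commute pairwise. -/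
structure Pair (p : ℕ) (E F : Subgroup G) : Prop where
  hE : ∃ T : Sylow p G, IsBaumannBlock p (T : Subgroup G) E
  hF : ∃ T : Sylow p G, IsBaumannBlock p (T : Subgroup G) F
  sE : E.IsSubnormal
  sF : F.IsSubnormal
  cE : ∀ x ∈ F, ∀ y ∈ F, cj x E = cj y E ∨ ⁅cj x E, cj y E⁆ = ⊥
  cF : ∀ x ∈ E, ∀ y ∈ E, cj x F = cj y F ∨ ⁅cj x F, cj y F⁆ = ⊥

theorem Pair.symm {E F : Subgroup G} (h : Pair p E F) : Pair p F E := ⟨h.hF, h.hE, h.sF, h.sE, h.cF, h.cE⟩

theorem cj_normal_mem {E : Subgroup G} {x : G} (h : cj x E = E) : x ∈ normalizer (E : Set G) :=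
  LocalStructure.mem_normalizer_of_map_conj h

theorem conj_mem_centralizer {E : Subgroup G} {x z : G} (hz : z ∈ centralizer (E : Set G)) (hxz : x * z = z * x) :
    z ∈ centralizer (cj x E : Set G) := by
  rintro _ ⟨e, he, rfl⟩
  simp only [MulEquiv.coe_toMonoidHom, MulAut.conj_apply]
  have h1 : e * z = z * e := hz e he
  calc x * e * x⁻¹ * z = x * e * (x⁻¹ * z) := by group
    _ = x * e * (z * x⁻¹) := by rw [(Commute.inv_left (show Commute x z from hxz)).eq]
    _ = x * (e * z) * x⁻¹ := by group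
    _ = (x * z) * e * x⁻¹ := by rw [h1]; group
    _ = (z * x) * e * x⁻¹ := by rw [hxz]
    _ = z * (x * e * x⁻¹) := by group

section Shape

variable {E : Subgroup G} {U U₀ : Subgroup G} (c : Coord p E U U₀)

/-- A normal subgroup has image everything or a central one. -/
theorem eq_or_central (hbig : BigShape c.ρ.range) {D : Subgroup G} (hn : E ≤ normalizer (D : Set G)) :
    (D.subgroupOf E).map c.ρ = c.ρ.range ∨
      (D.subgroupOf E).map c.ρ ≤ centralizer (c.ρ.range : Set (MulAut c.M)) := by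
  refine hbig.2.2 _ (Subgroup.map_le_range _ _) ?_
  have : Finite (MulAut c.M) := Finite.of_injective _ DFunLike.coe_injective
  rintro _ ⟨e, rfl⟩
  refine LocalStructure.mem_normalizer_of_map_conj_le ?_
  rintro _ ⟨_, ⟨d, hd, rfl⟩, rfl⟩
  refine ⟨e * d * e⁻¹, ?_, by simp⟩
  exact (mem_normalizer_iff.mp (hn e.2) _).mp hd

theorem mem_sup_of_map {K : Subgroup G} {Q : Subgroup G} (hQ : ∀ e, c.ρ e = 1 ↔ (e : G) ∈ Q) {e : ↥E}
    (h : c.ρ e ∈ (K.subgroupOf E).map c.ρ) : (e : G) ∈ K ⊔ Q := by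
  obtain ⟨k, hk, hke⟩ := h
  have : c.ρ (k⁻¹ * e) = 1 := by rw [map_mul, map_inv, hke, inv_mul_cancel]
  have := mul_mem (mem_sup_left hk : (k : G) ∈ K ⊔ Q) (mem_sup_right ((hQ _).mp this))
  simpa using this

/-- An element moving `E` only by elements central in the image centralizes `E` modulo the kernel. -/
theorem comm_mem_of_central (hperf : ⁅c.ρ.range, c.ρ.range⁆ = c.ρ.range) {Q : Subgroup G}
    (hQ : ∀ e, c.ρ e = 1 ↔ (e : G) ∈ Q) (hU₀ : E ≤ normalizer (U₀ : Set G)) {g : G}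
    (hg : g ∈ normalizer (U : Set G) ⊓ normalizer (U₀ : Set G))
    (h : ∀ a : ↥E, ∃ d : ↥E, (d : G) = g * a * g⁻¹ * (a : G)⁻¹ ∧
      c.ρ d ∈ centralizer (c.ρ.range : Set (MulAut c.M))) (a : ↥E) : g * a * g⁻¹ * (a : G)⁻¹ ∈ Q := by
  have he : ∀ a d : ↥E, (d : G) = g * a * g⁻¹ * (a : G)⁻¹ →
      c.ρ d = c.aut ⟨g, hg⟩ * c.ρ a * (c.aut ⟨g, hg⟩)⁻¹ * (c.ρ a)⁻¹ := by
    intro a d hd
    rw [← c.aut_eq_ρ a ⟨a, c.mem_normalizers hU₀ a⟩ rfl, ← c.aut_eq_ρ d ⟨d, c.mem_normalizers hU₀ d⟩ rfl,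
      ← map_inv, ← map_inv, ← map_mul, ← map_mul, ← map_mul]
    exact congrArg c.aut (Subtype.ext (by simpa using hd))
  have hcen : c.aut ⟨g, hg⟩ ∈ centralizer (c.ρ.range : Set (MulAut c.M)) := by
    refine mem_centralizer_of_central hperf ?_
    rintro _ ⟨a, rfl⟩
    obtain ⟨d, hd, hdc⟩ := h a
    rw [← he a d hd]
    exact ⟨hdc, d, rfl⟩
  obtain ⟨d, hd, -⟩ := h a
  rw [← hd, ← hQ, he a d hd, mul_inv_eq_one, mul_inv_eq_iff_eq_mul]
  exact (hcen _ ⟨a, rfl⟩).symm

end Shape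

variable [Finite G] [Fact p.Prime] {E F : Subgroup G}

theorem pCore_le_normalizer {T : Sylow p G} (hE : IsBaumannBlock p (T : Subgroup G) E) :
    pCore p G ≤ normalizer (E : Set G) := by
  have := LocalStructure.pCore_normal p G
  exact le_normalizer_block hE.1 hE.2.1 (LocalStructure.isPGroup_pCore p)
    (by rw [normalizer_eq_top]; exact le_top) (by rw [normalizer_eq_top]; exact le_top)

theorem block_conj {E : Subgroup G} (hE : ∃ T : Sylow p G, IsBaumannBlock p (T : Subgroup G) E) (x : G) :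
    ∃ T : Sylow p G, IsBaumannBlock p (T : Subgroup G) (cj x E) :=
  hE.elim fun _ h => ⟨_, isBaumannBlock_conj h x⟩

variable (hG : centralizer (pCore p G : Set G) ≤ pCore p G) (h : Pair p E F)
include hG h

omit hG [Finite G] [Fact p.Prime] in
theorem Pair.commute {x : G} (hx : x ∈ F) (hne : cj x E ≠ E) : ⁅E, cj x E⁆ = ⊥ := by
  rcases h.cE 1 (one_mem F) x hx with e | e
  · rw [cj, LocalStructure.map_conj_one] at e
    exact absurd e.symm hne
  · rwa [cj, LocalStructure.map_conj_one] at e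

theorem Pair.not_centralizes {x : G} (hx : x ∈ F) (hne : cj x E ≠ E) :
    ¬ F ≤ centralizer (bWE p E : Set G) := by
  intro hc
  obtain ⟨T, hE⟩ := h.hE
  refine not_bWE_le_centralizer hG hE ?_
  have h1 : cj x (bWE p E) = bWE p E :=
    LocalStructure.map_conj_eq_self (centralizer_le_normalizer _ (hc hx))
  have h2 : bWE p E ≤ cj x E := h1 ▸ Subgroup.map_mono ((bWE_le E).trans (bW_le E))
  exact h2.trans (le_centralizer_iff.mp (commutator_eq_bot_iff_le_centralizer.mp (h.commute hx hne)))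

omit hG [Finite G] [Fact p.Prime] in
theorem Pair.le_normalizer_conj {x : G} (hx : x ∈ F) : E ≤ normalizer (cj x E : Set G) := by
  by_cases e : cj x E = E
  · rw [e]; exact le_normalizer
  · exact (commutator_eq_bot_iff_le_centralizer.mp (h.commute hx e)).trans (centralizer_le_normalizer _)

theorem Pair.bVZ_le_centralizer {x : G} (hx : x ∈ F) (hne : cj x E ≠ E) :
    bVZ p E ⊔ bVZ p F ≤ centralizer (E : Set G) := by
  refine sup_le inf_le_right fun z hz => ?_
  obtain ⟨T, hE⟩ := h.hE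
  obtain ⟨Tx, hEx⟩ := block_conj h.hE x
  have hcom : ∀ e ∈ E, ∀ f ∈ F, (e * f * e⁻¹) * z = z * (e * f * e⁻¹) := by
    intro e he f hf
    have hmem : e * f * e⁻¹ ∈ cj e F := ⟨f, hf, rfl⟩
    rcases h.cF e he 1 (one_mem E) with e' | e'
    · rw [e', cj, LocalStructure.map_conj_one] at hmem
      exact hz.2 _ hmem
    · rw [cj, cj, LocalStructure.map_conj_one, commutator_eq_bot_iff_le_centralizer] at e'
      exact (e' hmem z hz.1.2).symm
  have hzV : z ∈ omegaOneCenter p (pCore p G) := hz.1.1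
  suffices key : E ≤ centralizer ({z} : Set G) from fun e he => (key he z rfl).symm
  refine le_of_coprime_mem hE.1 fun e he hep y hy => ?_
  rw [Set.mem_singleton_iff] at hy
  subst hy
  set k := x * (e⁻¹ * x⁻¹ * e) with hk
  have hkz : k * y = y * k := by
    have c1 : Commute x y := hz.2 x hx
    have c2 : Commute (e⁻¹ * x⁻¹ * e) y := by
      have := hcom e⁻¹ (inv_mem he) x⁻¹ (inv_mem hx)
      rwa [inv_inv] at this
    exact (c1.mul_left c2).eq
  have hw : e * y * e⁻¹ = (x * e * x⁻¹) * y * (x * e * x⁻¹)⁻¹ := by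
    conv_lhs => rw [show e = (x * e * x⁻¹) * k by rw [hk]; group]
    rw [show (x * e * x⁻¹ * k) * y * (x * e * x⁻¹ * k)⁻¹ = (x * e * x⁻¹) * (k * y * k⁻¹) * (x * e * x⁻¹)⁻¹ by group,
      show k * y * k⁻¹ = y by rw [mul_inv_eq_iff_eq_mul, hkz]]
  have h1 := comm_mem_bVE hE hzV he
  have h2 : e * y * e⁻¹ * y⁻¹ ∈ cj x E := by
    rw [hw]
    exact (comm_mem_bVE hEx hzV ⟨e, he, rfl⟩).2
  exact (commute_of_coprime ((LocalStructure.isPGroup_pCore p).to_le (omegaOneCenter_le _)) hep h1.1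
    ((commutator_eq_bot_iff_le_centralizer.mp (h.commute hx hne) he) _ h2).symm).symm

theorem Pair.bVZ_le_centralizer_conj {x : G} (hx : x ∈ F) (hne : cj x E ≠ E) {y : G} (hy : y ∈ F) :
    bVZ p E ⊔ bVZ p F ≤ centralizer (cj y E : Set G) := by
  refine sup_le (fun z hz => ?_) fun z hz => ?_
  · by_cases e : cj y E = E
    · rw [e]; exact hz.2
    · exact commutator_eq_bot_iff_le_centralizer.mp (h.commute hy e) hz.1.2
  · exact conj_mem_centralizer (h.bVZ_le_centralizer hG hx hne (mem_sup_right hz)) (hz.2 y hy)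

theorem Pair.bVE_conj_le {y : G} (hy : y ∈ F) : bVE p (cj y E) ≤ bVE p E ⊔ bVE p F := by
  obtain ⟨T', hF⟩ := h.hF
  rw [← map_bVE]
  rintro _ ⟨v, hv, rfl⟩
  have := mul_mem (mem_sup_right (comm_mem_bVE hF hv.1 hy) : _ ∈ bVE p E ⊔ bVE p F) (mem_sup_left hv)
  simpa [mul_assoc] using this

theorem Pair.lower_two {x : G} (hx : x ∈ F) (hne : cj x E ≠ E) :
    bA p E * bA p E ≤ (bVZ p E ⊔ bVZ p F).relIndex (bVE p E ⊔ bVE p (cj x E) ⊔ (bVZ p E ⊔ bVZ p F)) ∧
      bVE p E ⊔ bVE p (cj x E) ⊔ (bVZ p E ⊔ bVZ p F) ≤ bVE p E ⊔ bVE p F := by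
  obtain ⟨T, hE⟩ := h.hE
  obtain ⟨Tx, hEx⟩ := block_conj h.hE x
  set D := bVZ p E ⊔ bVZ p F
  set D1 := D ⊔ bVE p (cj x E)
  have hDV : D ≤ omegaOneCenter p (pCore p G) := sup_le (inf_le_left.trans inf_le_left) (inf_le_left.trans inf_le_left)
  have e : bVE p E ⊔ bVE p (cj x E) ⊔ D = D1 ⊔ bVE p E := by
    rw [sup_assoc, sup_comm (bVE p E), sup_comm (bVE p (cj x E)) D]
  refine ⟨?_, sup_le (sup_le le_sup_left (h.bVE_conj_le hG hx))
    (sup_le (inf_le_left.trans le_sup_left) (inf_le_left.trans le_sup_right))⟩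
  rw [e, ← relIndex_mul_relIndex D D1 (D1 ⊔ bVE p E) le_sup_left le_sup_left]
  refine Nat.mul_le_mul (le_of_eq_of_le (bA_map (MulAut.conj x) E).symm
    (bA_le_relIndex hG hEx hDV (h.bVZ_le_centralizer_conj hG hx hne hx))) ?_
  refine bA_le_relIndex hG hE (sup_le hDV inf_le_left) (sup_le (h.bVZ_le_centralizer hG hx hne) ?_)
  exact inf_le_right.trans (le_centralizer_iff.mp (commutator_eq_bot_iff_le_centralizer.mp (h.commute hx hne)))

theorem Pair.lower_three {x y : G} (hx : x ∈ F) (hne : cj x E ≠ E) (hy : y ∈ F) (hney : cj y E ≠ E)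
    (hxy : cj y E ≠ cj x E) :
    bA p E * (bA p E * bA p E) ≤ (bVZ p E ⊔ bVZ p F).relIndex (bVE p E ⊔ bVE p F) := by
  obtain ⟨T, hE⟩ := h.hE
  obtain ⟨Tx, hEx⟩ := block_conj h.hE x
  obtain ⟨Ty, hEy⟩ := block_conj h.hE y
  set D := bVZ p E ⊔ bVZ p F
  set D1 := D ⊔ bVE p (cj y E)
  set D2 := D1 ⊔ bVE p (cj x E)
  have hDV : D ≤ omegaOneCenter p (pCore p G) := sup_le (inf_le_left.trans inf_le_left) (inf_le_left.trans inf_le_left)
  have hxyc := (h.cE y hy x hx).resolve_left hxy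
  have hc : ∀ {A B : Subgroup G}, ⁅A, B⁆ = ⊥ → bVE p B ≤ centralizer (A : Set G) := fun hh =>
    inf_le_right.trans (le_centralizer_iff.mp (commutator_eq_bot_iff_le_centralizer.mp hh))
  have hle : D2 ⊔ bVE p E ≤ bVE p E ⊔ bVE p F :=
    sup_le (sup_le (sup_le (sup_le (inf_le_left.trans le_sup_left) (inf_le_left.trans le_sup_right))
      (h.bVE_conj_le hG hy)) (h.bVE_conj_le hG hx)) le_sup_left
  rw [← relIndex_mul_relIndex D D1 _ le_sup_left ((le_sup_left.trans le_sup_left).trans hle),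
    ← relIndex_mul_relIndex D1 D2 _ le_sup_left (le_sup_left.trans hle),
    ← relIndex_mul_relIndex D2 _ _ le_sup_left hle]
  refine Nat.mul_le_mul (le_of_eq_of_le (bA_map (MulAut.conj y) E).symm
    (bA_le_relIndex hG hEy hDV (h.bVZ_le_centralizer_conj hG hx hne hy))) (Nat.mul_le_mul ?_ ?_)
  · exact le_of_eq_of_le (bA_map (MulAut.conj x) E).symm (bA_le_relIndex hG hEx (sup_le hDV inf_le_left)
      (sup_le (h.bVZ_le_centralizer_conj hG hx hne hx) (hc (by rw [commutator_comm]; exact hxyc))))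
  · refine le_trans ?_ (Nat.le_mul_of_pos_right _ (relIndex_pos _ _))
    exact bA_le_relIndex hG hE (sup_le (sup_le hDV inf_le_left) inf_le_left)
      (sup_le (sup_le (h.bVZ_le_centralizer hG hx hne) (hc (h.commute hy hney))) (hc (h.commute hx hne)))

theorem Pair.sq_le_of_moves {x : G} (hx : x ∈ F) (hne : cj x E ≠ E) :
    bA p E * bA p E ≤ (bVZ p E ⊔ bVZ p F).relIndex (bVE p E ⊔ bVE p F) := by
  obtain ⟨h1, h2⟩ := h.lower_two hG hx hne
  rw [← relIndex_mul_relIndex _ _ _ le_sup_right h2]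
  exact h1.trans (Nat.le_mul_of_pos_right _ (relIndex_pos _ _))

theorem Pair.sq_le_of_normalizes {x : G} (hx : x ∈ F) (hne : cj x E ≠ E)
    (hEF : E ≤ normalizer (F : Set G)) : bA p E * bA p E ≤ bA p F := by
  obtain ⟨T, hE⟩ := h.hE
  obtain ⟨T', hF⟩ := h.hF
  have hnc : ¬ E ≤ centralizer (bWE p F : Set G) := fun hc => hne (LocalStructure.map_conj_eq_self
    (centralizer_le_normalizer _ (commutator_eq_bot_iff_le_centralizer.mp
      (commutator_eq_bot_of_centralizes hG hF h.sF hE hEF hc) hx)))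
  set I := bVE p E ⊓ bVE p F
  have hEI : E ≤ normalizer (I : Set G) := LocalStructure.le_normalizer_inf (le_normalizer_bVE E)
    (LocalStructure.le_normalizer_inf (by rw [omega_normalizer_eq_top]; exact le_top) hEF)
  have hIW : I ≤ bW p E := inf_le_left.trans (bVE_le_bW hG hE)
  have hU : bZ p E ⊔ I = bW p E := by
    refine (module_irreducible hE le_sup_left (sup_le (bZ_le E) hIW)
      (LocalStructure.le_normalizer_sup (le_normalizer_bZ E) hEI)).resolve_left fun e => hnc ?_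
    refine le_of_coprime_mem hE.1 fun a ha hap v hv => ?_
    have hvF := bWE_le_bVE hG hF hv
    have hI : a * v * a⁻¹ * v⁻¹ ∈ I := by
      refine Subgroup.mem_inf.mpr ⟨comm_mem_bVE hE hvF.1 ha, mul_mem ?_ (inv_mem hvF)⟩
      exact ⟨(mem_normalizer_iff.mp (by rw [omega_normalizer_eq_top]; trivial) v).mp hvF.1,
        (mem_normalizer_iff.mp (hEF ha) v).mp hvF.2⟩
    exact (commute_of_coprime ((LocalStructure.isPGroup_pCore p).to_le (omegaOneCenter_le _)) hap hI.1.1
      (((le_sup_right : I ≤ bZ p E ⊔ I).trans e.le hI).2 a ha)).symm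
  have hle : bVE p E ≤ bVE p F ⊔ bVZ p E := by
    intro v hv
    have hv' : v ∈ bZ p E ⊔ I := hU ▸ bVE_le_bW hG hE hv
    obtain ⟨z, hz, i, hi, rfl⟩ := LocalStructure.exists_mul_of_mem_sup
      (((bZ_le E).trans (bW_comm E)).trans
        ((centralizer_le (SetLike.coe_subset_coe.mpr hIW)).trans (centralizer_le_normalizer _))) hv'
    have hz' : z ∈ bVZ p E := ⟨by simpa using mul_mem hv (inv_mem hi.1), hz.2⟩
    exact mul_mem (mem_sup_right hz') (mem_sup_left hi.2)
  set D := bVZ p E ⊔ bVZ p F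
  have hDV : D ≤ omegaOneCenter p (pCore p G) := sup_le (inf_le_left.trans inf_le_left) (inf_le_left.trans inf_le_left)
  have e : bVE p E ⊔ bVE p F = D ⊔ bVE p F := le_antisymm
    (sup_le (hle.trans (sup_le le_sup_right (le_sup_left.trans le_sup_left))) le_sup_right)
    (sup_le (sup_le (inf_le_left.trans le_sup_left) (inf_le_left.trans le_sup_right)) le_sup_right)
  refine (h.sq_le_of_moves hG hx hne).trans ?_
  rw [e, Replacement.relIndex_sup_of_le_normalizer (omega_le_normalizer_of_le inf_le_left hDV),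
    ← relIndex_bVE hG hF]
  exact Nat.le_of_dvd (relIndex_pos _ _) (relIndex_dvd_of_le_left _ le_sup_right)

/-- A second block with large image normalized by `E` normalizes `E`. -/
theorem Pair.contra_big_normalizes (hEF : E ≤ normalizer (F : Set G))
    (hbig : 16 ≤ bA p F) : F ≤ normalizer (E : Set G) := by
  obtain ⟨T, hE⟩ := h.hE
  obtain ⟨T', hF⟩ := h.hF
  obtain ⟨c, hc⟩ := exists_coord hG hF
  have hB := c.big_of_card (by rw [c.card_eq]; exact hbig)
  set D : Subgroup G := F ⊓ ⨅ x : ↥F, normalizer (cj (x : G) E : Set G)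
  have hDmem : ∀ g, g ∈ D ↔ g ∈ F ∧ ∀ x ∈ F, g ∈ normalizer (cj x E : Set G) := fun g => by
    simp [D, mem_iInf]
  have hEN : ∀ x ∈ F, ∀ y ∈ F, cj y E ≤ normalizer (cj x E : Set G) := fun x hx y hy => by
    rcases h.cE y hy x hx with e | e
    · rw [e]; exact le_normalizer
    · exact (commutator_eq_bot_iff_le_centralizer.mp e).trans (centralizer_le_normalizer _)
  have hQD : pCoreOf p F ≤ D := fun g hg => (hDmem g).mpr ⟨LocalStructure.pCoreOf_le p F hg, fun x hx => by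
    obtain ⟨Tx, hEx⟩ := block_conj h.hE x
    exact pCore_le_normalizer hEx (pCoreOf_le_pCore h.sF hg)⟩
  have hcomm : ∀ e ∈ E, ∀ f ∈ F, e * f * e⁻¹ * f⁻¹ ∈ D := fun e he f hf => by
    refine (hDmem _).mpr ⟨mul_mem ((mem_normalizer_iff.mp (hEF he) f).mp hf) (inv_mem hf), fun x hx => ?_⟩
    rw [show e * f * e⁻¹ * f⁻¹ = e * (f * e⁻¹ * f⁻¹) by group]
    exact mul_mem (h.le_normalizer_conj hx he) (hEN x hx f hf ⟨e⁻¹, inv_mem he, rfl⟩)
  have hDn : F ≤ normalizer (D : Set G) := by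
    intro f hf
    refine LocalStructure.mem_normalizer_of_map_conj_le ?_
    rintro _ ⟨d, hd, rfl⟩
    simp only [MulEquiv.coe_toMonoidHom, MulAut.conj_apply]
    obtain ⟨hdF, hdN⟩ := (hDmem d).mp hd
    refine (hDmem _).mpr ⟨mul_mem (mul_mem hf hdF) (inv_mem hf), fun x hx => ?_⟩
    have hd' := hdN (f⁻¹ * x) (mul_mem (inv_mem hf) hx)
    have e : cj x E = cj f (cj (f⁻¹ * x) E) := by
      rw [cj, cj, cj, ← LocalStructure.map_conj_mul, mul_inv_cancel_left]
    rw [e]
    exact (Subgroup.le_normalizer_map (MulAut.conj f).toMonoidHom) ⟨d, hd', rfl⟩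
  rcases eq_or_central c hB hDn with hall | hcen
  · intro f hf
    have : f ∈ D ⊔ pCoreOf p F := mem_sup_of_map c hc (e := ⟨f, hf⟩) (hall ▸ ⟨_, rfl⟩)
    rw [sup_eq_left.mpr hQD] at this
    simpa [cj] using ((hDmem f).mp this).2 1 (one_mem F)
  · intro f hf
    have hkey : ∀ e ∈ E, e * f * e⁻¹ * f⁻¹ ∈ pCore p G := fun e he => by
      refine pCoreOf_le_pCore h.sF (comm_mem_of_central c hB.1 hc (le_normalizer_bZ F)
        ⟨normalizer_le_normalizer_bW F (hEF he), normalizer_le_normalizer_bZ F (hEF he)⟩ (fun a => ?_) ⟨f, hf⟩)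
      have hd := hcomm e he a a.2
      exact ⟨⟨_, ((hDmem _).mp hd).1⟩, rfl, hcen (mem_map_of_mem _ hd)⟩
    obtain ⟨Tf, hEf⟩ := block_conj h.hE f
    refine LocalStructure.mem_normalizer_of_map_conj_le (le_of_le_sup_isPGroup hEf.1
      (LocalStructure.isPGroup_pCore p) (pCore_le_normalizer hE) ?_)
    rintro _ ⟨e, he, rfl⟩
    have := mul_mem (mem_sup_left he : e ∈ E ⊔ pCore p G) (mem_sup_right (hkey e⁻¹ (inv_mem he)))
    simpa [mul_assoc] using this

end Cfsg.Agent.BaumannBlock
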