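import Cfsg.Agent.Lib.BaumannBlock.PermShape
import Cfsg.Agent.Lib.BaumannBlock.Linear

/-!
The normalizer of the alternating group on its even-weight module of odd degree at least five is the
symmetric group: the weight-`(n-1)` vectors form the only orbit of at most `n` nonzero vectors.
-/

set_option autoImplicit false

namespace Cfsg.Agent.BaumannBlock

open Subgroup Finset

theorem le_choose_aux : ∀ n k : ℕ, 1 ≤ k → k < n → n ≤ n.choose k := by
  intro n
  induction n with
  | zero => intro k _ h; omega
  | succ n ih =>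
    intro k h1 h2
    obtain ⟨j, rfl⟩ : ∃ j, k = j + 1 := ⟨k - 1, by omega⟩
    rw [Nat.choose_succ_succ']
    rcases Nat.eq_zero_or_pos j with rfl | hj
    · simp [Nat.choose_one_right]
    · have := ih j hj (by omega)
      have := Nat.choose_pos (show j + 1 ≤ n by omega)
      omega

theorem lt_choose_aux {n k : ℕ} (h1 : 2 ≤ k) (h2 : k + 2 ≤ n) : n < n.choose k := by
  obtain ⟨m, rfl⟩ : ∃ m, n = m + 1 := ⟨n - 1, by omega⟩
  obtain ⟨j, rfl⟩ : ∃ j, k = j + 1 := ⟨k - 1, by omega⟩
  rw [Nat.choose_succ_succ']
  have := le_choose_aux m j (by omega) (by omega)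
  have := le_choose_aux m (j + 1) (by omega) (by omega)
  omega

variable {n : ℕ}

/-- The support. -/
def supp (v : Multiplicative ↥(evenWeight n)) : Finset (Fin n) :=
  Finset.univ.filter fun i => (Multiplicative.toAdd v : ↥(evenWeight n)).1 i = 1

theorem mem_supp {v : Multiplicative ↥(evenWeight n)} {i : Fin n} :
    i ∈ supp v ↔ (Multiplicative.toAdd v : ↥(evenWeight n)).1 i = 1 := by simp [supp]

theorem supp_injective : Function.Injective (supp (n := n)) := by
  intro v w h
  refine Multiplicative.toAdd.injective (Subtype.ext (funext fun i => ?_))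
  have hi : (i ∈ supp v) = (i ∈ supp w) := by rw [h]
  simp only [supp, mem_filter, Finset.mem_univ, true_and, eq_iff_iff] at hi
  exact (by decide : ∀ a b : ZMod 2, (a = 1 ↔ b = 1) → a = b) _ _ hi

theorem supp_permAct (σ : Equiv.Perm (Fin n)) (v : Multiplicative ↥(evenWeight n)) :
    supp (permAct n σ v) = (supp v).map σ.toEmbedding := by
  ext i
  rw [mem_map, mem_supp, permAct_apply]
  constructor
  · exact fun h => ⟨σ⁻¹ i, mem_supp.mpr h, by simp⟩
  · rintro ⟨j, hj, rfl⟩
    simpa using mem_supp.mp hj

theorem supp_even (v : Multiplicative ↥(evenWeight n)) : Even (supp v).card := by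
  have h : ∑ i, (Multiplicative.toAdd v : ↥(evenWeight n)).1 i = 0 := (Multiplicative.toAdd v).2
  rw [Finset.sum_congr rfl (fun i _ => (by decide : ∀ a : ZMod 2, a = if a = 1 then 1 else 0) _),
    Finset.sum_boole] at h
  exact (ZMod.natCast_eq_zero_iff_even).mp h

theorem supp_eq_empty {v : Multiplicative ↥(evenWeight n)} (h : supp v = ∅) : v = 1 :=
  supp_injective (h.trans (by simp [supp]))

/-- The orbit under the alternating group. -/
def altOrbit (v : Multiplicative ↥(evenWeight n)) : Set (Multiplicative ↥(evenWeight n)) :=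
  (fun g : MulAut _ => g v) '' ((alternatingGroup (Fin n)).map (permAct n) : Subgroup _)

theorem card_altOrbit_of_small (v : Multiplicative ↥(evenWeight n)) (h2 : 2 ≤ (supp v).card) :
    n.choose (supp v).card ≤ Nat.card (altOrbit v) := by
  classical
  have key : ∀ T : Finset (Fin n), T.card = (supp v).card → ∃ g ∈ alternatingGroup (Fin n),
      supp (permAct n g v) = T := by
    intro T hT
    obtain ⟨σ, hσ⟩ : ∃ σ : Equiv.Perm (Fin n), (supp v).map σ.toEmbedding = T := by
      let e : {x // x ∈ supp v} ≃ {x // x ∈ T} := Finset.equivOfCardEq hT.symm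
      refine ⟨e.extendSubtype, Finset.eq_of_subset_of_card_le (fun x hx => ?_) (by simp [hT])⟩
      obtain ⟨y, hy, rfl⟩ := mem_map.mp hx
      exact e.extendSubtype_mem y hy
    obtain ⟨a, ha, b, hb, hab⟩ := Finset.one_lt_card.mp (show 1 < (supp v).card by omega)
    by_cases hs : Equiv.Perm.sign σ = 1
    · exact ⟨σ, Equiv.Perm.mem_alternatingGroup.mpr hs, (supp_permAct σ v).trans hσ⟩
    · refine ⟨σ * Equiv.swap a b, Equiv.Perm.mem_alternatingGroup.mpr ?_, ?_⟩
      · rw [map_mul, Equiv.Perm.sign_swap hab, (Int.units_eq_one_or _).resolve_left hs]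
        decide
      · rw [supp_permAct, ← hσ]
        refine Finset.eq_of_subset_of_card_le (fun x hx => ?_) (by simp)
        obtain ⟨y, hy, rfl⟩ := mem_map.mp hx
        refine mem_map.mpr ⟨Equiv.swap a b y, ?_, rfl⟩
        by_cases hya : y = a
        · subst hya; simpa using hb
        by_cases hyb : y = b
        · subst hyb; simpa using ha
        rwa [Equiv.swap_apply_of_ne_of_ne hya hyb]
  choose g hg hsupp using key
  let f : {T // T ∈ (Finset.univ : Finset (Fin n)).powersetCard (supp v).card} → altOrbit v := fun T =>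
    ⟨permAct n (g T.1 (mem_powersetCard.mp T.2).2) v, permAct n (g T.1 (mem_powersetCard.mp T.2).2),
      Subgroup.mem_map_of_mem _ (hg _ _), rfl⟩
  have hf : Function.Injective f := fun S T h => Subtype.ext (by
    have := congrArg (fun w : altOrbit v => supp w.1) h
    simpa [f, hsupp] using this)
  have := Nat.card_le_card_of_injective f hf
  simpa using this

/-- The complement of a point. -/
def cop (hodd : Odd n) (i : Fin n) : Multiplicative ↥(evenWeight n) :=
  Multiplicative.ofAdd ⟨fun j => if j = i then 0 else 1, by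
    show ∑ j, (if j = i then (0 : ZMod 2) else 1) = 0
    rw [← Finset.add_sum_erase _ _ (Finset.mem_univ i), if_pos rfl, zero_add,
      Finset.sum_congr rfl (fun j hj => if_neg (Finset.ne_of_mem_erase hj)), Finset.sum_const,
      Finset.card_erase_of_mem (Finset.mem_univ i), Finset.card_univ, Fintype.card_fin, nsmul_eq_mul, mul_one]
    obtain ⟨m, rfl⟩ := hodd
    exact ZMod.natCast_eq_zero_iff_even.mpr ⟨m, by omega⟩⟩

theorem supp_cop (hodd : Odd n) (i : Fin n) : supp (cop hodd i) = Finset.univ.erase i := by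
  ext j
  by_cases h : j = i <;> simp [supp, cop, h]

theorem permAct_cop (hodd : Odd n) (σ : Equiv.Perm (Fin n)) (i : Fin n) :
    permAct n σ (cop hodd i) = cop hodd (σ i) :=
  supp_injective (by rw [supp_permAct, supp_cop, supp_cop, Finset.map_erase, Finset.map_univ_equiv]; rfl)

theorem cop_injective (hodd : Odd n) : Function.Injective (cop hodd) := fun i j h => by
  have h1 : i ∉ supp (cop hodd j) := by rw [← h, supp_cop]; simp
  simpa [supp_cop] using h1

theorem card_altOrbit_cop (hodd : Odd n) (i : Fin n) : Nat.card (altOrbit (cop hodd i)) ≤ n := by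
  have hsub : altOrbit (cop hodd i) ⊆ Set.range (cop hodd) := by
    rintro _ ⟨_, ⟨σ, -, rfl⟩, rfl⟩
    exact ⟨σ i, (permAct_cop hodd σ i).symm⟩
  exact (Nat.card_mono (Set.finite_range _) hsub).trans
    ((Finite.card_range_le _).trans (Nat.card_fin n).le)

theorem exists_cop_of_card (hn : 5 ≤ n) (hodd : Odd n) {v : Multiplicative ↥(evenWeight n)} (h1 : v ≠ 1)
    (h : Nat.card (altOrbit v) ≤ n) : ∃ i, v = cop hodd i := by
  have he := supp_even v
  have h0 : (supp v).card ≠ 0 := fun h => h1 (supp_eq_empty (Finset.card_eq_zero.mp h))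
  have hle : (supp v).card ≤ n := by simpa using Finset.card_le_univ (supp v)
  have h2 : 2 ≤ (supp v).card := by obtain ⟨a, ha⟩ := he; omega
  have hlt : ¬ (supp v).card + 2 ≤ n := fun hk => by
    have := lt_choose_aux h2 hk
    have := card_altOrbit_of_small v h2
    omega
  have hk : (supp v).card = n - 1 := by
    obtain ⟨a, ha⟩ := he; obtain ⟨b, hb⟩ := hodd; omega
  obtain ⟨i, hi⟩ : ∃ i, i ∉ supp v := by
    by_contra h
    push Not at h
    have : supp v = Finset.univ := Finset.eq_univ_iff_forall.mpr h
    rw [this, Finset.card_univ, Fintype.card_fin] at hk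
    omega
  refine ⟨i, supp_injective ?_⟩
  rw [supp_cop]
  refine Finset.eq_of_subset_of_card_le (fun x hx => Finset.mem_erase.mpr ⟨fun e => hi (e ▸ hx), Finset.mem_univ _⟩) ?_
  simp [hk]

theorem normalizer_le_range (hn : 5 ≤ n) (hodd : Odd n) :
    normalizer (((alternatingGroup (Fin n)).map (permAct n) : Subgroup _) :
      Set (MulAut (Multiplicative ↥(evenWeight n)))) ≤ (permAct n).range := by
  set R := (alternatingGroup (Fin n)).map (permAct n)
  intro β hβ
  have hmv : ∀ i, ∃ j, β (cop hodd i) = cop hodd j := by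
    intro i
    refine exists_cop_of_card hn hodd (fun h => ?_) ?_
    · have h1 : cop hodd i = 1 := (EmbeddingLike.map_eq_one_iff (f := β)).mp h
      have h2 : supp (cop hodd i) = ∅ := by rw [h1]; simp [supp]
      rw [supp_cop] at h2
      have := congrArg Finset.card h2
      simp at this
      omega
    · refine le_trans (le_of_eq ?_) (card_altOrbit_cop hodd i)
      have : altOrbit (β (cop hodd i)) = β '' altOrbit (cop hodd i) := by
        ext w
        constructor
        · rintro ⟨g, hg, rfl⟩
          refine ⟨(β⁻¹ * g * β) (cop hodd i),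
            ⟨β⁻¹ * g * β, (mem_normalizer_iff''.mp hβ g).mp hg, rfl⟩, ?_⟩
          simp [MulAut.mul_apply]
        · rintro ⟨_, ⟨g, hg, rfl⟩, rfl⟩
          exact ⟨β * g * β⁻¹, (mem_normalizer_iff.mp hβ g).mp hg, by simp [MulAut.mul_apply]⟩
      rw [this, Nat.card_image_of_injective β.injective]
  choose s hs using hmv
  have hsinj : Function.Injective s := fun i j h =>
    cop_injective hodd (β.injective (by rw [hs, hs, h]))
  set σ := Equiv.ofBijective s (Finite.injective_iff_bijective.mp hsinj) with hσ
  have hγfix : ∀ i, ((permAct n σ)⁻¹ * β) (cop hodd i) = cop hodd i := fun i => by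
    rw [MulAut.mul_apply, hs, show cop hodd (s i) = permAct n σ (cop hodd i) from
      (permAct_cop hodd σ i).symm, ← MulAut.mul_apply, inv_mul_cancel, MulAut.one_apply]
  set γ := (permAct n σ)⁻¹ * β with hγ
  have hσn : permAct n σ ∈ normalizer (R : Set (MulAut (Multiplicative ↥(evenWeight n)))) := by
    have hN : (alternatingGroup (Fin n)).Normal := inferInstance
    refine mem_normalizer_iff.mpr fun g => ⟨?_, ?_⟩
    · rintro ⟨τ, hτ, rfl⟩
      exact ⟨σ * τ * σ⁻¹, hN.conj_mem τ hτ σ, by simp⟩
    · rintro ⟨τ, hτ, e⟩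
      refine ⟨σ⁻¹ * τ * σ⁻¹⁻¹, hN.conj_mem τ hτ σ⁻¹, ?_⟩
      rw [map_mul, map_mul, e]
      simp [mul_assoc]
  have hγn := mul_mem (inv_mem hσn) hβ
  have hcen : γ ∈ centralizer (R : Set (MulAut (Multiplicative ↥(evenWeight n)))) := by
    rintro _ ⟨τ, hτ, rfl⟩
    obtain ⟨τ', hτ', e⟩ := (mem_normalizer_iff.mp hγn _).mp (Subgroup.mem_map_of_mem _ hτ)
    have : τ' = τ := by
      refine Equiv.ext fun i => cop_injective hodd ?_
      rw [← permAct_cop hodd τ' i, e]
      have h1 : γ⁻¹ (cop hodd i) = cop hodd i := by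
        conv_lhs => rw [← hγfix i]
        simp
      rw [MulAut.mul_apply, MulAut.mul_apply, h1, permAct_cop, hγfix]
    rw [this] at e
    exact (eq_mul_inv_iff_mul_eq.mp e)
  have := alt_centralizer hn hodd hcen
  rw [hγ, inv_mul_eq_one] at this
  exact ⟨σ, this⟩

/-- The facts for the alternating groups. -/
theorem outer_alt (hn : 5 ≤ n) (hodd : Odd n) : Outer 2 ((alternatingGroup (Fin n)).map (permAct n)) where
  perfect := fun Y hY h => by
    rw [← h, Subgroup.commutator_le]
    intro a ha b hb
    obtain ⟨x, rfl⟩ := normalizer_le_range hn hodd (hY ha)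
    obtain ⟨y, rfl⟩ := normalizer_le_range hn hodd (hY hb)
    rw [← map_commutatorElement]
    exact Subgroup.mem_map_of_mem _ (Equiv.Perm.mem_alternatingGroup.mpr (by
      rw [map_commutatorElement]; exact commutatorElement_eq_one_iff_commute.mpr (Commute.all _ _)))
  small_two := fun _ Y B hY _ _ h3 _ hn' => by
    refine absurd (fun y hy => ?_) hn'
    obtain ⟨x, rfl⟩ := normalizer_le_range hn hodd (hY hy)
    refine Subgroup.mem_map_of_mem _ (Equiv.Perm.mem_alternatingGroup.mpr ?_)
    have h1 : (⟨permAct n x, hy⟩ : Y) ^ 3 = 1 := h3 ▸ pow_card_eq_one'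
    have h2 : x ^ 3 = 1 := permAct_injective (by omega) (by
      rw [map_pow, map_one]; exact congrArg Subtype.val h1)
    have h4 := congrArg Equiv.Perm.sign h2
    rw [map_pow, map_one] at h4
    exact (by decide : ∀ u : ℤˣ, u ^ 3 = 1 → u = 1) _ h4
  small_three := fun h => absurd h (by decide)
  offender := fun h => absurd rfl h
  unip := fun h => absurd rfl h
  no_p := fun γ hγ _ _ => alt_centralizer hn hodd hγ

end Cfsg.Agent.BaumannBlock
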