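import Cfsg.Agent.Lib.BaumannBlock.Shape
import Cfsg.Agent.Lib.BaumannBlock.Modules

/-!
The alternating group of odd degree on the even-weight module.
-/

set_option autoImplicit false

namespace Cfsg.Agent.BaumannBlock

open Subgroup

/-- The vectors of even weight. -/
def evenWeight (n : ℕ) : AddSubgroup (Fin n → ZMod 2) where
  carrier := {v | ∑ i, v i = 0}
  zero_mem' := by simp
  add_mem' := fun {a b} ha hb => by
    simp only [Set.mem_ofPred_eq] at ha hb ⊢
    simp [Finset.sum_add_distrib, ha, hb]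
  neg_mem' := fun {a} ha => by
    simp only [Set.mem_ofPred_eq] at ha ⊢
    simp [Finset.sum_neg_distrib, ha]

/-- The action on the vectors of even weight. -/
def permAct (n : ℕ) : Equiv.Perm (Fin n) →* MulAut (Multiplicative ↥(evenWeight n)) where
  toFun σ := AddEquiv.toMultiplicative
    { toFun := fun v => ⟨fun i => (v : Fin n → ZMod 2) (σ⁻¹ i), (Equiv.sum_comp σ⁻¹ _).trans v.2⟩
      invFun := fun v => ⟨fun i => (v : Fin n → ZMod 2) (σ i), (Equiv.sum_comp σ _).trans v.2⟩
      left_inv := fun v => by ext i; simp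
      right_inv := fun v => by ext i; simp
      map_add' := fun v w => by ext i; simp }
  map_one' := MulEquiv.ext fun v => Subtype.ext (funext fun i => rfl)
  map_mul' σ τ := MulEquiv.ext fun v => Subtype.ext (funext fun i => rfl)

theorem permAct_apply {n : ℕ} (σ : Equiv.Perm (Fin n)) (v : Multiplicative ↥(evenWeight n)) (i : Fin n) :
    (Multiplicative.toAdd (permAct n σ v) : ↥(evenWeight n)).1 i =
      (Multiplicative.toAdd v : ↥(evenWeight n)).1 (σ⁻¹ i) := rfl

theorem card_evenWeight (n : ℕ) : Nat.card ↥(evenWeight (n + 1)) = 2 ^ n := by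
  let e : ↥(evenWeight (n + 1)) ≃ (Fin n → ZMod 2) :=
    { toFun := fun v i => v.1 i.succ
      invFun := fun w => ⟨Fin.cons (-∑ i, w i) w, by
        show ∑ i, (Fin.cons (-∑ i, w i) w : Fin (n + 1) → ZMod 2) i = 0
        simp [Fin.sum_univ_succ, CharTwo.add_self_eq_zero]⟩
      left_inv := fun v => by
        ext i
        refine Fin.cases ?_ (fun j => rfl) i
        have h : v.1 0 + ∑ i : Fin n, v.1 i.succ = 0 := (Fin.sum_univ_succ v.1).symm.trans v.2
        simp [eq_neg_of_add_eq_zero_left h]
      right_inv := fun w => funext fun i => by simp }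
  rw [Nat.card_congr e]
  simp

/-- The vector of weight two. -/
def pairVec {n : ℕ} (a b : Fin n) : ↥(evenWeight n) :=
  ⟨(Pi.single a 1 + Pi.single b 1 : Fin n → ZMod 2), by
    show ∑ i, (Pi.single a 1 + Pi.single b 1 : Fin n → ZMod 2) i = 0
    simp only [Pi.add_apply, Finset.sum_add_distrib, Finset.sum_pi_single', Finset.mem_univ, if_true]
    decide⟩

theorem exists_notMem_two {n : ℕ} (hn : 3 ≤ n) (a b : Fin n) : ∃ c : Fin n, c ≠ a ∧ c ≠ b := by
  by_contra h
  push Not at h
  have : (Finset.univ : Finset (Fin n)) ⊆ {a, b} := fun x _ => by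
    by_cases hx : x = a
    · simp [hx]
    · simp [h x hx]
  have h1 := Finset.card_le_card this
  simp at h1
  have := (Finset.card_le_two : ({a, b} : Finset (Fin n)).card ≤ 2)
  omega

theorem permAct_injective {n : ℕ} (hn : 3 ≤ n) : Function.Injective (permAct n) := by
  rw [injective_iff_map_eq_one]
  intro σ hσ
  ext a : 1
  by_contra h
  obtain ⟨c, hc, hc'⟩ := exists_notMem_two hn a (σ a)
  have h1 : permAct n σ (Multiplicative.ofAdd (pairVec a c)) = Multiplicative.ofAdd (pairVec a c) := by
    rw [hσ]; rfl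
  have h2 := congrArg (fun v => (Multiplicative.toAdd v : ↥(evenWeight n)).1 (σ a)) h1
  simp [permAct_apply, pairVec, Ne.symm hc, hc'.symm, Equiv.Perm.inv_def] at h2
  simp [Equiv.Perm.one_apply] at h
  simp [Pi.single_apply, h, hc, Ne.symm hc, hc'] at h2

theorem alt_three : CommCommutant ((alternatingGroup (Fin 3)).map (permAct 3)) ∧
    CyclicShape ((alternatingGroup (Fin 3)).map (permAct 3)) := by
  refine shape_of_card_four ?_ ?_ ?_
  · rw [Nat.card_congr Multiplicative.toAdd, card_evenWeight]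
    norm_num
  · rintro _ ⟨g, hg, rfl⟩
    rw [← map_pow, (by decide : ∀ g : Equiv.Perm (Fin 3), Equiv.Perm.sign g = 1 → g ^ 3 = 1) g
      (Equiv.Perm.mem_alternatingGroup.mp hg), map_one]
  · rw [Ne, Subgroup.map_eq_bot_iff_of_injective _ (permAct_injective le_rfl)]
    intro h
    have : finRotate 3 ∈ alternatingGroup (Fin 3) := Equiv.Perm.mem_alternatingGroup.mpr (by decide)
    rw [h, mem_bot] at this
    exact absurd this (by decide)

theorem alt_centralizer {n : ℕ} (hn : 5 ≤ n) (hodd : Odd n) {β : MulAut (Multiplicative ↥(evenWeight n))}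
    (hβ : β ∈ centralizer (((alternatingGroup (Fin n)).map (permAct n) :
        Subgroup _) : Set (MulAut (Multiplicative ↥(evenWeight n))))) : β = 1 := by
  let f : ↥(evenWeight n) →+ ↥(evenWeight n) := MonoidHom.toAdditive β.toMonoidHom
  have hf : ∀ (σ : Equiv.Perm (Fin n)), σ ∈ alternatingGroup (Fin n) → ∀ v : ↥(evenWeight n),
      f (Multiplicative.toAdd (permAct n σ (Multiplicative.ofAdd v))) =
        Multiplicative.toAdd (permAct n σ (Multiplicative.ofAdd (f v))) := fun σ hσ v =>
    congrArg Multiplicative.toAdd (DFunLike.congr_fun (hβ _ (mem_map_of_mem _ hσ)).symm (Multiplicative.ofAdd v))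
  have z2 : ∀ a : ZMod 2, a = 0 ∨ a = 1 := by decide
  have hfix : ∀ a b : Fin n, a ≠ b → (f (pairVec a b)).1 a = (f (pairVec a b)).1 b ∧
      ∀ x, x ≠ a → x ≠ b → (f (pairVec a b)).1 x = 0 := by
    intro a b hab
    set w := (f (pairVec a b)).1 with hw
    have fixed : ∀ σ : Equiv.Perm (Fin n), σ ∈ alternatingGroup (Fin n) →
        (∀ i, (pairVec a b).1 (σ⁻¹ i) = (pairVec a b).1 i) → ∀ i, w (σ⁻¹ i) = w i := by
      intro σ hσ hv i
      have h := hf σ hσ (pairVec a b)
      rw [show Multiplicative.toAdd (permAct n σ (Multiplicative.ofAdd (pairVec a b))) = pairVec a b from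
        Subtype.ext (funext hv)] at h
      exact (congrArg (fun v : ↥(evenWeight n) => v.1 i) h).symm
    have off : ∀ x y z : Fin n, x ≠ a → x ≠ b → y ≠ a → y ≠ b → z ≠ a → z ≠ b → x ≠ y → x ≠ z → y ≠ z →
        w x = w y := by
      intro x y z hxa hxb hya hyb hza hzb hxy hxz hyz
      have hσ := (Equiv.Perm.isThreeCycle_swap_mul_swap_same hxy.symm hyz hxz).mem_alternatingGroup
      have h := fixed _ hσ (fun i => ?_) y
      · simpa [Equiv.swap_apply_of_ne_of_ne, hxy, hxy.symm, hxz, hxz.symm, hyz, hyz.symm] using h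
      · by_cases h1 : i = x
        · subst h1; simp [pairVec, Equiv.swap_apply_of_ne_of_ne, hxy, hxy.symm, hxz, hxz.symm, hyz, hyz.symm,
            hxa, hxb, hya, hyb, hza, hzb]
        by_cases h2 : i = y
        · subst h2; simp [pairVec, Equiv.swap_apply_of_ne_of_ne, hxy, hxy.symm, hxz, hxz.symm, hyz, hyz.symm,
            hxa, hxb, hya, hyb, hza, hzb]
        by_cases h3 : i = z
        · subst h3; simp [pairVec, Equiv.swap_apply_of_ne_of_ne, hxy, hxy.symm, hxz, hxz.symm, hyz, hyz.symm,
            hxa, hxb, hya, hyb, hza, hzb]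
        simp [Equiv.swap_apply_of_ne_of_ne, h1, h2, h3]
    have third : ∀ x y : Fin n, ∃ z, z ≠ a ∧ z ≠ b ∧ z ≠ x ∧ z ≠ y := by
      intro x y
      by_contra h
      push Not at h
      have : (Finset.univ : Finset (Fin n)) ⊆ {a, b, x, y} := fun z _ => by
        simp only [Finset.mem_insert, Finset.mem_singleton]
        by_cases h1 : z = a; · exact Or.inl h1
        by_cases h2 : z = b; · exact Or.inr (Or.inl h2)
        by_cases h3 : z = x; · exact Or.inr (Or.inr (Or.inl h3))
        exact Or.inr (Or.inr (Or.inr (h z h1 h2 h3)))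
      have h1 := Finset.card_le_card this
      simp at h1
      have := (Finset.card_le_four : ({a, b, x, y} : Finset (Fin n)).card ≤ 4)
      omega
    obtain ⟨x0, hx0a, hx0b, -, -⟩ := third a a
    have const : ∀ x, x ≠ a → x ≠ b → w x = w x0 := by
      intro x hxa hxb
      by_cases hx : x = x0
      · rw [hx]
      · obtain ⟨z, hza, hzb, hzx, hz0⟩ := third x x0
        exact off x x0 z hxa hxb hx0a hx0b hza hzb hx (Ne.symm hzx) (Ne.symm hz0)
    have hab' : w a = w b := by
      obtain ⟨x, hxa, hxb, -, -⟩ := third a a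
      obtain ⟨y, hya, hyb, hyx, -⟩ := third x x
      have hσ : Equiv.swap a b * Equiv.swap x y ∈ alternatingGroup (Fin n) := by
        rw [Equiv.Perm.mem_alternatingGroup, map_mul, Equiv.Perm.sign_swap hab,
          Equiv.Perm.sign_swap (Ne.symm hyx)]
        decide
      have h := fixed _ hσ (fun i => ?_) a
      · simpa [Equiv.swap_apply_of_ne_of_ne, hab, hab.symm, hxa, hxb, hya, hyb, Ne.symm hxa,
          Ne.symm hxb, Ne.symm hya, Ne.symm hyb, hyx, hyx.symm] using h.symm
      · by_cases h1 : i = a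
        · subst h1; simp [pairVec, Equiv.swap_apply_of_ne_of_ne, hab, hab.symm, hxa.symm, hxb.symm, hya.symm, hyb.symm]
        by_cases h2 : i = b
        · subst h2; simp [pairVec, Equiv.swap_apply_of_ne_of_ne, hab, hab.symm, hxa.symm, hxb.symm, hya.symm, hyb.symm]
        by_cases h3 : i = x
        · subst h3; simp [pairVec, Equiv.swap_apply_of_ne_of_ne, hxa, hxb, hya, hyb, hyx, hyx.symm]
        by_cases h4 : i = y
        · subst h4; simp [pairVec, Equiv.swap_apply_of_ne_of_ne, hxa, hxb, hya, hyb, hyx, hyx.symm]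
        simp [Equiv.swap_apply_of_ne_of_ne, h1, h2, h3, h4]
    refine ⟨hab', fun x hxa hxb => ?_⟩
    have hsum : ∑ i, w i = 0 := (f (pairVec a b)).2
    have hrest : ∀ i ∈ (Finset.univ.erase a).erase b, w i = w x0 := fun i hi =>
      const i (Finset.mem_erase.mp (Finset.mem_erase.mp hi).2).1 (Finset.mem_erase.mp hi).1
    rw [← Finset.add_sum_erase _ _ (Finset.mem_univ a),
      ← Finset.add_sum_erase _ _ (Finset.mem_erase.mpr ⟨hab.symm, Finset.mem_univ b⟩),
      Finset.sum_congr rfl hrest, Finset.sum_const, hab', ← add_assoc, CharTwo.add_self_eq_zero, zero_add,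
      Finset.card_erase_of_mem (Finset.mem_erase.mpr ⟨hab.symm, Finset.mem_univ b⟩),
      Finset.card_erase_of_mem (Finset.mem_univ a), Finset.card_univ, Fintype.card_fin, nsmul_eq_mul,
      show ((n - 1 - 1 : ℕ) : ZMod 2) = 1 from ZMod.natCast_eq_one_iff_odd.mpr
        (by obtain ⟨m, rfl⟩ := hodd; exact ⟨m - 1, by omega⟩), one_mul] at hsum
    rw [const x hxa hxb, hsum]
  obtain ⟨a₀, b₀, hab₀⟩ : ∃ a b : Fin n, a ≠ b :=
    ⟨⟨0, by omega⟩, ⟨1, by omega⟩, fun h => by simp at h⟩
  obtain ⟨k, hk⟩ : ∃ k : ZMod 2, ∀ a b : Fin n, a ≠ b → (f (pairVec a b)).1 a = k := by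
    refine ⟨(f (pairVec a₀ b₀)).1 a₀, ?_⟩
    have step : ∀ a b c : Fin n, a ≠ b → b ≠ c → a ≠ c →
        (f (pairVec a b)).1 b = (f (pairVec b c)).1 b := by
      intro a b c hab hbc hac
      have e : pairVec a b + pairVec b c = pairVec a c := by
        ext i
        simp [pairVec]
        rw [add_assoc, ← add_assoc ((Pi.single b 1 : Fin n → ZMod 2) i), CharTwo.add_self_eq_zero, zero_add]
      have h := congrArg (fun v : ↥(evenWeight n) => v.1 b) (congrArg f e)
      simp only [map_add, AddSubgroup.coe_add, Pi.add_apply, (hfix a c hac).2 b hab.symm hbc] at h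
      exact CharTwo.add_eq_zero.mp h
    have sym : ∀ a b : Fin n, pairVec a b = pairVec b a := fun a b => Subtype.ext (add_comm _ _)
    have val : ∀ a b c : Fin n, a ≠ b → a ≠ c → (f (pairVec a b)).1 a = (f (pairVec a c)).1 a := by
      intro a b c hab hac
      by_cases hbc : b = c
      · rw [hbc]
      · have := step b a c hab.symm hac hbc
        rwa [sym b a] at this
    intro a b hab
    by_cases haa : a = a₀
    · subst haa; exact val a b b₀ hab hab₀
    · rw [val a b a₀ hab haa, (hfix a a₀ haa).1, sym a a₀]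
      exact val a₀ a b₀ (Ne.symm haa) hab₀
  let U : AddSubgroup (Fin n → ZMod 2) :=
    { carrier := {v | ∃ hv : v ∈ evenWeight n, (f ⟨v, hv⟩).1 = k • v}
      zero_mem' := ⟨zero_mem _, by rw [show (⟨0, zero_mem _⟩ : ↥(evenWeight n)) = 0 from rfl, map_zero]; simp⟩
      add_mem' := fun {v w} ⟨hv, ev⟩ ⟨hw, ew⟩ => ⟨add_mem hv hw, by
        rw [show (⟨v + w, add_mem hv hw⟩ : ↥(evenWeight n)) = ⟨v, hv⟩ + ⟨w, hw⟩ from rfl, map_add,
          AddSubgroup.coe_add, ev, ew, smul_add]⟩
      neg_mem' := fun {v} ⟨hv, ev⟩ => ⟨neg_mem hv, by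
        rw [show (⟨-v, neg_mem hv⟩ : ↥(evenWeight n)) = -⟨v, hv⟩ from rfl, map_neg,
          AddSubgroup.coe_neg, ev, smul_neg]⟩ }
  have hpair : ∀ a b : Fin n, a ≠ b → (pairVec a b).1 ∈ U := by
    intro a b hab
    refine ⟨(pairVec a b).2, funext fun x => ?_⟩
    have e : (⟨(pairVec a b).1, (pairVec a b).2⟩ : ↥(evenWeight n)) = pairVec a b := rfl
    rw [e]
    by_cases hxa : x = a
    · subst hxa; rw [hk x b hab]; simp [pairVec, hab]
    by_cases hxb : x = b
    · subst hxb; rw [← (hfix a x hab).1, hk a x hab]; simp [pairVec, hab.symm]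
    rw [(hfix a b hab).2 x hxa hxb]; simp [pairVec, hxa, hxb]
  have hall := (altperm_invariant hodd U (fun v ⟨hv, _⟩ => hv) fun σ hσ v ⟨hv, ev⟩ =>
    ⟨(Equiv.sum_comp σ⁻¹ v).trans hv, by
      have := congrArg Subtype.val (hf σ hσ ⟨v, hv⟩)
      refine this.trans ?_
      funext i
      show (f ⟨v, hv⟩).1 (σ⁻¹ i) = _
      rw [ev]
      rfl⟩).resolve_left fun h => by
    have := hpair a₀ b₀ hab₀
    rw [h, AddSubgroup.mem_bot] at this
    have := congrFun this a₀
    simp [pairVec, hab₀] at this
  have hk1 : k = 1 := by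
    refine (z2 k).resolve_left fun hk0 => ?_
    obtain ⟨_, e⟩ := hall _ (pairVec a₀ b₀).2
    rw [hk0, zero_smul] at e
    have h1 : f (pairVec a₀ b₀) = 0 := Subtype.ext e
    have h2 : pairVec a₀ b₀ = 0 := congrArg Multiplicative.toAdd
      ((EmbeddingLike.map_eq_one_iff (f := β)).mp (congrArg Multiplicative.ofAdd h1))
    have := congrArg (fun v : ↥(evenWeight n) => v.1 a₀) h2
    simp [pairVec, hab₀] at this
  refine MulEquiv.ext fun v => Multiplicative.toAdd.injective (Subtype.ext ?_)
  obtain ⟨_, e⟩ := hall _ (Multiplicative.toAdd v).2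
  rw [hk1, one_smul] at e
  exact e

theorem alt_big {n : ℕ} (hn : 5 ≤ n) (hodd : Odd n) :
    CommCommutant ((alternatingGroup (Fin n)).map (permAct n)) ∧
      BigShape ((alternatingGroup (Fin n)).map (permAct n)) := by
  have hinj := permAct_injective (n := n) (by omega)
  have hsimp : IsSimpleGroup (alternatingGroup (Fin n)) := alternatingGroup.isSimpleGroup (by simpa using hn)
  refine ⟨?_, ?_, ?_, fun N hN hnorm => ?_⟩
  · suffices h : ∀ β ∈ centralizer (((alternatingGroup (Fin n)).map (permAct n) :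
        Subgroup _) : Set (MulAut (Multiplicative ↥(evenWeight n)))), β = 1 by
      intro β hβ γ hγ
      rw [h β hβ, h γ hγ]
    exact fun β hβ => alt_centralizer hn hodd hβ
  · have h : commutator (alternatingGroup (Fin n)) = ⊤ := by
      refine (IsSimpleGroup.eq_bot_or_eq_top_of_normal _ inferInstance).resolve_left fun h => ?_
      have h5 : Nat.card (Fin n) ≥ 4 := by simp; omega
      exact absurd ((alternatingGroup.isMulCommutative_iff_card_le_three).mp
        ((_root_.commutator_eq_bot_iff (G := alternatingGroup (Fin n))).mp h)) (by rw [Nat.card_fin]; omega)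
    rw [← Subgroup.map_commutator]
    congr 1
    have := congrArg (Subgroup.map (alternatingGroup (Fin n)).subtype) h
    rw [_root_.commutator_def, Subgroup.map_commutator, ← MonoidHom.range_eq_map, Subgroup.range_subtype] at this
    exact this
  · rw [Ne, Subgroup.map_eq_bot_iff_of_injective _ hinj]
    intro h
    have : Nontrivial (alternatingGroup (Fin n)) := inferInstance
    rw [h] at this
    exact not_nontrivial _ this
  · set K := (N.comap (permAct n)).subgroupOf (alternatingGroup (Fin n)) with hK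
    have hKn : K.Normal := ⟨fun k hk g => by
      simp only [hK, mem_subgroupOf, mem_comap, Subgroup.coe_mul, InvMemClass.coe_inv, map_mul, map_inv] at hk ⊢
      exact (mem_normalizer_iff.mp (hnorm (mem_map_of_mem _ g.2)) _).mp hk⟩
    rcases IsSimpleGroup.eq_bot_or_eq_top_of_normal K hKn with h | h
    · refine Or.inr fun x hx y hy => ?_
      obtain ⟨g, hg, rfl⟩ := hN hx
      have : (⟨g, hg⟩ : alternatingGroup (Fin n)) ∈ K := mem_comap.mpr hx
      rw [h, mem_bot] at this
      rw [show g = 1 from congrArg Subtype.val this, map_one, mul_one, one_mul]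
    · refine Or.inl (le_antisymm hN ?_)
      rintro _ ⟨g, hg, rfl⟩
      exact (h ▸ mem_top (⟨g, hg⟩ : alternatingGroup (Fin n)) : _ ∈ K)

end Cfsg.Agent.BaumannBlock
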