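import Mathlib
import Cfsg.Agent.Lib.GL.Simple

/-!
The three shapes of the action of a block on its natural module: a perfect group with commutative
commutant and no normal subgroups but central ones, a group of order three on four points, and the
quaternion group on nine points.
-/

set_option autoImplicit false

namespace Cfsg.Agent.BaumannBlock

open Matrix Subgroup
open scoped commutatorElement

variable {M : Type} [CommGroup M]

/-- The automorphisms commuting with `R` commute with each other. -/
def CommCommutant (R : Subgroup (MulAut M)) : Prop :=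
  ∀ β ∈ centralizer (R : Set (MulAut M)), ∀ γ ∈ centralizer (R : Set (MulAut M)), β * γ = γ * β

/-- A perfect group all of whose proper normal subgroups are central. -/
def BigShape (R : Subgroup (MulAut M)) : Prop :=
  ⁅R, R⁆ = R ∧ R ≠ ⊥ ∧
    ∀ N ≤ R, R ≤ normalizer (N : Set (MulAut M)) → N = R ∨ N ≤ centralizer (R : Set (MulAut M))

/-- The group of order three on four points. -/
def CyclicShape (R : Subgroup (MulAut M)) : Prop :=
  Nat.card M = 4 ∧ Nat.card R = 3 ∧ ∀ β : MulAut M, β ^ 3 = 1 → β ∈ R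

/-- The quaternion group on nine points. -/
def QuatShape (R : Subgroup (MulAut M)) : Prop :=
  Nat.card M = 9 ∧ (∀ g ∈ R, g ^ 4 = 1) ∧
    (∀ g ∈ R, g ^ 2 = 1 → g = 1 ∨ ∃ w ∈ R, g = w ^ 2 ∧ w ^ 2 ≠ 1) ∧
    (∃ g ∈ R, ∃ h ∈ R, g * h ≠ h * g) ∧ (∀ β : MulAut M, β ^ 4 = 1 → β ^ 2 ≠ 1 → β ∈ R) ∧
    ∀ β ∈ centralizer (R : Set (MulAut M)), β = 1 ∨ ∀ m, β m = m⁻¹

/-! ### The group on four points -/

theorem card_four_comm [Finite M] (hM : Nat.card M = 4) {α : MulAut M} (hα : α ^ 3 = 1) (hα1 : α ≠ 1) :
    (∀ β : MulAut M, β ^ 3 = 1 → β ∈ zpowers α) ∧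
    ∀ β γ : MulAut M, β * α = α * β → γ * α = α * γ → β * γ = γ * β := by
  classical
  have := Fintype.ofFinite M
  have hc : Fintype.card {x : M // x ≠ 1} = 3 := by
    rw [Fintype.card_subtype_compl, Fintype.card_subtype_eq, ← Nat.card_eq_fintype_card, hM]
  let e := Fintype.equivFinOfCardEq hc
  let π : MulAut M →* Equiv.Perm (Fin 3) :=
    { toFun := fun β => e.permCongr (β.toEquiv.subtypeEquiv fun x => by simp)
      map_one' := by ext i; simp [Equiv.permCongr_apply]
      map_mul' := fun β γ => by ext i; simp [Equiv.permCongr_apply] }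
  have hπ : Function.Injective π := by
    intro β γ h
    ext x
    by_cases hx : x = 1
    · simp [hx]
    · have := congrArg (fun f => e.symm (f (e ⟨x, hx⟩))) h
      simpa [π, Equiv.permCongr_apply] using congrArg Subtype.val this
  have key1 : ∀ a b : Equiv.Perm (Fin 3), a ^ 3 = 1 → a ≠ 1 → b ^ 3 = 1 → b = 1 ∨ b = a ∨ b = a * a := by
    decide
  have key2 : ∀ a b c : Equiv.Perm (Fin 3), a ^ 3 = 1 → a ≠ 1 → b * a = a * b → c * a = a * c →
      b * c = c * b := by
    decide
  have h3 : π α ^ 3 = 1 := by rw [← map_pow, hα, map_one]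
  have h1 : π α ≠ 1 := fun h => hα1 (hπ (by rw [h, map_one]))
  refine ⟨fun β hβ => ?_, fun β γ hb hc => hπ ?_⟩
  · rcases key1 (π α) (π β) h3 h1 (by rw [← map_pow, hβ, map_one]) with h | h | h
    · rw [hπ (h.trans (map_one π).symm)]; exact one_mem _
    · rw [hπ h]; exact mem_zpowers α
    · rw [hπ (h.trans (map_mul π α α).symm)]; exact mul_mem (mem_zpowers α) (mem_zpowers α)
  · rw [map_mul, map_mul]
    exact key2 (π α) _ _ h3 h1 (by rw [← map_mul, hb, map_mul]) (by rw [← map_mul, hc, map_mul])

theorem shape_of_card_four [Finite M] (hM : Nat.card M = 4) {R : Subgroup (MulAut M)}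
    (hR : ∀ g ∈ R, g ^ 3 = 1) (hne : R ≠ ⊥) : CommCommutant R ∧ CyclicShape R := by
  obtain ⟨α, hαR, hα1⟩ := (Subgroup.bot_or_exists_ne_one R).resolve_left hne
  obtain ⟨h1, h2⟩ := card_four_comm hM (hR α hαR) hα1
  have hRz : R = zpowers α := le_antisymm (fun g hg => h1 g (hR g hg)) (zpowers_le.mpr hαR)
  refine ⟨fun β hβ γ hγ => h2 β γ (hβ α hαR).symm (hγ α hαR).symm, hM, ?_,
    fun β hβ => hRz ▸ h1 β hβ⟩
  rw [hRz, Nat.card_zpowers]
  exact orderOf_eq_prime (hR α hαR) hα1

/-! ### `SL₂` on its natural module -/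

variable {F : Type} [Field F]

/-- `SL₂(F)` acting on `F²`. -/
noncomputable def slAct : SpecialLinearGroup (Fin 2) F →* MulAut (Multiplicative (Fin 2 → F)) where
  toFun g := AddEquiv.toMultiplicative (Matrix.SpecialLinearGroup.toLin' g).toAddEquiv
  map_one' := by ext v; simp
  map_mul' g h := by ext v; simp

theorem slAct_apply (g : SpecialLinearGroup (Fin 2) F) (v : Multiplicative (Fin 2 → F)) :
    slAct g v = Multiplicative.ofAdd ((g : Matrix (Fin 2) (Fin 2) F).mulVec (Multiplicative.toAdd v)) :=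
  rfl

theorem slAct_injective : Function.Injective (slAct (F := F)) := by
  intro g h e
  refine Matrix.SpecialLinearGroup.ext _ _ fun i j => ?_
  have := congrArg Multiplicative.toAdd (DFunLike.congr_fun e (Multiplicative.ofAdd (Pi.single j 1)))
  simp only [slAct_apply, toAdd_ofAdd, mulVec_single_one] at this
  exact congrFun this i

theorem commCommutant_of_scalar {R : Subgroup (MulAut (Multiplicative (Fin 2 → F)))}
    (h : ∀ β ∈ centralizer (R : Set (MulAut (Multiplicative (Fin 2 → F)))),
      ∃ c : F, ∀ v, Multiplicative.toAdd (β v) = c • Multiplicative.toAdd v) : CommCommutant R := by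
  intro β hβ γ hγ
  obtain ⟨b, hb⟩ := h β hβ
  obtain ⟨c, hc⟩ := h γ hγ
  refine MulEquiv.ext fun v => Multiplicative.toAdd.injective ?_
  simp [hb, hc, smul_comm b c]

/-- The additive map of an automorphism. -/
def addPart (β : MulAut (Multiplicative (Fin 2 → F))) : (Fin 2 → F) →+ (Fin 2 → F) :=
  MonoidHom.toAdditive β.toMonoidHom

theorem addPart_apply (β : MulAut (Multiplicative (Fin 2 → F))) (v : Fin 2 → F) :
    addPart β v = Multiplicative.toAdd (β (Multiplicative.ofAdd v)) := rfl

theorem addPart_comm {β : MulAut (Multiplicative (Fin 2 → F))}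
    {R : Subgroup (MulAut (Multiplicative (Fin 2 → F)))} (hβ : β ∈ centralizer (R : Set _))
    {g : SpecialLinearGroup (Fin 2) F} (hg : slAct g ∈ R) (v : Fin 2 → F) :
    addPart β ((g : Matrix (Fin 2) (Fin 2) F).mulVec v) = (g : Matrix (Fin 2) (Fin 2) F).mulVec (addPart β v) :=
  congrArg Multiplicative.toAdd (DFunLike.congr_fun (hβ _ hg).symm (Multiplicative.ofAdd v))

theorem sl2_scalar {β : MulAut (Multiplicative (Fin 2 → F))}
    (hβ : β ∈ centralizer (((slAct (F := F)).range : Subgroup _) : Set (MulAut (Multiplicative (Fin 2 → F))))) :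
    ∃ c : F, ∀ v, Multiplicative.toAdd (β v) = c • Multiplicative.toAdd v := by
  have h01 : (0 : Fin 2) ≠ 1 := by decide
  set f := addPart β
  have hu : ∀ (t : F) (v : Fin 2 → F), f ![v 0 + t * v 1, v 1] = ![f v 0 + t * f v 1, f v 1] := fun t v => by
    have e : ∀ w : Fin 2 → F, (SpecialLinearGroup.transvection h01 t : Matrix (Fin 2) (Fin 2) F).mulVec w =
        ![w 0 + t * w 1, w 1] := fun w => by
      funext i
      fin_cases i <;>
        simp [SpecialLinearGroup.transvection_coe, Matrix.add_mulVec, Matrix.single_mulVec]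
    rw [← e, addPart_comm hβ ⟨_, rfl⟩, e]
  have hl : ∀ (t : F) (v : Fin 2 → F), f ![v 0, v 1 + t * v 0] = ![f v 0, f v 1 + t * f v 0] := fun t v => by
    have e : ∀ w : Fin 2 → F, (SpecialLinearGroup.transvection h01.symm t : Matrix (Fin 2) (Fin 2) F).mulVec w =
        ![w 0, w 1 + t * w 0] := fun w => by
      funext i
      fin_cases i <;>
        simp [SpecialLinearGroup.transvection_coe, Matrix.add_mulVec, Matrix.single_mulVec]
    rw [← e, addPart_comm hβ ⟨_, rfl⟩, e]
  set c := f ![1, 0] 0
  have z1 : f ![1, 0] 1 = 0 := by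
    have := congrFun (hu 1 ![1, 0]) 0
    simpa using this.symm
  have h1 : ∀ t : F, f ![0, t] = ![0, t * c] := fun t => by
    have h := hl t ![1, 0]
    have e1 : f ![1, t] = f ![1, 0] + f ![0, t] := by
      rw [← map_add]; congr 1; funext i; fin_cases i <;> simp
    simp only [Matrix.cons_val_zero, Matrix.cons_val_one, mul_one, zero_add, z1] at h
    rw [e1] at h
    funext i
    have := congrFun h i
    fin_cases i <;> simp [z1, c] at this ⊢ <;> exact this
  have h2 : ∀ t : F, f ![t, 0] = ![t * c, 0] := fun t => by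
    have h := hu t ![0, 1]
    have e1 : f ![t, 1] = f ![t, 0] + f ![0, 1] := by
      rw [← map_add]; congr 1; funext i; fin_cases i <;> simp
    simp only [Matrix.cons_val_zero, Matrix.cons_val_one, mul_one, zero_add] at h
    rw [e1, h1] at h
    funext i
    have := congrFun h i
    fin_cases i <;> simp at this ⊢ <;> exact this
  refine ⟨c, fun v => ?_⟩
  have e : Multiplicative.toAdd v = ![Multiplicative.toAdd v 0, 0] + ![0, Multiplicative.toAdd v 1] := by
    funext i; fin_cases i <;> simp
  have : Multiplicative.toAdd (β v) = f (Multiplicative.toAdd v) := rfl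
  rw [this]
  conv_lhs => rw [e]
  rw [map_add, h1, h2]
  funext i
  fin_cases i <;> simp [mul_comm]

theorem sl2_big [Fintype F] (h4 : 4 ≤ Nat.card F) :
    CommCommutant (slAct (F := F)).range ∧ BigShape (slAct (F := F)).range := by
  have hperf : commutator (SpecialLinearGroup (Fin 2) F) = ⊤ :=
    GL.SL_commutator_eq_top 2 le_rfl fun _ => GL.exists_sq_ne_one_of_four_le_card h4
  have hR : (slAct (F := F)).range = (⊤ : Subgroup _).map slAct := MonoidHom.range_eq_map _
  refine ⟨commCommutant_of_scalar fun β hβ => sl2_scalar hβ, ?_, ?_, fun N hN hn => ?_⟩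
  · rw [hR, ← Subgroup.map_commutator, ← commutator_def, hperf]
  · intro h
    have h1 : slAct (SpecialLinearGroup.transvection (show (0 : Fin 2) ≠ 1 by decide) (1 : F)) = 1 :=
      mem_bot.mp (h ▸ ⟨_, rfl⟩)
    have := congrArg (fun g : SpecialLinearGroup (Fin 2) F => (g : Matrix (Fin 2) (Fin 2) F) 0 1)
      (slAct_injective (h1.trans (map_one _).symm))
    simp [SpecialLinearGroup.transvection_coe] at this
  · set K := N.comap (slAct (F := F)) with hK
    have hKn : K.Normal := ⟨fun k hk g => by
      rw [hK, mem_comap, map_mul, map_mul, map_inv]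
      exact (mem_normalizer_iff.mp (hn ⟨g, rfl⟩) _).mp hk⟩
    have hNK : N = K.map slAct := (Subgroup.map_comap_eq_self hN).symm
    by_cases hc : K ≤ center (SpecialLinearGroup (Fin 2) F)
    · right
      intro x hx y hy
      obtain ⟨g, rfl⟩ := hy
      rw [hNK] at hx
      obtain ⟨k, hk, rfl⟩ := hx
      rw [← map_mul, ← map_mul, mem_center_iff.mp (hc hk) g]
    · left
      have := GL.PSL_isSimpleGroup (F := F) 2 le_rfl fun _ => h4
      rcases IsSimpleGroup.eq_bot_or_eq_top_of_normal (K.map (QuotientGroup.mk' (center _)))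
          (hKn.map _ (QuotientGroup.mk'_surjective _)) with h | h
      · exact absurd (by simpa [QuotientGroup.ker_mk'] using (Subgroup.map_eq_bot_iff K).mp h) hc
      · rw [hNK, hR]
        congr 1
        refine top_unique ?_
        rw [← hperf, commutator_def, commutator_le]
        intro a _ b _
        have hmem : ∀ x, ∃ k ∈ K, ∃ z ∈ center (SpecialLinearGroup (Fin 2) F), x = k * z := fun x => by
          obtain ⟨k, hk, e⟩ := (h ▸ mem_top (QuotientGroup.mk' _ x) :
            QuotientGroup.mk' _ x ∈ K.map (QuotientGroup.mk' (center _)))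
          exact ⟨k, hk, k⁻¹ * x, QuotientGroup.eq.mp e, by group⟩
        obtain ⟨k, hk, z, hz, rfl⟩ := hmem a
        obtain ⟨l, hl, z', hz', rfl⟩ := hmem b
        have e1 := mem_center_iff.mp hz
        have e2 := mem_center_iff.mp hz'
        have : ⁅k * z, l * z'⁆ = ⁅k, l⁆ := by
          simp only [commutatorElement_def, _root_.mul_inv_rev]
          calc k * z * (l * z') * (z⁻¹ * k⁻¹) * (z'⁻¹ * l⁻¹)
              = k * ((z * l) * z') * (z⁻¹ * k⁻¹) * (z'⁻¹ * l⁻¹) := by group
            _ = k * ((l * z) * z') * (z⁻¹ * k⁻¹) * (z'⁻¹ * l⁻¹) := by rw [e1 l]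
            _ = k * l * (z * z') * z⁻¹ * k⁻¹ * (z'⁻¹ * l⁻¹) := by group
            _ = k * l * (z' * z) * z⁻¹ * k⁻¹ * (z'⁻¹ * l⁻¹) := by rw [e2 z]
            _ = k * l * (z' * k⁻¹) * (z'⁻¹ * l⁻¹) := by group
            _ = k * l * (k⁻¹ * z') * (z'⁻¹ * l⁻¹) := by rw [e2 k⁻¹]
            _ = _ := by group
        rw [this]
        exact K.mul_mem (hKn.conj_mem l hl k |> fun h => h) (K.inv_mem hl)

/-! ### The prime fields with two and three elements -/

/-- The upper unipotent element over two elements. -/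
def u2 : SpecialLinearGroup (Fin 2) (ZMod 2) := ⟨!![1, 1; 0, 1], by decide⟩

/-- The lower unipotent element over two elements. -/
def l2 : SpecialLinearGroup (Fin 2) (ZMod 2) := ⟨!![1, 0; 1, 1], by decide⟩

/-- An element of order four over three elements. -/
def i3 : SpecialLinearGroup (Fin 2) (ZMod 3) := ⟨!![0, 1; -1, 0], by decide⟩

/-- Another element of order four over three elements. -/
def j3 : SpecialLinearGroup (Fin 2) (ZMod 3) := ⟨!![1, 1; 1, -1], by decide⟩

theorem shape_two :
    CommCommutant ((commutator (SpecialLinearGroup (Fin 2) (ZMod 2))).map slAct) ∧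
      CyclicShape ((commutator (SpecialLinearGroup (Fin 2) (ZMod 2))).map slAct) := by
  let K : Subgroup (SpecialLinearGroup (Fin 2) (ZMod 2)) :=
    { carrier := {g | g ^ 3 = 1}
      one_mem' := one_pow 3
      mul_mem' := fun {a b} => (by decide +kernel :
        ∀ a b : SpecialLinearGroup (Fin 2) (ZMod 2), a ^ 3 = 1 → b ^ 3 = 1 → (a * b) ^ 3 = 1) a b
      inv_mem' := fun {a} h => by rw [Set.mem_ofPred_eq] at h ⊢; rw [inv_pow, h, inv_one] }
  have hK : commutator (SpecialLinearGroup (Fin 2) (ZMod 2)) ≤ K := by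
    rw [commutator_def, commutator_le]
    exact fun a _ b _ => (by decide +kernel :
      ∀ a b : SpecialLinearGroup (Fin 2) (ZMod 2), (a * b * a⁻¹ * b⁻¹) ^ 3 = 1) a b
  refine shape_of_card_four (by simp) ?_ ?_
  · rintro _ ⟨g, hg, rfl⟩
    rw [← map_pow, (hK hg : g ^ 3 = 1), map_one]
  · rw [Ne, Subgroup.map_eq_bot_iff_of_injective _ slAct_injective]
    intro h
    have h1 := commutator_mem_commutator
      (mem_top u2)
      (mem_top l2)
    rw [← _root_.commutator_def, h, mem_bot] at h1
    exact absurd h1 (by decide +kernel)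

theorem shape_three :
    CommCommutant ((commutator (SpecialLinearGroup (Fin 2) (ZMod 3))).map slAct) ∧
      QuatShape ((commutator (SpecialLinearGroup (Fin 2) (ZMod 3))).map slAct) := by
  set R := (commutator (SpecialLinearGroup (Fin 2) (ZMod 3))).map slAct
  let K : Subgroup (SpecialLinearGroup (Fin 2) (ZMod 3)) :=
    { carrier := {g | g ^ 4 = 1}
      one_mem' := one_pow 4
      mul_mem' := fun {a b} => (by decide +kernel :
        ∀ a b : SpecialLinearGroup (Fin 2) (ZMod 3), a ^ 4 = 1 → b ^ 4 = 1 → (a * b) ^ 4 = 1) a b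
      inv_mem' := fun {a} h => by rw [Set.mem_ofPred_eq] at h ⊢; rw [inv_pow, h, inv_one] }
  have hK : commutator (SpecialLinearGroup (Fin 2) (ZMod 3)) ≤ K := by
    rw [commutator_def, commutator_le]
    exact fun a _ b _ => (by decide +kernel :
      ∀ a b : SpecialLinearGroup (Fin 2) (ZMod 3), (a * b * a⁻¹ * b⁻¹) ^ 4 = 1) a b
  have hin : ∀ g : SpecialLinearGroup (Fin 2) (ZMod 3), g ^ 4 = 1 →
      g ∈ commutator (SpecialLinearGroup (Fin 2) (ZMod 3)) := by
    intro g hg
    set π := (Abelianization.of : SpecialLinearGroup (Fin 2) (ZMod 3) →* _)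
    have h3 : ∀ x, π x ^ 3 = 1 := by
      let L := ((powMonoidHom 3).comp π).ker
      have : L = ⊤ := GL.SL_eq_top_of_transvection_mem fun i j hij c => by
        show π (SpecialLinearGroup.transvection hij c) ^ 3 = 1
        rw [← map_pow]
        refine (congrArg π ?_).trans (map_one π)
        rw [pow_succ, pow_succ, pow_one, ← SpecialLinearGroup.transvection_add,
          ← SpecialLinearGroup.transvection_add, show c + c + c = 0 by revert c; decide,
          SpecialLinearGroup.transvection_coeff_zero]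
      exact fun x => (this ▸ mem_top x : x ∈ L)
    rw [← Abelianization.ker_of, MonoidHom.mem_ker]
    calc π g = π g ^ 4 * (π g ^ 3)⁻¹ := by rw [pow_succ' _ 3]; group
      _ = 1 := by rw [← map_pow, hg, map_one, h3, inv_one, one_mul]
  have hi : slAct i3 ∈ R := mem_map_of_mem _ (hin _ (by decide +kernel))
  have hj : slAct j3 ∈ R := mem_map_of_mem _ (hin _ (by decide +kernel))
  have hsc : ∀ β ∈ centralizer (R : Set (MulAut (Multiplicative (Fin 2 → ZMod 3)))),
      ∃ c : ZMod 3, ∀ v, Multiplicative.toAdd (β v) = c • Multiplicative.toAdd v := by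
    intro β hβ
    set f := addPart β
    have e0 : f ![0, 1] = ![- f ![1, 0] 1, f ![1, 0] 0] := by
      have h := addPart_comm hβ hi ![1, 0]
      have e : (i3 : Matrix (Fin 2) (Fin 2) (ZMod 3)).mulVec ![1, 0] = -![0, 1] := by decide
      rw [e, map_neg] at h
      funext k
      have := congrFun (neg_eq_iff_eq_neg.mp h) k
      fin_cases k <;> simp [i3, Matrix.mulVec, dotProduct, Fin.sum_univ_two] at this ⊢ <;> exact this
    have e1 : f ![1, 0] 1 = 0 := by
      have h := addPart_comm hβ hj ![1, 0]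
      have e : (j3 : Matrix (Fin 2) (Fin 2) (ZMod 3)).mulVec ![1, 0] = ![1, 0] + ![0, 1] := by decide
      rw [e, map_add, e0] at h
      have := congrFun h 0
      simp [j3, Matrix.mulVec, dotProduct, Fin.sum_univ_two] at this
      have key : ∀ a : ZMod 3, -a = a → a = 0 := by decide
      exact key _ this
    refine ⟨f ![1, 0] 0, fun v => ?_⟩
    show f (Multiplicative.toAdd v) = _
    set w := Multiplicative.toAdd v
    have hlin : ∀ (a : ZMod 3) u, f (a • u) = a • f u := fun a u => ZMod.map_smul f a u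
    have e : w = w 0 • ![1, 0] + w 1 • ![0, 1] := by funext k; fin_cases k <;> simp
    conv_lhs => rw [e]
    rw [map_add, hlin, hlin, e0, e1]
    funext k
    fin_cases k <;> simp [e1, mul_comm]
  refine ⟨commCommutant_of_scalar hsc, by simp, ?_, ?_, ⟨_, hi, _, hj, ?_⟩, ?_, fun β hβ => ?_⟩
  · rintro _ ⟨g, hg, rfl⟩
    rw [← map_pow, (hK hg : g ^ 4 = 1), map_one]
  · rintro _ ⟨g, hg, rfl⟩ h2
    rw [← map_pow] at h2
    have h2' : g ^ 2 = 1 := slAct_injective (h2.trans (map_one _).symm)
    rcases ((by decide +kernel : ∀ g : SpecialLinearGroup (Fin 2) (ZMod 3), g ^ 2 = 1 →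
      g = 1 ∨ g = i3 ^ 2) g h2') with e | e
    · exact Or.inl (by rw [e, map_one])
    · refine Or.inr ⟨_, hi, by rw [e, map_pow], fun h => ?_⟩
      rw [← map_pow] at h
      exact absurd (slAct_injective (h.trans (map_one _).symm)) (by decide +kernel)
  · intro h
    rw [← map_mul, ← map_mul] at h
    exact absurd (slAct_injective h) (by decide +kernel)
  · intro β hβ hβ2
    set f := addPart β
    set A : Matrix (Fin 2) (Fin 2) (ZMod 3) :=
      Matrix.of fun r s => f (Pi.single s 1) r with hA
    have hf : ∀ v, f v = A.mulVec v := fun v => by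
      have e : v = v 0 • Pi.single 0 1 + v 1 • Pi.single 1 1 := by
        funext k; fin_cases k <;> simp
      conv_lhs => rw [e]
      rw [map_add, ZMod.map_smul f, ZMod.map_smul f]
      funext k
      simp [hA, Matrix.mulVec, dotProduct, Fin.sum_univ_two, mul_comm]
    have hpow : ∀ (n : ℕ) v, Multiplicative.toAdd ((β ^ n) (Multiplicative.ofAdd v)) = (A ^ n).mulVec v := by
      intro n
      induction n with
      | zero => intro v; simp
      | succ n ih =>
        intro v
        rw [pow_succ, pow_succ, MulAut.mul_apply, ← Matrix.mulVec_mulVec, ← hf, ← ih]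
        rfl
    have h4 : A ^ 4 = 1 := Matrix.mulVec_injective (funext fun v => by rw [← hpow, hβ]; simp)
    have h2 : A ^ 2 ≠ 1 := fun h => hβ2 (MulEquiv.ext fun v => Multiplicative.toAdd.injective (by
      have := hpow 2 (Multiplicative.toAdd v)
      rw [h, Matrix.one_mulVec] at this
      simpa using this))
    have hd : A.det = 1 := (by decide +kernel :
      ∀ A : Matrix (Fin 2) (Fin 2) (ZMod 3), A ^ 4 = 1 → A ^ 2 ≠ 1 → A.det = 1) A h4 h2
    obtain ⟨g, hg⟩ : ∃ g : SpecialLinearGroup (Fin 2) (ZMod 3), (g : Matrix (Fin 2) (Fin 2) (ZMod 3)) = A :=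
      ⟨⟨A, hd⟩, rfl⟩
    refine ⟨g, hin _ (Matrix.SpecialLinearGroup.ext _ _ fun r c => ?_), MulEquiv.ext fun v =>
      Multiplicative.toAdd.injective ?_⟩
    · show ((g : Matrix (Fin 2) (Fin 2) (ZMod 3)) ^ 4) r c = _
      rw [hg, h4]; rfl
    · rw [slAct_apply, toAdd_ofAdd, hg, ← hf]
      rfl
  · obtain ⟨c, hc⟩ := hsc β hβ
    rcases ((by decide : ∀ c : ZMod 3, c = 0 ∨ c = 1 ∨ c = -1) c) with rfl | rfl | rfl
    · exfalso
      have h1 : β (Multiplicative.ofAdd ![1, 0]) = 1 := Multiplicative.toAdd.injective (by simp [hc])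
      have h2 := congrArg Multiplicative.toAdd ((EmbeddingLike.map_eq_one_iff (f := β)).mp h1)
      exact absurd (congrFun h2 0) (by decide)
    · exact Or.inl (MulEquiv.ext fun v => Multiplicative.toAdd.injective (by simp [hc]))
    · exact Or.inr fun v => Multiplicative.toAdd.injective (by simp [hc])

end Cfsg.Agent.BaumannBlock
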